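import Groth.Agent.AlgSpQC.CohExtBase

/-!
# Morphisms determined on affine objects
-/

set_option autoImplicit false
set_option linter.style.haveILetI false
set_option linter.unusedSectionVars false
set_option backward.isDefEq.respectTransparency false
set_option backward.isDefEq.respectTransparency.types false
set_option maxHeartbeats 800000

universe u

open CategoryTheory Limits AlgebraicGeometry Opposite

noncomputable section

namespace Groth.Agent.AlgSpQC

variable {S : Scheme.{u}} {X : AlgSp.Sp S} {M P : AlgSp.ModEt X}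

theorem ext_of_affine {U : AlgSp.EtOver X} {s t : Sec P U}
    (h : ∀ (A : AlgSp.EtOver X) (k : A ⟶ U), Aff X A → resS P k s = resS P k t) : s = t :=
  sub_eq_zero.1 (eq_zero_of_affine (M := P) (U := U) (s - t) fun A k hA =>
    (map_sub (P.val.presheaf.map k.op).hom s t).trans (sub_eq_zero.2 (h A k hA)))

/-- A compatible family of maps on affine objects comes from a morphism. -/
theorem exists_hom_of_affine
    (v : ∀ A, Aff X A → (Sec M A →ₗ[(AlgSp.OEt X).obj.obj (op A)] Sec P A))
    (hv : ∀ {A B : AlgSp.EtOver X} (g : B ⟶ A) (hA : Aff X A) (hB : Aff X B) (x : Sec M A),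
      v B hB (resS M g x) = resS P g (v A hA x)) :
    ∃ f : M ⟶ P, ∀ A (hA : Aff X A) (x : Sec M A), appS f A x = v A hA x := by
  have hex : ∀ (U : AlgSp.EtOver X) (x : Sec M U), ∃ y : Sec P U,
      ∀ (A : AlgSp.EtOver X) (k : A ⟶ U) (hA : Aff X A), resS P k y = v A hA (resS M k x) := by
    intro U x
    obtain ⟨R, hR, hR'⟩ := (affSite X).exists_affine U
    choose Z a k hZ he using hR'
    let fam : Presieve.FamilyOfElements (P.val.presheaf ⋙ forget _) R.arrows := fun W g hg =>
      resS P (a g hg) (v (Z g hg) (hZ g hg) (resS M (k g hg) x))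
    have hfam : ∀ {W : AlgSp.EtOver X} (g : W ⟶ U) (hg : R g) (A : AlgSp.EtOver X) (b : A ⟶ W) (hA : Aff X A),
        resS P b (fam g hg) = v A hA (resS M (b ≫ g) x) := fun {W} g hg A b hA => by
      show resS P b (resS P (a g hg) _) = _
      rw [resS_comp, ← hv (b ≫ a g hg) (hZ g hg) hA, resS_comp, Category.assoc, he g hg]
    have hcomp : fam.Compatible := fun W₁ W₂ V g₁ g₂ f₁ f₂ hf₁ hf₂ e => by
      show resS P g₁ (fam f₁ hf₁) = resS P g₂ (fam f₂ hf₂)
      refine ext_of_affine fun A b hA => ?_
      refine (resS_comp P g₁ b _).trans ((hfam f₁ hf₁ A (b ≫ g₁) hA).trans ?_)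
      refine Eq.trans ?_ ((resS_comp P g₂ b _).trans (hfam f₂ hf₂ A (b ≫ g₂) hA)).symm
      rw [Category.assoc, Category.assoc, e]
    have hS := (isSheaf_iff_isSheaf_of_type (AlgSp.etTop X) (P.val.presheaf ⋙ forget _)).1
      ((Presheaf.isSheaf_iff_isSheaf_forget _ _ (forget _)).1 P.isSheaf) R hR
    refine ⟨hS.amalgamate fam hcomp, fun A b hA => ?_⟩
    refine sep P (GrothendieckTopology.pullback_stable _ b hR) fun W g hg => ?_
    show resS P g (resS P b (hS.amalgamate fam hcomp)) = resS P g (v A hA (resS M b x))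
    refine ext_of_affine fun B c hB => ?_
    refine (congrArg (resS P c) ((resS_comp P b g _).trans (hS.valid_glue hcomp (g ≫ b) hg))).trans
      ((hfam (g ≫ b) hg B c hB).trans ?_)
    refine Eq.trans ?_ (resS_comp P g c _).symm
    rw [← hv (c ≫ g) hA hB, resS_comp, Category.assoc]
  choose y hy using hex
  have hnat : ∀ {U V : AlgSp.EtOver X} (g : V ⟶ U) (x : Sec M U), y V (resS M g x) = resS P g (y U x) :=
    fun {U V} g x => ext_of_affine fun A k hA => by rw [hy V _ A k hA, resS_comp, resS_comp, hy U x A (k ≫ g) hA]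
  let lin : ∀ U, Sec M U →ₗ[(AlgSp.OEt X).obj.obj (op U)] Sec P U := fun U =>
    { toFun := y U
      map_add' := fun x x' => ext_of_affine fun A k hA => by
        rw [resS_add P, hy U _ A k hA, hy U x A k hA, hy U x' A k hA, resS_add M, map_add]
      map_smul' := fun r x => ext_of_affine fun A k hA => by
        rw [RingHom.id_apply, resS_smul P, hy U _ A k hA, hy U x A k hA, resS_smul M, map_smul] }
  let f : M ⟶ P := ⟨PresheafOfModules.Hom.mk (fun U => ModuleCat.ofHom (lin U.unop)) (fun {U V} g => by
    ext x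
    exact hnat g.unop x)⟩
  refine ⟨f, fun A hA x => ?_⟩
  refine (res_id P.val (y A x)).symm.trans ((hy A x A (𝟙 A) hA).trans ?_)
  rw [show resS M (𝟙 A) x = x from res_id M.val x]

end Groth.Agent.AlgSpQC

end
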