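import Groth.Agent.AlgSpQC.WeakAssMain
import Groth.Agent.ASp.Morph

/-!
# Chains of quasi-coherent submodules of a coherent module
-/

set_option autoImplicit false
set_option linter.style.haveILetI false
set_option linter.unusedSectionVars false
set_option backward.isDefEq.respectTransparency false
set_option backward.isDefEq.respectTransparency.types false
set_option maxHeartbeats 800000

universe u

open CategoryTheory Limits AlgebraicGeometry Opposite

noncomputable section

namespace Groth.Agent.AlgSpQC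

variable {S : Scheme.{u}} {X : AlgSp.Sp S}

/-- Global sections over the objects, as a composite. -/
theorem evalC_comp {L M N : AlgSp.ModEt X} (f : L ⟶ M) (g : M ⟶ N) (E : AlgSp.EtOver X) (x : Sec L E) :
    ((evalC (AlgSp.OEt X).obj E).map (f ≫ g).val) x =
      ((evalC (AlgSp.OEt X).obj E).map g.val) (((evalC (AlgSp.OEt X).obj E).map f.val) x) := rfl

/-- A monomorphism of quasi-coherent modules surjective on a covering family of affine charts is an isomorphism. -/
theorem isIso_of_surjective_on_cover {M N : AlgSp.ModEt X} (g : M ⟶ N) [Mono g] (hM : QC M) (hN : QC N)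
    {ι : Type*} (E : ι → AlgSp.EtOver X) (hE : ∀ i, Aff X (E i))
    (hcov : ∀ x, ∃ i, x ∈ Set.range (AlgSp.Points.ofPt (E i).obj.hom))
    (hs : ∀ i, Function.Surjective ((evalC (AlgSp.OEt X).obj (E i)).map g.val)) : IsIso g := by
  have hC := qc_cokernel g hM hN
  have h0 : IsZero (cokernel g) := by
    refine isZero_of_affine _ fun Z hZ => subsingleton_sec hC (Set.eq_empty_iff_forall_notMem.2 fun x hx => ?_) hZ
    obtain ⟨i, z, rfl⟩ := hcov x
    haveI : IsAffine (E i).obj.left.left := hE i
    obtain ⟨s, hs'⟩ := (mem_weakAssEt_iff hC z).1 hx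
    obtain ⟨t, rfl⟩ := surjective_of_epi (O := AlgSp.OEt X) (affSite X) (cokernel.π g) hN hC (hE i) s
    obtain ⟨w, rfl⟩ := hs i t
    have : ((evalC (AlgSp.OEt X).obj (E i)).map (cokernel.π g).val) (((evalC (AlgSp.OEt X).obj (E i)).map g.val) w) = 0 := by
      rw [← evalC_comp, cokernel.condition]
      rfl
    have e0 : ∀ a : Sec (cokernel g) (E i), a = 0 → (Submodule.span ((AlgSp.OEt X).obj.obj (op (E i))) {a}).annihilator = ⊤ :=
      fun a ha => by rw [ha, Submodule.span_zero_singleton, Submodule.annihilator_bot]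
    erw [e0 _ this, Ideal.minimalPrimes_top] at hs'
    exact hs'
  haveI : Epi g := Preadditive.epi_of_isZero_cokernel g h0
  exact isIso_of_mono_of_epi g

theorem chain_stabilizes (hX : AlgSp.IsAlgSpace X) (hqc : AlgSp.IsQuasiCompactSp X) (hN : AlgSp.IsLocNoethSp X)
    (M : AlgSp.ModEt X) [M.IsFinitePresentation] (N : ℕ →o Subobject M) (hq : ∀ n, QC (N n : AlgSp.ModEt X)) :
    ∃ n, ∀ m, n ≤ m → N m = N n := by
  haveI := ASp.compactSpace_of_isQuasiCompactSp hqc
  choose E z hE hz using exists_affine_chart hX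
  obtain ⟨t, ht⟩ := isCompact_univ.elim_finite_subcover (fun x => Set.range (AlgSp.Points.ofPt (E x).obj.hom))
    (fun x => (ASp.isOpenMap_ofPt_of_etale (E x).property).isOpen_range)
    (fun x _ => Set.mem_iUnion.2 ⟨x, z x, hz x⟩)
  have hM := (isQuasicoherent_iff M).1 inferInstance
  have key : ∀ x, ∃ n, ∀ m, n ≤ m →
      LinearMap.range ((evalC (AlgSp.OEt X).obj (E x)).map (N n).arrow.val).hom =
        LinearMap.range ((evalC (AlgSp.OEt X).obj (E x)).map (N m).arrow.val).hom := fun x => by
    haveI := isNoetherianRing_aff hN (hE x)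
    haveI := finite_sec M hM (hE x)
    refine monotone_stabilizes_iff_noetherian.2 (inferInstance : IsNoetherian _ (Sec M (E x)))
      ⟨fun n => LinearMap.range ((evalC (AlgSp.OEt X).obj (E x)).map (N n).arrow.val).hom, fun a b hab => ?_⟩
    rintro _ ⟨w, rfl⟩
    refine ⟨((evalC (AlgSp.OEt X).obj (E x)).map (Subobject.ofLE _ _ (N.2 hab)).val) w, ?_⟩
    exact (evalC_comp (Subobject.ofLE _ _ (N.2 hab)) (N b).arrow (E x) w).symm.trans
      (congrArg (fun φ => ((evalC (AlgSp.OEt X).obj (E x)).map φ.val) w) (Subobject.ofLE_arrow (N.2 hab)))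
  choose n hn using key
  refine ⟨t.sup n, fun m hm => ?_⟩
  have hle : N (t.sup n) ≤ N m := N.2 hm
  haveI : Mono (Subobject.ofLE _ _ hle) := inferInstance
  have := isIso_of_surjective_on_cover (Subobject.ofLE _ _ hle) (hq _) (hq _) (fun i : t => E i.1) (fun i => hE i.1)
    (fun x => by
      obtain ⟨i, hi, hx⟩ := Set.mem_iUnion₂.1 (ht (Set.mem_univ x))
      exact ⟨⟨i, hi⟩, hx⟩)
    fun i s => by
      have h1 : ((evalC (AlgSp.OEt X).obj (E i.1)).map (N m).arrow.val) s ∈
          LinearMap.range ((evalC (AlgSp.OEt X).obj (E i.1)).map (N (t.sup n)).arrow.val).hom := by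
        rw [← hn i.1 (t.sup n) (Finset.le_sup i.2), hn i.1 m ((Finset.le_sup i.2).trans hm)]
        exact ⟨s, rfl⟩
      obtain ⟨w, hw⟩ := h1
      refine ⟨w, injective_app (N m).arrow (E i.1) (Eq.trans ?_ hw)⟩
      exact (evalC_comp (Subobject.ofLE _ _ hle) (N m).arrow (E i.1) w).symm.trans
        (congrArg (fun φ => ((evalC (AlgSp.OEt X).obj (E i.1)).map φ.val) w) (Subobject.ofLE_arrow hle))
  exact (Subobject.eq_of_comm (asIso (Subobject.ofLE _ _ hle)) (Subobject.ofLE_arrow hle)).symm

end Groth.Agent.AlgSpQC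

end
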