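import Groth.Agent.AlgSpQC.MainExt
import Groth.Agent.ASp.ChartDim
import Groth.Agent.WeakAssLib.Flat
import Groth.Agent.S1233
import Groth.Prelude.Def_AlgSpModX
import Groth.Prelude.Def_AlgSpSub

/-!
# Weakly associated points of quasi-coherent modules on algebraic spaces
-/

set_option autoImplicit false
set_option linter.style.haveILetI false
set_option linter.unusedSectionVars false
set_option backward.isDefEq.respectTransparency false
set_option backward.isDefEq.respectTransparency.types false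
set_option maxHeartbeats 800000

universe u

open CategoryTheory Limits AlgebraicGeometry Opposite TensorProduct

noncomputable section

namespace Groth.Agent.AlgSpQC

variable {S : Scheme.{u}} {X : AlgSp.Sp S}

/-- The prime of a point in the lifted ring of functions. -/
def primeO (E : AlgSp.EtOver X) (x : E.obj.left.left) : PrimeSpectrum ((AlgSp.OEt X).obj.obj (op E)) :=
  PrimeSpectrum.comap (upEquiv X E).symm.toRingHom (E.obj.left.left.toSpecΓ x)

theorem toSpecΓ_eq (U : Scheme.{u}) (x : U) :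
    PrimeSpectrum.asIdeal (R := Γ(U, ⊤)) (U.toSpecΓ x) = AlgSp.primeAtPt U x := rfl

theorem primeO_asIdeal (E : AlgSp.EtOver X) (x : E.obj.left.left) :
    (primeO E x).asIdeal = (AlgSp.primeAtPt E.obj.left.left x).comap (upEquiv X E).symm.toRingHom := rfl

theorem exists_primeO {E : AlgSp.EtOver X} (hE : Aff X E) (p : PrimeSpectrum ((AlgSp.OEt X).obj.obj (op E))) :
    ∃ x, primeO E x = p := by
  haveI : IsAffine E.obj.left.left := hE
  let p₀ : Spec Γ(E.obj.left.left, ⊤) := PrimeSpectrum.comap (upEquiv X E).toRingHom p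
  refine ⟨E.obj.left.left.isoSpec.inv p₀, ?_⟩
  have : E.obj.left.left.toSpecΓ (E.obj.left.left.isoSpec.inv p₀) = p₀ := by
    rw [← Scheme.Hom.comp_apply, Scheme.isoSpec_inv_toSpecΓ]
    rfl
  rw [primeO, this]
  refine (PrimeSpectrum.comap_comp_apply _ _ _).symm.trans ?_
  rw [show (upEquiv X E).toRingHom.comp (upEquiv X E).symm.toRingHom = RingHom.id _ from
    RingHom.ext fun r => (upEquiv X E).apply_symm_apply r]
  rfl

theorem comap_primeO {E E' : AlgSp.EtOver X} (g : E' ⟶ E) (x : E'.obj.left.left) :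
    PrimeSpectrum.comap (rh (AlgSp.OEt X).obj g) (primeO E' x) = primeO E (g.hom.left.left x) := by
  refine (comap_rh_upEquiv g _).trans ?_
  rw [toSpecΓ_comp]
  rfl

theorem minimalPrimes_comap_equiv {A B : Type*} [CommRing A] [CommRing B] (e : A ≃+* B) (J : Ideal B) (q : Ideal A) :
    q ∈ (J.comap e.toRingHom).minimalPrimes ↔ q.comap e.symm.toRingHom ∈ J.minimalPrimes := by
  have h1 : ∀ q : Ideal A, (q.comap e.symm.toRingHom).comap e.toRingHom = q := fun q => by
    ext a
    simp [Ideal.mem_comap]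
  have h2 : ∀ p : Ideal B, (p.comap e.toRingHom).comap e.symm.toRingHom = p := fun p => Ideal.ext fun a => by
    rw [Ideal.mem_comap, Ideal.mem_comap]
    exact iff_of_eq (congrArg (· ∈ p) (e.apply_symm_apply a))
  have h0 : (J.comap e.toRingHom).comap e.symm.toRingHom = J := h2 J
  constructor
  · intro h
    have := Ideal.minimalPrimes_comap_of_surjective (f := e.symm.toRingHom) e.symm.surjective h
    rwa [h0] at this
  · intro h
    have := Ideal.minimalPrimes_comap_of_surjective (f := e.toRingHom) e.surjective h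
    rwa [h1] at this

theorem annSect_eq {M : AlgSp.ModEt X} {E : AlgSp.EtOver X} (s : AlgSp.sectModEt M E) :
    AlgSp.annSect s =
      (Submodule.span ((AlgSp.OEt X).obj.obj (op E)) {(show Sec M E from s)}).annihilator.comap
        (upEquiv X E).toRingHom := by
  ext a
  rw [Ideal.mem_comap, Submodule.mem_annihilator_span_singleton]
  rfl

/-- Weak associatedness on a chart in terms of the module of sections. -/
theorem isWeakAssOn_iff {M : AlgSp.ModEt X} (E : AlgSp.EtOver X) [IsAffine E.obj.left.left] (x : E.obj.left.left) :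
    AlgSp.IsWeakAssOn M E x ↔
      (primeO E x).asIdeal ∈ FlatCA.weakAss ((AlgSp.OEt X).obj.obj (op E)) (Sec M E) := by
  refine exists_congr fun s => ?_
  rw [annSect_eq, minimalPrimes_comap_equiv]
  rfl

theorem etale_rh {E E' : AlgSp.EtOver X} (g : E' ⟶ E) (hE : Aff X E) (hE' : Aff X E') :
    (rh (AlgSp.OEt X).obj g).Etale := by
  haveI : IsAffine E.obj.left.left := hE
  haveI : IsAffine E'.obj.left.left := hE'
  haveI : AlgebraicGeometry.Etale g.hom.left.left := AlgSp.EtOver.etale_left g
  have h := HasRingHomProperty.appTop (P := @AlgebraicGeometry.Etale) g.hom.left.left inferInstance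
  show ((upEquiv X E').toRingHom.comp
    (g.hom.left.left.appTop.hom.comp (upEquiv X E).symm.toRingHom)).Etale
  obtain ⟨h1, h2, h3⟩ := RingHom.Etale.iff_flat_and_formallyUnramified.1 h
  rw [RingHom.Etale.iff_flat_and_formallyUnramified]
  have ba : Function.Bijective (upEquiv X E').toRingHom := (upEquiv X E').bijective
  have bb : Function.Bijective (upEquiv X E).symm.toRingHom := (upEquiv X E).symm.bijective
  refine ⟨(RingHom.Flat.comp (RingHom.Flat.of_bijective bb) h1).comp (RingHom.Flat.of_bijective ba),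
    RingHom.FormallyUnramified.comp
      (RingHom.FormallyUnramified.comp (RingHom.FormallyUnramified.of_surjective bb.2) h2)
      (RingHom.FormallyUnramified.of_surjective ba.2),
    (RingHom.FinitePresentation.of_bijective ba).comp (h3.comp (RingHom.FinitePresentation.of_bijective bb))⟩

/-- Weak associatedness does not change along étale maps of affine charts. -/
theorem isWeakAssOn_map {M : AlgSp.ModEt X} (hM : QC M) {E E' : AlgSp.EtOver X} [IsAffine E.obj.left.left]
    [IsAffine E'.obj.left.left] (g : E' ⟶ E) (x : E'.obj.left.left) :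
    AlgSp.IsWeakAssOn M E' x ↔ AlgSp.IsWeakAssOn M E (g.hom.left.left x) := by
  rw [isWeakAssOn_iff, isWeakAssOn_iff, ← comap_primeO]
  let A := (AlgSp.OEt X).obj.obj (op E)
  let B := (AlgSp.OEt X).obj.obj (op E')
  letI : Algebra A B := (rh (AlgSp.OEt X).obj g).toAlgebra
  haveI : Algebra.Etale A B := etale_rh g ‹IsAffine _› ‹IsAffine _›
  haveI := hM g ‹IsAffine _› ‹IsAffine _›
  haveI : (primeO E' x).asIdeal.LiesOver (PrimeSpectrum.comap (rh (AlgSp.OEt X).obj g) (primeO E' x)).asIdeal := ⟨rfl⟩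
  rw [← Groth.Agent.S1233.result (A := A) (B := B) (Sec M E)
    (PrimeSpectrum.comap (rh (AlgSp.OEt X).obj g) (primeO E' x)).asIdeal (primeO E' x).asIdeal]
  rw [← WeakAssLib.weakAss_equiv (asIso ((θ (AlgSp.OEt X).obj g).app M.val)).toLinearEquiv]
  rfl

theorem ofPt_hom_left {E E' : AlgSp.EtOver X} (g : E' ⟶ E) (x : E'.obj.left.left) :
    AlgSp.Points.ofPt E'.obj.hom x = AlgSp.Points.ofPt E.obj.hom (g.hom.left.left x) := by
  have e : E'.obj.hom = (AlgSp.yon S).map g.hom.left ≫ E.obj.hom := (CostructuredArrow.w g.hom).symm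
  rw [e]
  exact ASp.ofPt_yon_map_comp g.hom.left E.obj.hom x

/-- Two affine charts at a point have a common affine refinement. -/
theorem exists_common_affine {E E' : AlgSp.EtOver X} {x : E.obj.left.left} {x' : E'.obj.left.left}
    (e : AlgSp.Points.ofPt E.obj.hom x = AlgSp.Points.ofPt E'.obj.hom x') :
    ∃ (W : AlgSp.EtOver X) (g : W ⟶ E) (g' : W ⟶ E') (w : W.obj.left.left),
      Aff X W ∧ g.hom.left.left w = x ∧ g'.hom.left.left w = x' := by
  obtain ⟨P, t, s, r, ht, hs, hw, h1, h2⟩ := ASp.exists_common_point E.property E'.property e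
  obtain ⟨V, hV, hrV, -⟩ := exists_isAffineOpen_mem_and_subset (x := r) (U := ⊤) trivial
  let z : Over.mk (V.ι ≫ P.hom) ⟶ P := Over.homMk V.ι rfl
  haveI : IsOpenImmersion z.left := inferInstanceAs (IsOpenImmersion V.ι)
  haveI := ht
  let W : AlgSp.EtOver X := AlgSp.EtOver.mk ((AlgSp.yon S).map (z ≫ t) ≫ E.obj.hom)
    ((AlgSp.repWith_isMultiplicative (S := S) @AlgebraicGeometry.Etale).comp_mem _ _
      ((AlgSp.repWith_yon_map_iff _ _).2 (inferInstanceAs (AlgebraicGeometry.Etale (z.left ≫ t.left)))) E.property)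
  refine ⟨W, AlgSp.EtOver.homMk (z ≫ t) rfl, AlgSp.EtOver.homMk (z ≫ s) ?_, ⟨r, hrV⟩, hV, h1, h2⟩
  show (AlgSp.yon S).map (z ≫ s) ≫ E'.obj.hom = (AlgSp.yon S).map (z ≫ t) ≫ E.obj.hom
  rw [Functor.map_comp, Functor.map_comp, Category.assoc, Category.assoc, hw]

/-- Weak associatedness of a point does not depend on the chart. -/
theorem isWeakAssOn_of_mem {M : AlgSp.ModEt X} (hM : QC M) {E : AlgSp.EtOver X} [IsAffine E.obj.left.left]
    (x : E.obj.left.left) (h : AlgSp.Points.ofPt E.obj.hom x ∈ AlgSp.WeakAssEt M) : AlgSp.IsWeakAssOn M E x := by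
  obtain ⟨E₀, h₀, x₀, e, hw⟩ := h
  obtain ⟨W, g, g', w, hW, rfl, rfl⟩ := exists_common_affine e
  haveI : IsAffine W.obj.left.left := hW
  haveI := h₀
  exact (isWeakAssOn_map hM g' w).1 ((isWeakAssOn_map hM g w).2 hw)

theorem mem_weakAssEt_iff {M : AlgSp.ModEt X} (hM : QC M) {E : AlgSp.EtOver X} [hE : IsAffine E.obj.left.left]
    (x : E.obj.left.left) :
    AlgSp.Points.ofPt E.obj.hom x ∈ AlgSp.WeakAssEt M ↔
      (primeO E x).asIdeal ∈ FlatCA.weakAss ((AlgSp.OEt X).obj.obj (op E)) (Sec M E) :=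
  ⟨fun h => (isWeakAssOn_iff E x).1 (isWeakAssOn_of_mem hM x h),
    fun h => ⟨E, hE, x, rfl, (isWeakAssOn_iff E x).2 h⟩⟩

/-- Sections on an arbitrary object vanish if they vanish on affine objects over it. -/
theorem eq_zero_of_affine {M : AlgSp.ModEt X} {U : AlgSp.EtOver X} (s : M.val.obj (op U))
    (h : ∀ (Z : AlgSp.EtOver X) (k : Z ⟶ U), Aff X Z → res (O := (AlgSp.OEt X).obj) M.val k s = 0) : s = 0 := by
  obtain ⟨R, hR, hR'⟩ := (affSite X).exists_affine U
  exact ((isSheaf_iff_isSheaf_of_type (AlgSp.etTop X) (M.val.presheaf ⋙ forget _)).1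
    ((Presheaf.isSheaf_iff_isSheaf_forget _ _ (forget _)).1 M.isSheaf)).isSeparated _ hR |>.ext fun W g hg => by
      obtain ⟨Z, a, k, hZ, rfl⟩ := hR' g hg
      show res (O := (AlgSp.OEt X).obj) M.val (a ≫ k) s = res (O := (AlgSp.OEt X).obj) M.val (a ≫ k) 0
      rw [res_comp, res_comp, h Z k hZ]
      exact congrArg _ (map_zero (M.val.presheaf.map k.op).hom).symm

end Groth.Agent.AlgSpQC

end
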