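import Groth.Agent.AlgSpQC.MainExt
import Groth.Agent.AlgSpQC.WeakAss

/-!
# The largest quasi-coherent submodule
-/

set_option autoImplicit false
set_option linter.style.haveILetI false
set_option linter.unusedSectionVars false
set_option backward.isDefEq.respectTransparency false
set_option backward.isDefEq.respectTransparency.types false
set_option maxHeartbeats 800000

universe u

open CategoryTheory Limits AlgebraicGeometry Opposite

noncomputable section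

namespace Groth.Agent.AlgSpQC

variable {S : Scheme.{u}} {X : AlgSp.Sp S}

/-- A morphism vanishing on affine objects vanishes. -/
theorem hom_eq_zero_of_affine {M N : AlgSp.ModEt X} (g : M ⟶ N)
    (h : ∀ E, Aff X E → ∀ s : Sec M E, ((evalC (AlgSp.OEt X).obj E).map g.val) s = 0) : g = 0 := by
  refine SheafOfModules.Hom.ext (PresheafOfModules.hom_ext fun U => ?_)
  ext s
  refine eq_zero_of_affine (M := N) (U := U.unop) (g.val.app U s) fun Z k hZ => ?_
  refine Eq.trans (PresheafOfModules.naturality_apply g.val k.op s).symm ?_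
  exact h Z hZ _

theorem qc_coimage {M N : AlgSp.ModEt X} (g : M ⟶ N) (hM : QC M) (hN : QC N) : QC (Abelian.coimage g) :=
  qc_cokernel _ (qc_kernel g hM hN) hM

theorem exists_coimage_fac {M N F : AlgSp.ModEt X} (d : M ⟶ N) (ι : N ⟶ F) [Mono ι] :
    ∃ κ : Abelian.coimage (d ≫ ι) ⟶ N, Mono κ ∧ Abelian.coimage.π (d ≫ ι) ≫ κ = d := by
  have hd : kernel.ι (d ≫ ι) ≫ d = 0 := by
    rw [← cancel_mono ι, Category.assoc, kernel.condition, zero_comp]
  refine ⟨cokernel.desc _ d hd, ?_, cokernel.π_desc _ _ _⟩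
  haveI : Mono (cokernel.desc (kernel.ι (d ≫ ι)) d hd ≫ ι) := by
    have : cokernel.desc (kernel.ι (d ≫ ι)) d hd ≫ ι = Abelian.factorThruCoimage (d ≫ ι) := by
      refine coequalizer.hom_ext ?_
      rw [cokernel.π_desc_assoc]
      exact (cokernel.π_desc _ _ _).symm
    rw [this]
    infer_instance
  exact mono_of_mono _ ι

/-- Families of subsets of the sections over affine objects. -/
abbrev Fam (F : AlgSp.ModEt X) : Type (u + 1) := ∀ E : {E : AlgSp.EtOver X // Aff X E}, Set (Sec F E.1)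

/-- The family of images of a morphism. -/
def famOf {H F : AlgSp.ModEt X} (φ : H ⟶ F) : Fam F := fun E => Set.range ((evalC (AlgSp.OEt X).obj E.1).map φ.val)

theorem exists_fac_of_fam_le {H K F : AlgSp.ModEt X} (φ : H ⟶ F) (ψ : K ⟶ F) [Mono ψ]
    (h : ∀ E, famOf φ E ⊆ famOf ψ E) : ∃ l : H ⟶ K, l ≫ ψ = φ := by
  have h0 : φ ≫ cokernel.π ψ = 0 := hom_eq_zero_of_affine _ fun E hE s => by
    obtain ⟨w, hw⟩ := h ⟨E, hE⟩ ⟨s, rfl⟩
    show ((evalC (AlgSp.OEt X).obj E).map (cokernel.π ψ).val) (((evalC (AlgSp.OEt X).obj E).map φ.val) s) = 0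
    rw [← hw]
    show ((evalC (AlgSp.OEt X).obj E).map (ψ ≫ cokernel.π ψ).val) w = 0
    rw [cokernel.condition]
    rfl
  exact ⟨_, (KernelFork.IsLimit.lift' (Abelian.monoIsKernelOfCokernel _ (cokernelIsCokernel ψ)) φ h0).2⟩

theorem exists_sum {F G : AlgSp.ModEt X} (hF : QC F) (ι : G ⟶ F) [Mono ι] {J : Type (u + 1)}
    (H₀ : J → AlgSp.ModEt X) (hH₀ : ∀ j, QC (H₀ j)) (φ₀ : ∀ j, H₀ j ⟶ G) :
    ∃ (G' : AlgSp.ModEt X) (κ : G' ⟶ G), Mono κ ∧ QC G' ∧ ∀ j, ∃ e : H₀ j ⟶ G', e ≫ κ = φ₀ j := by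
  let d : ∐ H₀ ⟶ G := Sigma.desc φ₀
  have hD : QC (∐ H₀) := qc_colimit.{u + 1, u + 1} (Discrete.functor H₀) fun j => hH₀ j.as
  obtain ⟨κ, hκ, hκd⟩ := exists_coimage_fac d ι
  refine ⟨_, κ, hκ, qc_coimage (d ≫ ι) hD hF, fun j => ⟨Sigma.ι H₀ j ≫ Abelian.coimage.π (d ≫ ι), ?_⟩⟩
  rw [Category.assoc, hκd, Sigma.ι_desc]

/-- A choice of representative for a family of images. -/
structure Rep {F G : AlgSp.ModEt X} (ι : G ⟶ F) (P : Fam F) where
  /-- the module -/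
  H : AlgSp.ModEt X
  /-- its inclusion -/
  φ : H ⟶ G
  mono : Mono φ
  qc : QC H
  fam : famOf (φ ≫ ι) = P

theorem exists_largest (F G : AlgSp.ModEt X) (hF : QC F) (ι : G ⟶ F) [Mono ι] :
    ∃ (G' : AlgSp.ModEt X) (κ : G' ⟶ G), Mono κ ∧ QC G' ∧
      ∀ H : AlgSp.ModEt X, QC H → Function.Bijective (fun φ : H ⟶ G' => φ ≫ κ) := by
  let r : ∀ P : {P : Fam F // Nonempty (Rep ι P)}, Rep ι P.1 := fun P => Classical.choice P.2
  obtain ⟨G', κ, hκ, hq, he⟩ := exists_sum hF ι (fun P => (r P).H) (fun P => (r P).qc) (fun P => (r P).φ)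
  refine ⟨G', κ, hκ, hq, fun H hH => ⟨fun a b e => (cancel_mono κ).1 e, fun φ => ?_⟩⟩
  obtain ⟨κ', hκ', hκd'⟩ := exists_coimage_fac φ ι
  let P : {P : Fam F // Nonempty (Rep ι P)} := ⟨famOf (κ' ≫ ι), ⟨⟨_, κ', hκ', qc_coimage _ hH hF, rfl⟩⟩⟩
  haveI := (r P).mono
  obtain ⟨l, hl⟩ := exists_fac_of_fam_le (κ' ≫ ι) ((r P).φ ≫ ι) fun E => (r P).fam.symm ▸ subset_rfl
  obtain ⟨e, he'⟩ := he P
  refine ⟨Abelian.coimage.π (φ ≫ ι) ≫ l ≫ e, ?_⟩
  show (_ ≫ _) ≫ κ = φ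
  rw [← Category.assoc] at hl
  rw [Category.assoc, Category.assoc, he', (cancel_mono ι).1 hl, hκd']

end Groth.Agent.AlgSpQC

end
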