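import Groth.Agent.AlgSpQC.Gen

/-!
# Quasi-coherent modules are the modules determined by base change
-/

set_option autoImplicit false
set_option linter.style.haveILetI false
set_option linter.unusedSectionVars false
set_option backward.isDefEq.respectTransparency false
set_option backward.isDefEq.respectTransparency.types false
set_option maxHeartbeats 800000

universe u

open CategoryTheory Limits Opposite TensorProduct

noncomputable section

namespace Groth.Agent.AlgSpQC

variable {C : Type (u + 1)} [Category.{u} C] {J : GrothendieckTopology C} {O : Sheaf J CommRingCat.{u + 1}}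
  {Aff : C → Prop}

/-- The affine objects of a slice. -/
def AffOver (Aff : C → Prop) (E : C) (Y : Over E) : Prop := Aff Y.left

theorem AffSite.over (H : AffSite J O.obj Aff) (E : C) : AffSite (J.over E) (O.over E).obj (AffOver Aff E) where
  flat {X Y} f hX hY := H.flat f.left hX hY
  exists_affine X := by
    obtain ⟨R, hR, h⟩ := H.exists_affine X.left
    refine ⟨(Sieve.overEquiv X).symm R, GrothendieckTopology.overEquiv_symm_mem_over J X R hR, fun Y g hg => ?_⟩
    obtain ⟨Z, a, b, hZ, e⟩ := h g.left (Sieve.overEquiv_symm_iff _ _ |>.1 hg)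
    exact ⟨Over.mk (b ≫ X.hom), Over.homMk a (by simp [reassoc_of% e]), Over.homMk b, hZ,
      Over.OverMorphism.ext e⟩
  refine_cover {X} hX R hR := by
    obtain ⟨n, Z, f, hZ, hf, hs⟩ := H.refine_cover hX _ ((J.mem_over_iff R).1 hR)
    exact ⟨n, fun i => Over.mk (f i ≫ X.hom), fun i => Over.homMk (f i), hZ,
      fun i => (Sieve.overEquiv_iff R (f i)).1 (hf i), hs⟩
  covers {X} hX {n} {Z} f hZ hs := by
    rw [J.mem_over_iff]
    refine J.superset_covering ?_ (H.covers hX (fun i => (f i).left) hZ hs)
    intro T g hg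
    obtain ⟨i, a, e⟩ := Sieve.mem_ofArrows_iff _ _ _ |>.1 hg
    rw [Sieve.overEquiv_iff]
    exact Sieve.mem_ofArrows_iff _ _ _ |>.2 ⟨i, Over.homMk a (by simp [e]), Over.OverMorphism.ext e⟩
  exists_fibre {X Y Z} f g hX hY hZ := by
    obtain ⟨W, h, k, hW, e, hpb, hpo⟩ := H.exists_fibre f.left g.left hX hY hZ
    refine ⟨Over.mk (h ≫ Y.hom), Over.homMk h, Over.homMk k ?_, hW, Over.OverMorphism.ext e, ?_, hpo⟩
    · show k ≫ Z.hom = h ≫ Y.hom
      rw [← Over.w g, ← Over.w f, ← Category.assoc, ← Category.assoc, e]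
    · exact IsPullback.of_map (Over.forget E) (Over.OverMorphism.ext e) hpb

/-- The restriction of a module to a slice. -/
abbrev overM (M : SheafOfModules.{u + 1} (RS O)) (E : C) : SheafOfModules.{u + 1} (RS (O.over E)) := M.over E

theorem θ_over (M : SheafOfModules.{u + 1} (RS O)) (E : C) {X Y : Over E} (f : Y ⟶ X) :
    ⇑((θ (O.over E).obj f).app (overM M E).val) = ⇑((θ O.obj f.left).app M.val) := by
  funext w
  induction w using TensorProduct.induction_on with
  | zero => exact (map_zero _).trans (map_zero ((θ O.obj f.left).app M.val).hom).symm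
  | tmul s x => exact (θ_tmul (overM M E).val f s x).trans (θ_tmul M.val f.left s x).symm
  | add a b ha hb =>
    exact ((map_add ((θ (O.over E).obj f).app (overM M E).val).hom a b).trans (congrArg₂ (· + ·) ha hb)).trans
      (map_add ((θ O.obj f.left).app M.val).hom a b).symm

theorem BC.over {M : SheafOfModules.{u + 1} (RS O)} (hM : BC Aff M) (E : C) : BC (AffOver Aff E) (overM M E) :=
  fun X Y f hX hY => by
  rw [ConcreteCategory.isIso_iff_bijective, θ_over]
  exact hM.bijective f.left hX hY

theorem isBCUnder_of_over {M : SheafOfModules.{u + 1} (RS O)} (E : C) (hM : BC (AffOver Aff E) (overM M E)) :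
    IsBCUnder (O := O.obj) Aff M.val E := fun X Y f a hX hY => by
  rw [ConcreteCategory.isIso_iff_bijective]
  have := hM.bijective (Over.homMk f : Over.mk (f ≫ a) ⟶ Over.mk a) hX hY
  rwa [θ_over] at this

variable (H : AffSite J O.obj Aff) [HasSheafify J AddCommGrpCat.{u + 1}]
  [J.WEqualsLocallyBijective AddCommGrpCat.{u + 1}] [∀ E, HasSheafify (J.over E) AddCommGrpCat.{u + 1}]
  [∀ E, (J.over E).WEqualsLocallyBijective AddCommGrpCat.{u + 1}]

include H in
/-- Quasi-coherent modules are determined by base change. -/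
theorem bc_of_isQuasicoherent (M : SheafOfModules.{u + 1} (RS O)) [hq : M.IsQuasicoherent] : BC Aff M := by
  obtain ⟨q⟩ := hq.nonempty_quasicoherentData
  refine isBC_of_local H M.val M.isSheaf fun X _ => ⟨_, q.coversTop X, fun Y g hg _ => ?_⟩
  obtain ⟨i, ⟨a⟩⟩ := (Sieve.mem_ofObjects_iff _ _).1 hg
  exact fun A B f b hA hB => isBCUnder_of_over (q.X i) (bc_of_presentation (H.over (q.X i)) (q.presentation i))
    f (b ≫ a) hA hB

include H in
theorem coversTop_aff : J.CoversTop fun E : {E : C // Aff E} => E.1 := fun X => by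
  obtain ⟨R, hR, h⟩ := H.exists_affine X
  refine J.superset_covering (fun Y g hg => ?_) hR
  obtain ⟨Z, a, b, hZ, e⟩ := h g hg
  exact ⟨⟨Z, hZ⟩, ⟨a⟩⟩

include H in
/-- Modules determined by base change are quasi-coherent. -/
theorem isQuasicoherent_of_bc {M : SheafOfModules.{u + 1} (RS O)} (hM : BC Aff M) : M.IsQuasicoherent :=
  SheafOfModules.QuasicoherentData.isQuasicoherent
    { I := {E : C // Aff E}
      X := fun E => E.1
      coversTop := coversTop_aff H
      presentation := fun E => (nonempty_presentation (H.over E.1) Over.mkIdTerminal (hM.over E.1) E.2).some }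

include H in
/-- Over Noetherian affines, finitely generated modules are finitely presented. -/
theorem isFinitePresentation_of_bc {M : SheafOfModules.{u + 1} (RS O)} (hM : BC Aff M)
    (hN : ∀ E, Aff E → IsNoetherianRing (O.obj.obj (op E)))
    (hfin : ∀ E, Aff E → Module.Finite (O.obj.obj (op E)) ((evalC O.obj E).obj M.val)) :
    M.IsFinitePresentation := by
  have h : ∀ E : {E : C // Aff E}, ∃ p : (overM M E.1).Presentation, p.IsFinite := fun E => by
    haveI : IsNoetherianRing ((O.over E.1).obj.obj (op (Over.mk (𝟙 E.1)))) := hN E.1 E.2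
    haveI : Module.Finite ((O.over E.1).obj.obj (op (Over.mk (𝟙 E.1))))
        ((evalC (O.over E.1).obj (Over.mk (𝟙 E.1))).obj (overM M E.1).val) := hfin E.1 E.2
    exact exists_finite_presentation (H.over E.1) Over.mkIdTerminal (hM.over E.1) E.2
  choose p hp using h
  exact ⟨⟨{ I := {E : C // Aff E}, X := fun E => E.1, coversTop := coversTop_aff H, presentation := p },
    ⟨fun E => hp E⟩⟩⟩

include H in
/-- Finite type gives finitely generated sections over affines. -/
theorem finite_of_isFiniteType {M : SheafOfModules.{u + 1} (RS O)} (hM : BC Aff M) [hft : M.IsFiniteType]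
    {X : C} (hX : Aff X) : Module.Finite (O.obj.obj (op X)) ((evalC O.obj X).obj M.val) := by
  obtain ⟨σ, hσ⟩ := hft.exists_localGeneratorsData
  obtain ⟨n, Z, z, hZ, hzS, hzs⟩ := H.refine_cover hX _ (σ.coversTop X)
  have hfin : ∀ i, Module.Finite (O.obj.obj (op (Z i))) ((evalC O.obj (Z i)).obj M.val) := fun i => by
    obtain ⟨j, ⟨a⟩⟩ := (Sieve.mem_ofObjects_iff _ _).1 (hzS i)
    let g := σ.generators j
    haveI : Finite g.I := (hσ.isFiniteType j).finite
    haveI := finite_free (H.over (σ.X j)) g.I (Over.mk a)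
    have hs := surjective_of_epi (H.over (σ.X j)) g.π (bc_free (H.over (σ.X j)) _) (hM.over (σ.X j))
      (X := Over.mk a) (hZ i)
    haveI : Module.Finite ((O.over (σ.X j)).obj.obj (op (Over.mk a))) ((evalC (O.over (σ.X j)).obj (Over.mk a)).obj
        ((SheafOfModules.forget (RS (O.over (σ.X j)))).obj (SheafOfModules.free g.I))) := ‹Module.Finite _ _›
    exact Module.Finite.of_surjective ((evalC (O.over (σ.X j)).obj (Over.mk a)).map
      ((SheafOfModules.forget (RS (O.over (σ.X j)))).map g.π)).hom hs
  let R := O.obj.obj (op X)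
  let N := (evalC O.obj X).obj M.val
  let B := fun i : ULift.{u + 1} (Fin n) => (O.obj.obj (op (Z i.down)) : Type (u + 1))
  letI : ∀ i, Algebra R (B i) := fun i => (rh O.obj (z i.down)).toAlgebra
  haveI : Module.FaithfullyFlat R (∀ i, B i) := faithfullyFlat_family (f := z) H hX hZ hzs
  haveI : ∀ i, Module.Finite (B i) (B i ⊗[R] N) := fun i => by
    haveI := hM (z i.down) hX (hZ _)
    haveI := hfin i.down
    exact Module.Finite.equiv (asIso ((θ O.obj (z i.down)).app M.val)).toLinearEquiv.symm
  haveI : Module.Finite (∀ i, B i) ((∀ i, B i) ⊗[R] N) := by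
    classical
    choose m s hs using fun i => Module.Finite.exists_fin (R := B i) (M := B i ⊗[R] N)
    choose k b y hy using fun (p : Σ i, Fin (m i)) => TensorProduct.exists_sum_tmul_eq (s p.1 p.2)
    refine ⟨⟨(Finset.univ : Finset (Σ p : Σ i, Fin (m i), Fin (k p))).image
      (fun q => (1 : ∀ i, B i) ⊗ₜ[R] y q.1 q.2), top_le_iff.1 fun w _ => ?_⟩⟩
    let V := Submodule.span (∀ i, B i) (↑((Finset.univ : Finset (Σ p : Σ i, Fin (m i), Fin (k p))).image
      (fun q => (1 : ∀ i, B i) ⊗ₜ[R] y q.1 q.2)) : Set ((∀ i, B i) ⊗[R] N))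
    have hy1 : ∀ (q : Σ p : Σ i, Fin (m i), Fin (k p)) (c : ∀ i, B i), c ⊗ₜ[R] y q.1 q.2 ∈ V := fun q c => by
      have := V.smul_mem c (Submodule.subset_span (Finset.mem_coe.2 (Finset.mem_image.2 ⟨q, Finset.mem_univ _, rfl⟩)))
      rwa [TensorProduct.smul_tmul', smul_eq_mul, mul_one] at this
    let e : ∀ i, B i →ₗ[R] (∀ i, B i) := fun i => LinearMap.single R B i
    have key : ∀ i (v : B i ⊗[R] N), (e i).rTensor N v ∈ V := by
      intro i v
      have hv : v ∈ Submodule.span (B i) (Set.range (s i)) := hs i ▸ Submodule.mem_top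
      suffices ∀ c : B i, (e i).rTensor N (c • v) ∈ V by simpa using this 1
      induction hv using Submodule.span_induction with
      | mem v hv =>
        obtain ⟨l, rfl⟩ := hv
        intro c
        rw [hy ⟨i, l⟩, Finset.smul_sum, map_sum]
        refine Submodule.sum_mem _ fun q _ => ?_
        rw [TensorProduct.smul_tmul', LinearMap.rTensor_tmul]
        exact hy1 ⟨⟨i, l⟩, q⟩ _
      | zero => intro c; simp
      | add a b _ _ ha hb => intro c; rw [smul_add, map_add]; exact V.add_mem (ha c) (hb c)
      | smul r a _ ha => intro c; rw [smul_smul]; exact ha _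
    induction w using TensorProduct.induction_on with
    | zero => exact V.zero_mem
    | tmul c x =>
      rw [show c = ∑ i, e i (c i) from (Finset.univ_sum_single c).symm, TensorProduct.sum_tmul]
      exact Submodule.sum_mem _ fun i _ => by
        rw [← LinearMap.rTensor_tmul N (e i) x (c i)]; exact key i _
    | add a b ha hb => exact V.add_mem (ha trivial) (hb trivial)
  exact Module.Finite.of_finite_tensorProduct_of_faithfullyFlat (R := R) (M := N) (∀ i, B i)

end Groth.Agent.AlgSpQC

end
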