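import Groth.Agent.AlgSpQC.Etale
import Groth.Agent.AlgSpQC.Qcoh
import Groth.Agent.ASp.NoethFibre

/-!
# Quasi-coherent and coherent modules on the small étale site of an algebraic space
-/

set_option autoImplicit false
set_option linter.style.haveILetI false
set_option linter.unusedSectionVars false
set_option backward.isDefEq.respectTransparency false
set_option backward.isDefEq.respectTransparency.types false
set_option maxHeartbeats 800000

universe u

open CategoryTheory Limits AlgebraicGeometry Opposite

noncomputable section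

namespace Groth.Agent.AlgSpQC

variable {S : Scheme.{u}} {X : AlgSp.Sp S}

/-- Base change on the affine objects of the small étale site. -/
abbrev QC (M : AlgSp.ModEt X) : Prop := BC (O := AlgSp.OEt X) (Aff X) M

theorem isQuasicoherent_iff (M : AlgSp.ModEt X) : M.IsQuasicoherent ↔ QC M :=
  ⟨fun h => bc_of_isQuasicoherent (O := AlgSp.OEt X) (affSite X) M (hq := h),
    isQuasicoherent_of_bc (O := AlgSp.OEt X) (affSite X)⟩

theorem isNoetherianRing_aff (hX : AlgSp.IsLocNoethSp X) {E : AlgSp.EtOver X} (hE : Aff X E) :
    IsNoetherianRing ((AlgSp.OEt X).obj.obj (op E)) := by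
  haveI : IsAffine E.obj.left.left := hE
  haveI : IsLocallyNoetherian E.obj.left.left := ASp.isLocallyNoetherian_of_chart hX E.property
  haveI : IsNoetherianRing Γ(E.obj.left.left, ⊤) :=
    IsLocallyNoetherian.component_noetherian ⟨⊤, isAffineOpen_top _⟩
  exact isNoetherianRing_of_ringEquiv _ (upEquiv X E)

/-- Sections on an affine object. -/
abbrev Sec (M : AlgSp.ModEt X) (E : AlgSp.EtOver X) : ModuleCat.{u + 1} ((AlgSp.OEt X).obj.obj (op E)) :=
  (evalC (AlgSp.OEt X).obj E).obj M.val

theorem finite_sec (M : AlgSp.ModEt X) [M.IsFiniteType] (hM : QC M) {E : AlgSp.EtOver X} (hE : Aff X E) :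
    Module.Finite ((AlgSp.OEt X).obj.obj (op E)) (Sec M E) :=
  finite_of_isFiniteType (O := AlgSp.OEt X) (affSite X) hM hE

theorem isFinitePresentation_of_finite (hX : AlgSp.IsLocNoethSp X) {M : AlgSp.ModEt X} (hM : QC M)
    (h : ∀ E, Aff X E → Module.Finite ((AlgSp.OEt X).obj.obj (op E)) (Sec M E)) : M.IsFinitePresentation :=
  isFinitePresentation_of_bc (O := AlgSp.OEt X) (affSite X) hM (fun _ hE => isNoetherianRing_aff hX hE) h

theorem injective_app {M N : AlgSp.ModEt X} (g : M ⟶ N) [Mono g] (E : AlgSp.EtOver X) :
    Function.Injective ((evalC (AlgSp.OEt X).obj E).map g.val) := by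
  refine (ModuleCat.mono_iff_injective _).1 ?_
  haveI : Mono g.val := by
    haveI : PreservesLimitsOfShape WalkingCospan (SheafOfModules.forget.{u + 1} (AlgSp.OEtRing X)) := inferInstance
    exact (SheafOfModules.forget (AlgSp.OEtRing X)).map_mono g
  haveI : PreservesLimitsOfShape WalkingCospan (evalC (AlgSp.OEt X).obj E) :=
    inferInstanceAs (PreservesLimitsOfShape WalkingCospan (PresheafOfModules.evaluation (AlgSp.OEtRing X).obj (op E)))
  exact (evalC (AlgSp.OEt X).obj E).map_mono _

theorem isFinitePresentation_of_mono (hX : AlgSp.IsLocNoethSp X) {M N : AlgSp.ModEt X} (g : N ⟶ M) [Mono g]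
    [M.IsFinitePresentation] (hN : QC N) : N.IsFinitePresentation :=
  isFinitePresentation_of_finite hX hN fun E hE => by
    haveI := finite_sec M ((isQuasicoherent_iff M).1 inferInstance) hE
    haveI := isNoetherianRing_aff hX hE
    exact Module.Finite.of_injective ((evalC (AlgSp.OEt X).obj E).map g.val).hom (injective_app g E)

theorem isFinitePresentation_of_epi (hX : AlgSp.IsLocNoethSp X) {M N : AlgSp.ModEt X} (g : M ⟶ N) [Epi g]
    [M.IsFinitePresentation] (hN : QC N) : N.IsFinitePresentation :=
  isFinitePresentation_of_finite hX hN fun E hE => by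
    have hM := (isQuasicoherent_iff M).1 inferInstance
    haveI := finite_sec M hM hE
    exact Module.Finite.of_surjective ((evalC (AlgSp.OEt X).obj E).map g.val).hom
      (surjective_of_epi (O := AlgSp.OEt X) (affSite X) g hM hN hE)

end Groth.Agent.AlgSpQC

end
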