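import Groth.Agent.ASp.EtPush
import Groth.Agent.AlgSpQC.Main
import Groth.Agent.S9987

/-!
# Direct images of modules along closed immersions are fully faithful
-/

set_option autoImplicit false
set_option linter.style.haveILetI false
set_option linter.unusedSectionVars false
set_option backward.isDefEq.respectTransparency false
set_option backward.isDefEq.respectTransparency.types false
set_option maxHeartbeats 800000

universe u

open CategoryTheory Limits AlgebraicGeometry Opposite

noncomputable section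

namespace Groth.Agent.AlgSpQC

variable {S : Scheme.{u}} {Z X : AlgSp.Space S} (i : Z ⟶ X) (hi : AlgSp.RepWith @IsClosedImmersion i.hom)

theorem sep {Y : AlgSp.Sp S} (M : AlgSp.ModEt Y) {U : AlgSp.EtOver Y} {R : Sieve U} (hR : R ∈ AlgSp.etTop Y U)
    {s t : M.val.obj (op U)} (h : ∀ (V : AlgSp.EtOver Y) (g : V ⟶ U), R g →
      res (O := (AlgSp.OEt Y).obj) M.val g s = res (O := (AlgSp.OEt Y).obj) M.val g t) : s = t :=
  ((isSheaf_iff_isSheaf_of_type (AlgSp.etTop Y) (M.val.presheaf ⋙ forget _)).1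
    ((Presheaf.isSheaf_iff_isSheaf_forget _ _ (forget _)).1 M.isSheaf)).isSeparated _ hR |>.ext fun V g hg => h V g hg

theorem bcIntInj_of_closedImmersion : ASp.BcIntInj hi.1 := fun E => by
  haveI : IsClosedImmersion (AlgSp.EtOver.bcπ hi.1 E).left := hi.2 _ _ _ (hi.1.isPullback E.obj.hom)
  exact ⟨inferInstance, (AlgSp.EtOver.bcπ hi.1 E).left.isClosedEmbedding.injective⟩

theorem faithful_pushModEt : (AlgSp.pushModEt hi.1).Faithful where
  map_injective {G G'} a b e := by
    haveI := ASp.faithful_pushEt X.property (bcIntInj_of_closedImmersion i hi) AddCommGrpCat.{u + 1}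
    exact (AlgSp.toAbEt Z.obj).map_injective ((AlgSp.pushEt hi.1 AddCommGrpCat.{u + 1}).map_injective
      (congrArg (fun k => (AlgSp.toAbEt X.obj).map k) e))

theorem full_pushModEt : (AlgSp.pushModEt hi.1).Full where
  map_surjective {G G'} ψ := by
    have h := bcIntInj_of_closedImmersion i hi
    haveI := ASp.full_pushEt X.property h AddCommGrpCat.{u + 1}
    haveI := ASp.isCoverDense_bc X.property h
    obtain ⟨φ, hφ⟩ := (AlgSp.pushEt hi.1 AddCommGrpCat.{u + 1}).map_surjective
      (X := (AlgSp.toAbEt Z.obj).obj G) (Y := (AlgSp.toAbEt Z.obj).obj G') ((AlgSp.toAbEt X.obj).map ψ)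
    have hψ : ∀ (E : AlgSp.EtOver X.obj) (x : G.val.obj (op ((AlgSp.EtOver.bc hi.1).obj E))),
        φ.hom.app (op ((AlgSp.EtOver.bc hi.1).obj E)) x = ψ.val.app (op E) x :=
      fun E x => congrArg (fun k => k.hom.app (op E) x) hφ
    have hnat : ∀ {U V : AlgSp.EtOver Z.obj} (g : V ⟶ U) (x : G.val.obj (op U)),
        φ.hom.app (op V) (res (O := (AlgSp.OEt Z.obj).obj) G.val g x) =
          res (O := (AlgSp.OEt Z.obj).obj) G'.val g (φ.hom.app (op U) x) :=
      fun g x => NatTrans.naturality_apply φ.hom g.op x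
    have hlin : ∀ (E : AlgSp.EtOver X.obj) (a : (AlgSp.OEtRing Z.obj).obj.obj (op ((AlgSp.EtOver.bc hi.1).obj E)))
        (x : G.val.obj (op ((AlgSp.EtOver.bc hi.1).obj E))),
        φ.hom.app (op _) (a • x) = a • (show G'.val.obj (op _) from φ.hom.app (op _) x) := by
      intro E a x
      refine sep ((AlgSp.pushModEt hi.1).obj G') (U := E)
        ((Groth.Agent.S9987.result i hi).imageSieve_mem (U := E) a) fun E' g hg => ?_
      obtain ⟨b, hb⟩ := hg
      show res (O := (AlgSp.OEt Z.obj).obj) G'.val ((AlgSp.EtOver.bc hi.1).map g) _ =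
        res (O := (AlgSp.OEt Z.obj).obj) G'.val ((AlgSp.EtOver.bc hi.1).map g) _
      rw [← hnat]
      refine Eq.trans ?_ (G'.val.map_smul ((AlgSp.EtOver.bc hi.1).map g).op a _).symm
      refine (congrArg (φ.hom.app (op _)) (G.val.map_smul ((AlgSp.EtOver.bc hi.1).map g).op a x)).trans ?_
      refine Eq.trans ?_ (congrArg (_ • ·) (hnat ((AlgSp.EtOver.bc hi.1).map g) x))
      rw [hψ, hψ]
      have hb' : ((AlgSp.OEtRing Z.obj).obj.map ((AlgSp.EtOver.bc hi.1).map g).op) a =
          (AlgSp.bcRingHom hi.1).hom.app (op E') b := hb.symm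
      rw [hb']
      exact (ψ.val.app (op E')).hom.map_smul b _
    refine ⟨⟨PresheafOfModules.homMk φ.hom fun U a x => ?_⟩, ?_⟩
    · refine sep G' (U := U.unop)
        ((AlgSp.EtOver.bc hi.1).is_cover_of_isCoverDense (AlgSp.etTop Z.obj) U.unop) fun V k hk => ?_
      obtain ⟨⟨E, l, m, rfl⟩⟩ := hk
      show res (O := (AlgSp.OEt Z.obj).obj) G'.val (l ≫ m) _ = res (O := (AlgSp.OEt Z.obj).obj) G'.val (l ≫ m) _
      rw [res_comp, res_comp]
      refine congrArg (res (O := (AlgSp.OEt Z.obj).obj) G'.val l) ?_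
      refine (hnat m (show G.val.obj (op U.unop) from a • x)).symm.trans ?_
      refine (congrArg (φ.hom.app (op _)) (G.val.map_smul m.op a x)).trans ?_
      refine (hlin E _ _).trans ?_
      refine Eq.trans ?_ (G'.val.map_smul m.op a _).symm
      exact congrArg (_ • ·) (hnat m x)
    · exact (AlgSp.toAbEt X.obj).map_injective hφ

theorem isIso_counit_pushModEt [(SheafOfModules.pushforward.{u + 1} (AlgSp.bcRingHom hi.1)).IsRightAdjoint]
    (G : AlgSp.ModEt Z.obj) : IsIso ((AlgSp.pullPushAdjModEt hi.1).counit.app G) := by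
  haveI := full_pushModEt i hi
  haveI := faithful_pushModEt i hi
  infer_instance

end Groth.Agent.AlgSpQC

end
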