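import Groth.Agent.AlgSpQC.PushWeakAss
import Groth.Prelude.Def_AlgSp4

/-!
# Finite type and finite presentation of direct images along finite morphisms
-/

set_option autoImplicit false
set_option linter.style.haveILetI false
set_option linter.unusedSectionVars false
set_option backward.isDefEq.respectTransparency false
set_option backward.isDefEq.respectTransparency.types false
set_option maxHeartbeats 800000

universe u

open CategoryTheory Limits AlgebraicGeometry Opposite TensorProduct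

noncomputable section

namespace Groth.Agent.AlgSpQC

theorem finitePresentation_restrict_iff {R A N : Type u} [CommRing R] [CommRing A] [Algebra R A] [AddCommGroup N]
    [Module A N] [Module R N] [IsScalarTower R A N] [Module.Finite R A] [Module.FinitePresentation R A] :
    Module.FinitePresentation R N ↔ Module.FinitePresentation A N := by
  refine ⟨fun _ => ?_, fun _ => Module.FinitePresentation.trans (R := R) (M := N) A⟩
  haveI : Module.Finite A N := Module.Finite.of_restrictScalars_finite R A N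
  obtain ⟨n, π, hπ⟩ := Module.Finite.exists_fin' A N
  refine Module.finitePresentation_of_surjective π hπ ?_
  have h : (LinearMap.ker (π.restrictScalars R)).FG := Module.FinitePresentation.fg_ker (π.restrictScalars R) hπ
  rw [LinearMap.ker_restrictScalars] at h
  rw [← Module.Finite.iff_fg] at h ⊢
  haveI : Module.Finite R (LinearMap.ker π) := h
  exact Module.Finite.of_restrictScalars_finite R A _

section Local

variable {S : Scheme.{u}} {X : AlgSp.Sp S}

theorem exists_family {Z : AlgSp.EtOver X} (hZ : Aff X Z) (P : AlgSp.EtOver X → Prop)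
    (h : ∀ z : Z.obj.left.left, ∃ (W : AlgSp.EtOver X) (g : W ⟶ Z),
      Aff X W ∧ z ∈ Set.range g.hom.left.left ∧ P W) :
    ∃ (n : ℕ) (W : Fin n → AlgSp.EtOver X) (g : ∀ i, W i ⟶ Z), (∀ i, Aff X (W i)) ∧ (∀ i, P (W i)) ∧
      ∀ p : PrimeSpectrum ((AlgSp.OEt X).obj.obj (op Z)), ∃ (i : Fin n)
        (q : PrimeSpectrum ((AlgSp.OEt X).obj.obj (op (W i)))),
        PrimeSpectrum.comap (rh (AlgSp.OEt X).obj (g i)) q = p := by
  haveI : IsAffine Z.obj.left.left := hZ
  choose W g hW hz hP using h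
  obtain ⟨t, ht⟩ := isCompact_univ.elim_finite_subcover (fun z => Set.range (g z).hom.left.left)
    (fun z => haveI := AlgSp.EtOver.etale_left (g z); (g z).hom.left.left.isOpenMap.isOpen_range)
    (fun z _ => Set.mem_iUnion.2 ⟨z, hz z⟩)
  refine ⟨t.card, fun k => W (t.equivFin.symm k), fun k => g _, fun k => hW _, fun k => hP _, fun p => ?_⟩
  obtain ⟨x, rfl⟩ := exists_primeO hZ p
  obtain ⟨z, hzt, v, hv⟩ := Set.mem_iUnion₂.1 (ht (Set.mem_univ x))
  obtain ⟨k, rfl⟩ : ∃ k, (t.equivFin.symm k : Z.obj.left.left) = z :=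
    ⟨t.equivFin ⟨z, hzt⟩, by rw [Equiv.symm_apply_apply]⟩
  exact ⟨k, primeO _ v, (comap_primeO (g _) v).trans (congrArg _ hv)⟩

theorem finite_sec_local {M : AlgSp.ModEt X} (hM : QC M) {Z : AlgSp.EtOver X} (hZ : Aff X Z)
    (h : ∀ z : Z.obj.left.left, ∃ (W : AlgSp.EtOver X) (g : W ⟶ Z), Aff X W ∧ z ∈ Set.range g.hom.left.left ∧
      Module.Finite ((AlgSp.OEt X).obj.obj (op W)) (Sec M W)) :
    Module.Finite ((AlgSp.OEt X).obj.obj (op Z)) (Sec M Z) := by
  obtain ⟨n, W, g, hW, hP, hs⟩ := exists_family hZ (fun W => Module.Finite ((AlgSp.OEt X).obj.obj (op W)) (Sec M W)) h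
  let B := fun i : ULift.{u + 1} (Fin n) => ((AlgSp.OEt X).obj.obj (op (W i.down)) : Type (u + 1))
  letI : ∀ i, Algebra ((AlgSp.OEt X).obj.obj (op Z)) (B i) := fun i => (rh (AlgSp.OEt X).obj (g i.down)).toAlgebra
  haveI : Module.FaithfullyFlat ((AlgSp.OEt X).obj.obj (op Z)) (∀ i, B i) :=
    faithfullyFlat_family (f := g) (affSite X) hZ hW hs
  haveI : ∀ i, Module.Finite (B i) (B i ⊗[(AlgSp.OEt X).obj.obj (op Z)] Sec M Z) := fun i => by
    haveI := hM (g i.down) hZ (hW _)
    haveI := hP i.down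
    exact Module.Finite.equiv (asIso ((θ (AlgSp.OEt X).obj (g i.down)).app M.val)).toLinearEquiv.symm
  exact finite_of_family (R := (AlgSp.OEt X).obj.obj (op Z)) (N := Sec M Z) B

theorem finitePresentation_sec_local {M : AlgSp.ModEt X} (hM : QC M) {Z : AlgSp.EtOver X} (hZ : Aff X Z)
    (h : ∀ z : Z.obj.left.left, ∃ (W : AlgSp.EtOver X) (g : W ⟶ Z), Aff X W ∧ z ∈ Set.range g.hom.left.left ∧
      Module.FinitePresentation ((AlgSp.OEt X).obj.obj (op W)) (Sec M W)) :
    Module.FinitePresentation ((AlgSp.OEt X).obj.obj (op Z)) (Sec M Z) := by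
  obtain ⟨n, W, g, hW, hP, hs⟩ := exists_family hZ
    (fun W => Module.FinitePresentation ((AlgSp.OEt X).obj.obj (op W)) (Sec M W)) h
  let B := fun i : ULift.{u + 1} (Fin n) => ((AlgSp.OEt X).obj.obj (op (W i.down)) : Type (u + 1))
  letI : ∀ i, Algebra ((AlgSp.OEt X).obj.obj (op Z)) (B i) := fun i => (rh (AlgSp.OEt X).obj (g i.down)).toAlgebra
  haveI : ∀ i, Module.Flat ((AlgSp.OEt X).obj.obj (op Z)) (B i) := fun i => (affSite X).flat (g i.down) hZ (hW _)
  haveI : Module.FaithfullyFlat ((AlgSp.OEt X).obj.obj (op Z)) (∀ i, B i) :=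
    faithfullyFlat_family (f := g) (affSite X) hZ hW hs
  haveI : ∀ i, Module.FinitePresentation (B i) (B i ⊗[(AlgSp.OEt X).obj.obj (op Z)] Sec M Z) := fun i => by
    haveI := hM (g i.down) hZ (hW _)
    haveI : Module.FinitePresentation (B i) (Sec M (W i.down)) := hP i.down
    exact Module.FinitePresentation.of_equiv
      (asIso ((θ (AlgSp.OEt X).obj (g i.down)).app M.val)).toLinearEquiv.symm
  exact finitePresentation_of_family (R := (AlgSp.OEt X).obj.obj (op Z)) (N := Sec M Z) B

theorem finite_sec_map {M : AlgSp.ModEt X} (hM : QC M) {V W : AlgSp.EtOver X} (g : W ⟶ V) (hV : Aff X V)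
    (hW : Aff X W) [Module.Finite ((AlgSp.OEt X).obj.obj (op V)) (Sec M V)] :
    Module.Finite ((AlgSp.OEt X).obj.obj (op W)) (Sec M W) := by
  haveI := hM g hV hW
  letI : Algebra ((AlgSp.OEt X).obj.obj (op V)) ((AlgSp.OEt X).obj.obj (op W)) := (rh (AlgSp.OEt X).obj g).toAlgebra
  haveI : Module.Finite ((AlgSp.OEt X).obj.obj (op W))
      ((AlgSp.OEt X).obj.obj (op W) ⊗[(AlgSp.OEt X).obj.obj (op V)] Sec M V) := inferInstance
  exact Module.Finite.equiv (M := (AlgSp.OEt X).obj.obj (op W) ⊗[(AlgSp.OEt X).obj.obj (op V)] Sec M V)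
    (asIso ((θ (AlgSp.OEt X).obj g).app M.val)).toLinearEquiv

theorem finitePresentation_sec_map {M : AlgSp.ModEt X} (hM : QC M) {V W : AlgSp.EtOver X} (g : W ⟶ V) (hV : Aff X V)
    (hW : Aff X W) [Module.FinitePresentation ((AlgSp.OEt X).obj.obj (op V)) (Sec M V)] :
    Module.FinitePresentation ((AlgSp.OEt X).obj.obj (op W)) (Sec M W) := by
  haveI := hM g hV hW
  letI : Algebra ((AlgSp.OEt X).obj.obj (op V)) ((AlgSp.OEt X).obj.obj (op W)) := (rh (AlgSp.OEt X).obj g).toAlgebra
  haveI : Module.FinitePresentation ((AlgSp.OEt X).obj.obj (op W))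
      ((AlgSp.OEt X).obj.obj (op W) ⊗[(AlgSp.OEt X).obj.obj (op V)] Sec M V) := inferInstance
  exact Module.FinitePresentation.of_equiv (M := (AlgSp.OEt X).obj.obj (op W) ⊗[(AlgSp.OEt X).obj.obj (op V)] Sec M V)
    (asIso ((θ (AlgSp.OEt X).obj g).app M.val)).toLinearEquiv

end Local

variable {S : Scheme.{u}} {X Y : AlgSp.Sp S} {f : X ⟶ Y} (hf : AlgSp.Representable f)

theorem finitePresentation_rπ (hfin : AlgSp.IsFiniteMor f) (hfp : AlgSp.IsFinitePresentationMor f)
    {E : AlgSp.EtOver Y} (hE : Aff Y E) : (rπ hf E).FinitePresentation := by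
  have hW := aff_bc hf (isAffineMor_of_isFiniteMor hfin) hE
  haveI : IsAffine E.obj.left.left := hE
  haveI : IsAffine (AlgSp.EtOver.bcObj hf E).obj.left.left := hW
  haveI : IsAffine (hf.pullback E.obj.hom).left := hW
  haveI : LocallyOfFinitePresentation (hf.snd E.obj.hom).left :=
    hfp.1 _ E.obj.hom (hf.snd E.obj.hom) (AlgSp.EtOver.bcObj hf E).property E.property (hf.w E.obj.hom)
  have h1 := HasRingHomProperty.appTop (P := @LocallyOfFinitePresentation) (hf.snd E.obj.hom).left inferInstance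
  have ba : Function.Bijective (upEquiv X ((AlgSp.EtOver.bc hf).obj E)).toRingHom := (upEquiv X _).bijective
  have bb : Function.Bijective (upEquiv Y E).symm.toRingHom := (upEquiv Y E).symm.bijective
  exact (RingHom.FinitePresentation.of_bijective ba).comp (h1.comp (RingHom.FinitePresentation.of_bijective bb))

theorem finitePresentation_sec_push_iff (hfin : AlgSp.IsFiniteMor f) (hfp : AlgSp.IsFinitePresentationMor f)
    (M : AlgSp.ModEt X) {E : AlgSp.EtOver Y} (hE : Aff Y E) :
    Module.FinitePresentation ((AlgSp.OEt Y).obj.obj (op E)) (Sec ((AlgSp.pushModEt hf).obj M) E) ↔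
      Module.FinitePresentation ((AlgSp.OEt X).obj.obj (op ((AlgSp.EtOver.bc hf).obj E)))
        (Sec M ((AlgSp.EtOver.bc hf).obj E)) := by
  let W := (AlgSp.EtOver.bc hf).obj E
  let R := (AlgSp.OEt Y).obj.obj (op E)
  let A := (AlgSp.OEt X).obj.obj (op W)
  letI : Algebra R A := (rπ hf E).toAlgebra
  letI : Module R (Sec M W) := Module.compHom (Sec M W) (rπ hf E)
  haveI : IsScalarTower R A (Sec M W) := IsScalarTower.of_algebraMap_smul fun _ _ => rfl
  haveI : Module.Finite R A := finite_rπ hf hfin hE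
  haveI : Algebra.FinitePresentation R A := finitePresentation_rπ hf hfin hfp hE
  haveI : Module.FinitePresentation R A := Module.FinitePresentation.of_finite_of_finitePresentation R A
  exact finitePresentation_restrict_iff (R := R) (A := A) (N := Sec M W)

/-- Points of a module's domain lie over base changes of affine charts of the target. -/
theorem exists_bc_common (hY : AlgSp.IsAlgSpace Y) (_haff : AlgSp.IsAffineMor f) (Z : AlgSp.EtOver X)
    (z : Z.obj.left.left) :
    ∃ (E : AlgSp.EtOver Y) (W : AlgSp.EtOver X) (g : W ⟶ Z) (_g' : W ⟶ (AlgSp.EtOver.bc hf).obj E),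
      Aff Y E ∧ Aff X W ∧ z ∈ Set.range g.hom.left.left := by
  obtain ⟨E, e, hE, he⟩ := exists_affine_chart hY (AlgSp.Points.map f (AlgSp.Points.ofPt Z.obj.hom z))
  obtain ⟨y, hy1, hy2⟩ := ASp.points_exists_of_isPullback (hf.isPullback E.obj.hom)
    (AlgSp.Points.ofPt Z.obj.hom z) (AlgSp.Points.ofScheme E.obj.left e)
    (by rw [← AlgSp.Points.ofPt_eq_map_ofScheme]; exact he.symm)
  obtain ⟨w, rfl⟩ := (AlgSp.Points.schemeHomeo ((AlgSp.EtOver.bc hf).obj E).obj.left).surjective y
  have hw : AlgSp.Points.ofPt ((AlgSp.EtOver.bc hf).obj E).obj.hom w = AlgSp.Points.ofPt Z.obj.hom z := by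
    rw [ASp.ofPt_comp_eq_map]
    exact hy1
  obtain ⟨W, g, g', v, hW, h1, -⟩ := exists_common_affine hw.symm
  exact ⟨E, W, g, g', hE, hW, v, h1⟩

theorem isFiniteType_iff_push (hY : AlgSp.IsAlgSpace Y) (hfin : AlgSp.IsFiniteMor f) {M : AlgSp.ModEt X}
    (hM : QC M) : M.IsFiniteType ↔ ((AlgSp.pushModEt hf).obj M).IsFiniteType := by
  have haff := isAffineMor_of_isFiniteMor hfin
  have hP := qc_push hf haff hM
  rw [isFiniteType_iff hM, isFiniteType_iff hP]
  refine ⟨fun h E hE => (finite_sec_push_iff hf hfin M hE).2 (h _ (aff_bc hf haff hE)), fun h Z hZ => ?_⟩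
  refine finite_sec_local hM hZ fun z => ?_
  obtain ⟨E, W, g, g', hE, hW, hz⟩ := exists_bc_common hf hY haff Z z
  haveI := (finite_sec_push_iff hf hfin M hE).1 (h E hE)
  exact ⟨W, g, hW, hz, finite_sec_map hM g' (aff_bc hf haff hE) hW⟩

theorem isFinitePresentation_iff_push (hY : AlgSp.IsAlgSpace Y) (hfin : AlgSp.IsFiniteMor f)
    (hfp : AlgSp.IsFinitePresentationMor f) {M : AlgSp.ModEt X} (hM : QC M) :
    M.IsFinitePresentation ↔ ((AlgSp.pushModEt hf).obj M).IsFinitePresentation := by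
  have haff := isAffineMor_of_isFiniteMor hfin
  have hP := qc_push hf haff hM
  rw [isFinitePresentation_iff hM, isFinitePresentation_iff hP]
  refine ⟨fun h E hE => (finitePresentation_sec_push_iff hf hfin hfp M hE).2 (h _ (aff_bc hf haff hE)), fun h Z hZ => ?_⟩
  refine finitePresentation_sec_local hM hZ fun z => ?_
  obtain ⟨E, W, g, g', hE, hW, hz⟩ := exists_bc_common hf hY haff Z z
  haveI := (finitePresentation_sec_push_iff hf hfin hfp M hE).1 (h E hE)
  exact ⟨W, g, hW, hz, finitePresentation_sec_map hM g' (aff_bc hf haff hE) hW⟩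

theorem isFinitePresentation_push (hfin : AlgSp.IsFiniteMor f) (hY : AlgSp.IsLocNoethSp Y)
    (M : AlgSp.ModEt X) [M.IsFinitePresentation] : ((AlgSp.pushModEt hf).obj M).IsFinitePresentation := by
  have hM := (isQuasicoherent_iff M).1 inferInstance
  refine isFinitePresentation_of_finite hY (qc_push hf (isAffineMor_of_isFiniteMor hfin) hM) fun E hE => ?_
  exact (finite_sec_push_iff hf hfin M hE).2 (finite_sec M hM (aff_bc hf (isAffineMor_of_isFiniteMor hfin) hE))

end Groth.Agent.AlgSpQC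

end
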