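import Mathlib

/-!
# Exactness of the Amitsur complex in degree one
-/

set_option autoImplicit false
set_option linter.style.haveILetI false

universe v

open TensorProduct

noncomputable section

namespace Groth.Agent.AlgSpQC

variable {R : Type v} [CommRing R] {B : Type v} [CommRing B] [Algebra R B] {N : Type v} [AddCommGroup N] [Module R N]

theorem exists_primitive [Module.FaithfullyFlat R B] (z : (B ⊗[R] B) ⊗[R] N)
    (hz : (Algebra.TensorProduct.includeRight (R := R) (A := B) (B := B ⊗[R] B)).toLinearMap.rTensor N z -
      (Algebra.TensorProduct.map (AlgHom.id R B) (Algebra.TensorProduct.includeRight (R := R) (A := B) (B := B))).toLinearMap.rTensor N z +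
      (Algebra.TensorProduct.map (AlgHom.id R B) (Algebra.TensorProduct.includeLeft (R := R) (S := R) (A := B) (B := B))).toLinearMap.rTensor N z = 0) :
    ∃ b : B ⊗[R] N, (Algebra.TensorProduct.includeLeft (R := R) (S := R) (A := B) (B := B)).toLinearMap.rTensor N b -
      (Algebra.TensorProduct.includeRight (R := R) (A := B) (B := B)).toLinearMap.rTensor N b = z := by
  let f : B ⊗[R] N →ₗ[R] (B ⊗[R] B) ⊗[R] N :=
    (Algebra.TensorProduct.includeLeft (R := R) (S := R) (A := B) (B := B)).toLinearMap.rTensor N -
      (Algebra.TensorProduct.includeRight (R := R) (A := B) (B := B)).toLinearMap.rTensor N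
  let r := (LinearMap.range f).mkQ
  let σ : (B ⊗[R] (B ⊗[R] B)) ⊗[R] N →ₗ[R] B ⊗[R] ((B ⊗[R] B) ⊗[R] N) :=
    (TensorProduct.assoc R B (B ⊗[R] B) N).toLinearMap
  let s : (B ⊗[R] B) ⊗[R] N →ₗ[R] B ⊗[R] (B ⊗[R] N) := (TensorProduct.assoc R B B N).toLinearMap
  have key : ∀ w, σ ((Algebra.TensorProduct.includeRight (R := R) (A := B) (B := B ⊗[R] B)).toLinearMap.rTensor N w -
      (Algebra.TensorProduct.map (AlgHom.id R B) (Algebra.TensorProduct.includeRight (R := R) (A := B) (B := B))).toLinearMap.rTensor N w +
      (Algebra.TensorProduct.map (AlgHom.id R B) (Algebra.TensorProduct.includeLeft (R := R) (S := R) (A := B) (B := B))).toLinearMap.rTensor N w) =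
      (1 : B) ⊗ₜ w + f.lTensor B (s w) := by
    intro w
    induction w using TensorProduct.induction_on with
    | zero => simp
    | tmul c n =>
      induction c using TensorProduct.induction_on with
      | zero => simp
      | tmul x y =>
        simp [σ, s, f, TensorProduct.tmul_sub, TensorProduct.sub_tmul, TensorProduct.add_tmul]
        abel
      | add a b ha hb =>
        simp only [TensorProduct.add_tmul, map_add, map_sub] at ha hb ⊢
        rw [TensorProduct.tmul_add, ← sub_eq_zero]
        rw [← sub_eq_zero] at ha hb
        linear_combination (norm := abel) ha + hb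
    | add a b ha hb =>
      simp only [map_add, map_sub] at ha hb ⊢
      rw [TensorProduct.tmul_add, ← sub_eq_zero]
      rw [← sub_eq_zero] at ha hb
      linear_combination (norm := abel) ha + hb
  have h0 : r.lTensor B ((1 : B) ⊗ₜ z) = 0 := by
    have h1 := key z
    rw [hz, map_zero] at h1
    have h2 : r.lTensor B (f.lTensor B (s z)) = 0 := by
      rw [← LinearMap.lTensor_comp_apply, LinearMap.range_mkQ_comp, LinearMap.lTensor_zero, LinearMap.zero_apply]
    have h3 := congrArg (r.lTensor B) h1
    rw [map_zero, map_add, h2, add_zero] at h3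
    exact h3.symm
  rw [LinearMap.lTensor_tmul] at h0
  have := Module.FaithfullyFlat.tensorProduct_mk_injective (A := R) (B := B)
    ((B ⊗[R] B) ⊗[R] N ⧸ LinearMap.range f) (a₁ := r z) (a₂ := 0) (by simpa using h0)
  obtain ⟨b, hb⟩ := (Submodule.Quotient.mk_eq_zero _).1 this
  exact ⟨b, hb⟩

variable (N) in
/-- A cocycle for a finite family with faithfully flat product is a coboundary. -/
theorem exists_primitive_family {ι : Type v} [Finite ι] (C : ι → Type v) [∀ i, CommRing (C i)]
    [∀ i, Algebra R (C i)] [Module.FaithfullyFlat R (∀ i, C i)] (z : ∀ i j, (C i ⊗[R] C j) ⊗[R] N)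
    (hz : ∀ i j k,
      (Algebra.TensorProduct.includeRight (R := R) (A := C i) (B := C j ⊗[R] C k)).toLinearMap.rTensor N (z j k) -
      (Algebra.TensorProduct.map (AlgHom.id R (C i)) (Algebra.TensorProduct.includeRight (R := R) (A := C j) (B := C k))).toLinearMap.rTensor N (z i k) +
      (Algebra.TensorProduct.map (AlgHom.id R (C i)) (Algebra.TensorProduct.includeLeft (R := R) (S := R) (A := C j) (B := C k))).toLinearMap.rTensor N (z i j) = 0) :
    ∃ b : ∀ i, C i ⊗[R] N, ∀ i j,
      (Algebra.TensorProduct.includeLeft (R := R) (S := R) (A := C i) (B := C j)).toLinearMap.rTensor N (b i) -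
      (Algebra.TensorProduct.includeRight (R := R) (A := C i) (B := C j)).toLinearMap.rTensor N (b j) = z i j := by
  classical
  haveI := Fintype.ofFinite ι
  let e : ∀ i, C i →ₗ[R] (∀ i, C i) := fun i => LinearMap.single R C i
  let pr : ∀ i, (∀ i, C i) →ₐ[R] C i := fun i => Pi.evalAlgHom R C i
  have hsum : ∀ x : ∀ i, C i, ∑ i, e i (x i) = x := fun x => Finset.univ_sum_single x
  have h1 : ∀ k, pr k 1 = 1 := fun k => map_one _
  let Z : ((∀ i, C i) ⊗[R] (∀ i, C i)) ⊗[R] N := ∑ i, ∑ j, (TensorProduct.map (e i) (e j)).rTensor N (z i j)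
  have hA : ∀ j k (w : (C j ⊗[R] C k) ⊗[R] N),
      (Algebra.TensorProduct.includeRight (R := R) (A := ∀ i, C i) (B := (∀ i, C i) ⊗[R] (∀ i, C i))).toLinearMap.rTensor N
        ((TensorProduct.map (e j) (e k)).rTensor N w) =
      ∑ i, (TensorProduct.map (e i) (TensorProduct.map (e j) (e k))).rTensor N
        ((Algebra.TensorProduct.includeRight (R := R) (A := C i) (B := C j ⊗[R] C k)).toLinearMap.rTensor N w) := by
    intro j k w
    induction w using TensorProduct.induction_on with
    | zero => simp
    | tmul c n =>
      simp only [LinearMap.rTensor_tmul, AlgHom.toLinearMap_apply, Algebra.TensorProduct.includeRight_apply,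
        TensorProduct.map_tmul, ← TensorProduct.sum_tmul]
      rw [show (∑ i, e i (1 : C i)) = (1 : ∀ i, C i) from hsum 1]
    | add a b ha hb => simp only [map_add, Finset.sum_add_distrib, ha, hb]
  have hB : ∀ i k (w : (C i ⊗[R] C k) ⊗[R] N),
      (Algebra.TensorProduct.map (AlgHom.id R (∀ i, C i)) (Algebra.TensorProduct.includeRight (R := R) (A := ∀ i, C i) (B := ∀ i, C i))).toLinearMap.rTensor N
        ((TensorProduct.map (e i) (e k)).rTensor N w) =
      ∑ j, (TensorProduct.map (e i) (TensorProduct.map (e j) (e k))).rTensor N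
        ((Algebra.TensorProduct.map (AlgHom.id R (C i)) (Algebra.TensorProduct.includeRight (R := R) (A := C j) (B := C k))).toLinearMap.rTensor N w) := by
    intro i k w
    induction w using TensorProduct.induction_on with
    | zero => simp
    | tmul c n =>
      induction c using TensorProduct.induction_on with
      | zero => simp
      | tmul x y =>
        simp only [LinearMap.rTensor_tmul, AlgHom.toLinearMap_apply, Algebra.TensorProduct.map_tmul, AlgHom.id_apply,
          Algebra.TensorProduct.includeRight_apply, TensorProduct.map_tmul, ← TensorProduct.sum_tmul,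
          ← TensorProduct.tmul_sum]
        rw [show (∑ j, e j (1 : C j)) = (1 : ∀ i, C i) from hsum 1]
      | add a b ha hb => simp only [TensorProduct.add_tmul, map_add, Finset.sum_add_distrib] at ha hb ⊢; rw [ha, hb]
    | add a b ha hb => simp only [map_add, Finset.sum_add_distrib, ha, hb]
  have hC : ∀ i j (w : (C i ⊗[R] C j) ⊗[R] N),
      (Algebra.TensorProduct.map (AlgHom.id R (∀ i, C i)) (Algebra.TensorProduct.includeLeft (R := R) (S := R) (A := ∀ i, C i) (B := ∀ i, C i))).toLinearMap.rTensor N
        ((TensorProduct.map (e i) (e j)).rTensor N w) =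
      ∑ k, (TensorProduct.map (e i) (TensorProduct.map (e j) (e k))).rTensor N
        ((Algebra.TensorProduct.map (AlgHom.id R (C i)) (Algebra.TensorProduct.includeLeft (R := R) (S := R) (A := C j) (B := C k))).toLinearMap.rTensor N w) := by
    intro i j w
    induction w using TensorProduct.induction_on with
    | zero => simp
    | tmul c n =>
      induction c using TensorProduct.induction_on with
      | zero => simp
      | tmul x y =>
        simp only [LinearMap.rTensor_tmul, AlgHom.toLinearMap_apply, Algebra.TensorProduct.map_tmul, AlgHom.id_apply,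
          Algebra.TensorProduct.includeLeft_apply, TensorProduct.map_tmul, ← TensorProduct.sum_tmul,
          ← TensorProduct.tmul_sum]
        rw [show (∑ k, e k (1 : C k)) = (1 : ∀ i, C i) from hsum 1]
      | add a b ha hb => simp only [TensorProduct.add_tmul, map_add, Finset.sum_add_distrib] at ha hb ⊢; rw [ha, hb]
    | add a b ha hb => simp only [map_add, Finset.sum_add_distrib, ha, hb]
  obtain ⟨b, hb⟩ := exists_primitive (R := R) (B := ∀ i, C i) Z (by
    simp only [Z, map_sum, hA, hB, hC]
    rw [Finset.sum_congr rfl (fun j _ => Finset.sum_comm (γ := ι)), Finset.sum_comm (γ := ι)]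
    rw [Finset.sum_congr rfl (fun i _ => Finset.sum_comm (γ := ι) (f := fun k j => (TensorProduct.map (e i)
      (TensorProduct.map (e j) (e k))).rTensor N ((Algebra.TensorProduct.map (AlgHom.id R (C i))
        (Algebra.TensorProduct.includeRight (R := R) (A := C j) (B := C k))).toLinearMap.rTensor N (z i k))))]
    simp only [← Finset.sum_sub_distrib, ← Finset.sum_add_distrib, ← map_sub, ← map_add, hz, map_zero,
      Finset.sum_const_zero])
  refine ⟨fun i => (pr i).toLinearMap.rTensor N b, fun i j => ?_⟩
  let P := (TensorProduct.map (pr i).toLinearMap (pr j).toLinearMap).rTensor N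
  have hl : ∀ w, P ((Algebra.TensorProduct.includeLeft (R := R) (S := R) (A := ∀ i, C i) (B := ∀ i, C i)).toLinearMap.rTensor N w) =
      (Algebra.TensorProduct.includeLeft (R := R) (S := R) (A := C i) (B := C j)).toLinearMap.rTensor N
        ((pr i).toLinearMap.rTensor N w) := fun w => by
    induction w using TensorProduct.induction_on with
    | zero => simp
    | tmul c n => simp [P, pr]
    | add a b ha hb => simp only [map_add, ha, hb]
  have hr : ∀ w, P ((Algebra.TensorProduct.includeRight (R := R) (A := ∀ i, C i) (B := ∀ i, C i)).toLinearMap.rTensor N w) =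
      (Algebra.TensorProduct.includeRight (R := R) (A := C i) (B := C j)).toLinearMap.rTensor N
        ((pr j).toLinearMap.rTensor N w) := fun w => by
    induction w using TensorProduct.induction_on with
    | zero => simp
    | tmul c n => simp [P, pr]
    | add a b ha hb => simp only [map_add, ha, hb]
  have hP := congrArg P hb
  rw [map_sub, hl, hr] at hP
  rw [hP]
  simp only [Z, map_sum]
  have hproj : ∀ i' j', P ((TensorProduct.map (e i') (e j')).rTensor N (z i' j')) =
      ((TensorProduct.map (pr i).toLinearMap (pr j).toLinearMap) ∘ₗ TensorProduct.map (e i') (e j')).rTensor N (z i' j') :=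
    fun i' j' => (LinearMap.rTensor_comp_apply _ _ _ _).symm
  rw [Finset.sum_eq_single i, Finset.sum_eq_single j]
  · rw [hproj, ← TensorProduct.map_comp]
    have hi : (pr i).toLinearMap ∘ₗ e i = LinearMap.id := LinearMap.ext fun x => Pi.single_eq_same i x
    have hj : (pr j).toLinearMap ∘ₗ e j = LinearMap.id := LinearMap.ext fun x => Pi.single_eq_same j x
    rw [hi, hj, TensorProduct.map_id, LinearMap.rTensor_id, LinearMap.id_apply]
  · intro j' _ hj'
    rw [hproj, ← TensorProduct.map_comp]
    have hj : (pr j).toLinearMap ∘ₗ e j' = 0 := LinearMap.ext fun x => Pi.single_eq_of_ne (Ne.symm hj') x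
    rw [hj, TensorProduct.map_zero_right, LinearMap.rTensor_zero, LinearMap.zero_apply]
  · simp
  · intro i' _ hi'
    refine Finset.sum_eq_zero fun j' _ => ?_
    rw [hproj, ← TensorProduct.map_comp]
    have hi : (pr i).toLinearMap ∘ₗ e i' = 0 := LinearMap.ext fun x => Pi.single_eq_of_ne (Ne.symm hi') x
    rw [hi, TensorProduct.map_zero_left, LinearMap.rTensor_zero, LinearMap.zero_apply]
  · simp

end Groth.Agent.AlgSpQC

end
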