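import Groth.Agent.AlgSpQC.Gen
import Groth.Agent.AlgSpQC.Amitsur1

/-!
# Extensions and sections
-/

set_option autoImplicit false
set_option linter.style.haveILetI false
set_option linter.unusedSectionVars false
set_option backward.isDefEq.respectTransparency false
set_option backward.isDefEq.respectTransparency.types false
set_option maxHeartbeats 800000

universe u v

open CategoryTheory Limits Opposite TensorProduct

noncomputable section

namespace Groth.Agent.AlgSpQC

section Pre

variable {C : Type (u + 1)} [Category.{u} C] {O : Cᵒᵖ ⥤ CommRingCat.{u + 1}}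

/-- Sections over `V` from a ring mapping to the functions of `V`. -/
def η (P : PresheafOfModules.{u + 1} (Rg O)) {X V : C} (v : V ⟶ X) {A : Type (u + 1)} [CommRing A]
    [Algebra (O.obj (op X)) A] (χ : A →+* O.obj (op V)) (hχ : χ.comp (algebraMap _ A) = rh O v) :
    A ⊗[O.obj (op X)] ((evalC O X).obj P) →+ P.obj (op V) :=
  letI := (rh O v).toAlgebra
  ((θ O v).app P).hom.toAddMonoidHom.comp
    (({ χ with commutes' := fun r => RingHom.congr_fun hχ r } : A →ₐ[O.obj (op X)] O.obj (op V)).toLinearMap.rTensor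
      ((evalC O X).obj P)).toAddMonoidHom

theorem η_tmul (P : PresheafOfModules.{u + 1} (Rg O)) {X V : C} (v : V ⟶ X) {A : Type (u + 1)} [CommRing A]
    [Algebra (O.obj (op X)) A] (χ : A →+* O.obj (op V)) (hχ : χ.comp (algebraMap _ A) = rh O v) (a : A)
    (x : (evalC O X).obj P) :
    η P v χ hχ (a ⊗ₜ[O.obj (op X)] x) = χ a • (show (evalC O V).obj P from res P v x) := by
  exact θ_tmul P v (χ a) x

theorem η_bijective {Aff : C → Prop} {P : PresheafOfModules.{u + 1} (Rg O)} (hP : IsBC Aff P) {X V : C} (v : V ⟶ X)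
    (hX : Aff X) (hV : Aff V) {A : Type (u + 1)} [CommRing A] [Algebra (O.obj (op X)) A] (χ : A →+* O.obj (op V))
    (hχ : χ.comp (algebraMap _ A) = rh O v) (hb : Function.Bijective χ) : Function.Bijective (η P v χ hχ) := by
  letI := (rh O v).toAlgebra
  exact (hP.bijective v hX hV).comp (LinearEquiv.rTensor ((evalC O X).obj P) (LinearEquiv.ofBijective
    ({ χ with commutes' := fun r => RingHom.congr_fun hχ r } : A →ₐ[O.obj (op X)] O.obj (op V)).toLinearMap hb)).bijective

theorem η_res (P : PresheafOfModules.{u + 1} (Rg O)) {X V V' : C} {v : V ⟶ X} {v' : V' ⟶ X} (g : V' ⟶ V)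
    (hg : g ≫ v = v') {A A' : Type (u + 1)} [CommRing A] [Algebra (O.obj (op X)) A] [CommRing A']
    [Algebra (O.obj (op X)) A'] {χ : A →+* O.obj (op V)} {hχ : χ.comp (algebraMap _ A) = rh O v}
    {χ' : A' →+* O.obj (op V')} {hχ' : χ'.comp (algebraMap _ A') = rh O v'} (σ : A →ₐ[O.obj (op X)] A')
    (hσ : χ'.comp σ.toRingHom = (rh O g).comp χ) (w : A ⊗[O.obj (op X)] ((evalC O X).obj P)) :
    res P g (η P v χ hχ w) = η P v' χ' hχ' (σ.toLinearMap.rTensor _ w) := by
  induction w using TensorProduct.induction_on with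
  | zero => rw [map_zero, map_zero, map_zero]; exact map_zero (P.presheaf.map g.op).hom
  | tmul a x =>
    rw [LinearMap.rTensor_tmul, η_tmul, η_tmul]
    refine (P.map_smul g.op (χ a) _).trans ?_
    refine congrArg₂ (fun (r : O.obj (op V')) b => r • (show (evalC O V').obj P from b)) ?_ ?_
    · exact (RingHom.congr_fun hσ a).symm
    · rw [← hg]; exact (res_comp P v g x).symm
  | add a b ha hb =>
    rw [map_add, map_add, map_add, ← ha, ← hb]
    exact map_add (P.presheaf.map g.op).hom _ _

theorem productMap_bijective {R A B : CommRingCat.{v}} {f : R ⟶ A} {g : R ⟶ B} {P : CommRingCat.{v}} {h : A ⟶ P}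
    {k : B ⟶ P} (hpo : IsPushout f g h k) :
    letI := f.hom.toAlgebra
    letI := g.hom.toAlgebra
    ∃ χ : A ⊗[R] B →+* P, Function.Bijective χ ∧ (∀ a, χ (a ⊗ₜ[R] 1) = h a) ∧ (∀ b, χ (1 ⊗ₜ[R] b) = k b) ∧
      χ.comp (algebraMap R _) = (f ≫ h).hom := by
  letI := f.hom.toAlgebra
  letI := g.hom.toAlgebra
  let ψ : CommRingCat.of (A ⊗[R] B) ≅ P := (CommRingCat.isPushout_tensorProduct R A B).isoIsPushout _ _ hpo
  have hl : ∀ a, ψ.hom.hom (a ⊗ₜ[R] (1 : B)) = h a := fun a =>
    ConcreteCategory.congr_hom ((CommRingCat.isPushout_tensorProduct R A B).inl_isoIsPushout_hom _ _ hpo) a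
  exact ⟨ψ.hom.hom, ConcreteCategory.bijective_of_isIso ψ.hom, hl, fun b =>
    ConcreteCategory.congr_hom ((CommRingCat.isPushout_tensorProduct R A B).inr_isoIsPushout_hom _ _ hpo) b,
    RingHom.ext fun r => hl _⟩

end Pre

variable {C : Type (u + 1)} [Category.{u} C] {J : GrothendieckTopology C} {O : Sheaf J CommRingCat.{u + 1}}
  {Aff : C → Prop} (H : AffSite J O.obj Aff)
  [HasSheafify J AddCommGrpCat.{u + 1}] [J.WEqualsLocallyBijective AddCommGrpCat.{u + 1}]

include H in
/-- Epimorphisms are locally surjective. -/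
theorem exists_local_lift {M N : SheafOfModules.{u + 1} (RS O)} (g : M ⟶ N) [Epi g] {X : C}
    (y : N.val.obj (op X)) : ∃ S ∈ J X, ∀ ⦃Y : C⦄ (v : Y ⟶ X), S.arrows v →
      ∃ p, g.val.app (op Y) p = res (O := O.obj) N.val v y := by
  let g' := (SheafOfModules.forget (RS O)).map g
  let P := cokernel g'
  have hz : IsZero ((shf (O := O)).obj P) := by
    haveI : Epi ((shf (O := O)).map g') := by
      have e := (PresheafOfModules.sheafificationAdjunction (𝟙 (RS O).obj)).counit.naturality g
      haveI : Epi (((SheafOfModules.forget (RS O) ⋙ PresheafOfModules.restrictScalars (𝟙 (RS O).obj)) ⋙ shf (O := O)).map g) := by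
        have : ((SheafOfModules.forget (RS O) ⋙ PresheafOfModules.restrictScalars (𝟙 (RS O).obj)) ⋙ shf (O := O)).map g =
            (PresheafOfModules.sheafificationAdjunction (𝟙 (RS O).obj)).counit.app M ≫ g ≫
              inv ((PresheafOfModules.sheafificationAdjunction (𝟙 (RS O).obj)).counit.app N) := by
          rw [← Category.assoc, IsIso.eq_comp_inv]
          exact e
        rw [this]
        infer_instance
      exact this
    exact IsZero.of_iso (isZero_cokernel_of_epi _) (PreservesCokernel.iso (shf (O := O)) g')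
  let ψ := (PresheafOfModules.toPresheaf _).map (shfUnit P)
  haveI : Presheaf.IsLocallyInjective J ψ :=
    inferInstanceAs (Presheaf.IsLocallyInjective J (CategoryTheory.toSheafify J P.presheaf))
  have h0 : 𝟙 ((shf (O := O)).obj P) = 0 := hz.eq_of_src _ _
  have hy : ψ.app (op X) ((cokernel.π g').app (op X) y) = ψ.app (op X) 0 := by
    refine Eq.trans ?_ (map_zero (ψ.app (op X)).hom).symm
    exact congrArg (fun (φ : (shf (O := O)).obj P ⟶ (shf (O := O)).obj P) =>
      φ.val.app (op X) ((shfUnit P).app (op X) ((cokernel.π g').app (op X) y))) h0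
  refine ⟨_, Presheaf.equalizerSieve_mem J ψ _ _ hy, fun Y v hv => ?_⟩
  let E := PresheafOfModules.evaluation.{u + 1} (RS O).obj (op Y)
  have hv' : (cokernel.π g').app (op Y) (res (O := O.obj) N.val v y) = 0 := by
    refine (NatTrans.naturality_apply ((PresheafOfModules.toPresheaf _).map (cokernel.π g')) v.op y).trans ?_
    exact hv.trans (map_zero (P.presheaf.map v.op).hom)
  have hex : ((ShortComplex.mk g' (cokernel.π g') (cokernel.condition g')).map E).Exact :=
    (ShortComplex.exact_cokernel g').map_of_epi_of_preservesCokernel E inferInstance inferInstance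
  exact (ShortComplex.moduleCat_exact_iff _).1 hex (show (E.obj N.val) from res (O := O.obj) N.val v y) hv'

include H in
/-- Surjectivity on affine objects when the kernel is determined by base change. -/
theorem surjective_of_shortExact (S : ShortComplex (SheafOfModules.{u + 1} (RS O))) (hS : S.ShortExact)
    (hK : BC Aff S.X₁) {X : C} (hX : Aff X) : Function.Surjective (S.g.val.app (op X)) := by
  intro y
  haveI := hS.epi_g
  haveI := hS.mono_f
  obtain ⟨R, hR, hlift⟩ := exists_local_lift H S.g y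
  obtain ⟨n, Z, z, hZ, hzS, hzs⟩ := H.refine_cover hX R hR
  choose p hp using fun i => hlift (z i) (hzS i)
  have hker : ∀ {V : C} (w : S.X₂.val.obj (op V)), S.g.val.app (op V) w = 0 →
      ∃ x, S.f.val.app (op V) x = w := by
    intro V w hw
    let F := SheafOfModules.forget.{u + 1} (RS O) ⋙ PresheafOfModules.evaluation (RS O).obj (op V)
    exact (ShortComplex.moduleCat_exact_iff _).1
      (hS.exact.map_of_mono_of_preservesKernel F hS.mono_f inferInstance) w hw
  have hinj : ∀ {V : C}, Function.Injective (S.f.val.app (op V)) := by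
    intro V
    haveI : Mono ((SheafOfModules.forget.{u + 1} (RS O)).map S.f) := inferInstance
    haveI : PreservesLimitsOfShape WalkingCospan (PresheafOfModules.evaluation.{u + 1} (RS O).obj (op V)) := inferInstance
    exact (ModuleCat.mono_iff_injective _).1
      ((PresheafOfModules.evaluation.{u + 1} (RS O).obj (op V)).map_mono ((SheafOfModules.forget.{u + 1} (RS O)).map S.f))
  have hnatf : ∀ {V V' : C} (g : V' ⟶ V) (x : S.X₁.val.obj (op V)),
      S.f.val.app (op V') (res (O := O.obj) S.X₁.val g x) = res (O := O.obj) S.X₂.val g (S.f.val.app (op V) x) :=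
    fun g x => NatTrans.naturality_apply ((PresheafOfModules.toPresheaf _).map S.f.val) g.op x
  have hnatg : ∀ {V V' : C} (g : V' ⟶ V) (x : S.X₂.val.obj (op V)),
      S.g.val.app (op V') (res (O := O.obj) S.X₂.val g x) = res (O := O.obj) S.X₃.val g (S.g.val.app (op V) x) :=
    fun g x => NatTrans.naturality_apply ((PresheafOfModules.toPresheaf _).map S.g.val) g.op x
  choose W vi vj hW hv hvpb hvpo using fun k : Fin n × Fin n => H.exists_fibre (z k.1) (z k.2) hX (hZ _) (hZ _)
  choose c hc using fun k : Fin n × Fin n => hker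
    (res (O := O.obj) S.X₂.val (vi k) (p k.1) - res (O := O.obj) S.X₂.val (vj k) (p k.2)) (by
    refine (map_sub (S.g.val.app (op (W k))).hom _ _).trans (sub_eq_zero.2 ?_)
    refine (hnatg (vi k) (p k.1)).trans (Eq.trans ?_ (hnatg (vj k) (p k.2)).symm)
    rw [hp, hp, ← res_comp, ← res_comp, hv k])
  let ι := ULift.{u + 1} (Fin n)
  let Ci : ι → Type (u + 1) := fun i => O.obj.obj (op (Z i.down))
  letI : ∀ i : ι, Algebra (O.obj.obj (op X)) (Ci i) := fun i => (rh O.obj (z i.down)).toAlgebra
  haveI : Module.FaithfullyFlat (O.obj.obj (op X)) (∀ i, Ci i) := faithfullyFlat_family (f := z) H hX hZ hzs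
  choose χ hχb hχl hχr hχc using fun i j : ι => productMap_bijective (hvpo (i.down, j.down))
  have hχw : ∀ i j : ι, (χ i j).comp (algebraMap (O.obj.obj (op X)) (Ci i ⊗[O.obj.obj (op X)] Ci j)) =
      rh O.obj (vi (i.down, j.down) ≫ z i.down) := fun i j => (hχc i j).trans (by
    show _ = (O.obj.map ((z i.down).op ≫ (vi (i.down, j.down)).op)).hom
    rw [O.obj.map_comp])
  choose zz hzz using fun i j : ι => (η_bijective (O := O.obj) hK (vi (i.down, j.down) ≫ z i.down) hX (hW (i.down, j.down))
    (χ i j) (hχw i j) (hχb i j)).2 (c (i.down, j.down))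
  obtain ⟨b, hb⟩ := exists_primitive_family (R := O.obj.obj (op X)) ((evalC O.obj X).obj S.X₁.val) Ci zz
    fun i j k => by
    obtain ⟨U, a, l, hU, hl, hlpb, hlpo⟩ := H.exists_fibre (z i.down) (vi (j.down, k.down) ≫ z j.down) hX (hZ _) (hW _)
    let lij : U ⟶ W (i.down, j.down) := (hvpb (i.down, j.down)).lift a (l ≫ vi (j.down, k.down)) (by rw [hl, Category.assoc])
    let lik : U ⟶ W (i.down, k.down) := (hvpb (i.down, k.down)).lift a (l ≫ vj (j.down, k.down))
      (by rw [hl, Category.assoc, hv (j.down, k.down)])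
    letI : Algebra (O.obj.obj (op X)) (O.obj.obj (op (W (j.down, k.down)))) :=
      (rh O.obj (vi (j.down, k.down) ≫ z j.down)).toAlgebra
    obtain ⟨ξ, hξb, hξl, hξr, hξc⟩ := productMap_bijective hlpo
    let τ : Ci j ⊗[O.obj.obj (op X)] Ci k →ₐ[O.obj.obj (op X)] O.obj.obj (op (W (j.down, k.down))) :=
      { χ j k with commutes' := fun r => RingHom.congr_fun (hχw j k) r }
    let ω : Ci i ⊗[O.obj.obj (op X)] (Ci j ⊗[O.obj.obj (op X)] Ci k) →+* O.obj.obj (op U) :=
      ξ.comp (Algebra.TensorProduct.map (AlgHom.id (O.obj.obj (op X)) (Ci i)) τ).toRingHom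
    have hω : ∀ x y w, ω (x ⊗ₜ[O.obj.obj (op X)] (y ⊗ₜ[O.obj.obj (op X)] w)) =
        rh O.obj a x * (rh O.obj l (rh O.obj (vi (j.down, k.down)) y) * rh O.obj l (rh O.obj (vj (j.down, k.down)) w)) := by
      intro x y w
      show ξ (x ⊗ₜ τ (y ⊗ₜ w)) = _
      rw [show x ⊗ₜ[O.obj.obj (op X)] τ (y ⊗ₜ w) = (x ⊗ₜ 1) * (1 ⊗ₜ τ (y ⊗ₜ w)) by simp, map_mul, hξl, hξr,
        show (y ⊗ₜ[O.obj.obj (op X)] w) = (y ⊗ₜ 1) * (1 ⊗ₜ w) by simp, map_mul, map_mul]
      refine congrArg₂ (· * ·) rfl (congrArg₂ (· * ·) ?_ ?_)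
      · exact congrArg _ (hχl j k y)
      · exact congrArg _ (hχr j k w)
    have hωc : ω.comp (algebraMap (O.obj.obj (op X)) _) = rh O.obj (a ≫ z i.down) := by
      refine RingHom.ext fun r => ?_
      show ξ (algebraMap _ _ r ⊗ₜ τ 1) = _
      rw [map_one, hξl]
      exact (ConcreteCategory.congr_hom (O.obj.map_comp (z i.down).op a.op) r).symm
    have hη := η_bijective (O := O.obj) hK (a ≫ z i.down) hX hU ω hωc (hξb.comp
      (TensorProduct.congr (LinearEquiv.refl (O.obj.obj (op X)) (Ci i))
        (LinearEquiv.ofBijective τ.toLinearMap (hχb j k))).bijective)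
    have hcomp : ∀ {U V V' : C} (g : U ⟶ V) (v : V ⟶ V') (r : O.obj.obj (op V')),
        rh O.obj g (rh O.obj v r) = rh O.obj (g ≫ v) r := fun g v r =>
      (ConcreteCategory.congr_hom (O.obj.map_comp v.op g.op) r).symm
    have hmul : ∀ (i j : ι) (y : Ci i) (w : Ci j), χ i j (y ⊗ₜ[O.obj.obj (op X)] w) =
        rh O.obj (vi (i.down, j.down)) y * rh O.obj (vj (i.down, j.down)) w := by
      intro i j y w
      rw [show (y ⊗ₜ[O.obj.obj (op X)] w) = (y ⊗ₜ 1) * (1 ⊗ₜ w) by simp, map_mul]
      exact congrArg₂ (· * ·) (hχl i j y) (hχr i j w)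
    have f1 : lik ≫ vi (i.down, k.down) = a := (hvpb (i.down, k.down)).lift_fst _ _ _
    have f2 : lik ≫ vj (i.down, k.down) = l ≫ vj (j.down, k.down) := (hvpb (i.down, k.down)).lift_snd _ _ _
    have f3 : lij ≫ vi (i.down, j.down) = a := (hvpb (i.down, j.down)).lift_fst _ _ _
    have f4 : lij ≫ vj (i.down, j.down) = l ≫ vi (j.down, k.down) := (hvpb (i.down, j.down)).lift_snd _ _ _
    have e1 := (η_res (O := O.obj) S.X₁.val (v := vi (j.down, k.down) ≫ z j.down) (v' := a ≫ z i.down) l hl.symm
      (χ := χ j k) (hχ := hχw j k) (χ' := ω) (hχ' := hωc)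
      (Algebra.TensorProduct.includeRight (R := O.obj.obj (op X)) (A := Ci i)) (RingHom.ext fun q => by
        induction q using TensorProduct.induction_on with
        | zero => simp
        | tmul y w =>
          show ω ((1 : Ci i) ⊗ₜ (y ⊗ₜ w)) = rh O.obj l (χ j k (y ⊗ₜ w))
          rw [hω, hmul, map_mul, map_one, one_mul]
        | add p q hp hq => simp only [map_add, hp, hq]) (zz j k)).symm.trans (congrArg _ (hzz j k))
    have e2 := (η_res (O := O.obj) S.X₁.val (v := vi (i.down, k.down) ≫ z i.down) (v' := a ≫ z i.down) lik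
      (by rw [← Category.assoc, f1]) (χ := χ i k) (hχ := hχw i k) (χ' := ω) (hχ' := hωc)
      (Algebra.TensorProduct.map (AlgHom.id (O.obj.obj (op X)) (Ci i))
        (Algebra.TensorProduct.includeRight (R := O.obj.obj (op X)) (A := Ci j) (B := Ci k))) (RingHom.ext fun q => by
        induction q using TensorProduct.induction_on with
        | zero => simp
        | tmul x w =>
          show ω (x ⊗ₜ ((1 : Ci j) ⊗ₜ w)) = rh O.obj lik (χ i k (x ⊗ₜ w))
          rw [hω, hmul, map_mul, hcomp lik, hcomp lik, hcomp l (vj (j.down, k.down)), f1, f2, map_one, map_one, one_mul]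
        | add p q hp hq => simp only [map_add, hp, hq]) (zz i k)).symm.trans (congrArg _ (hzz i k))
    have e3 := (η_res (O := O.obj) S.X₁.val (v := vi (i.down, j.down) ≫ z i.down) (v' := a ≫ z i.down) lij
      (by rw [← Category.assoc, f3]) (χ := χ i j) (hχ := hχw i j) (χ' := ω) (hχ' := hωc)
      (Algebra.TensorProduct.map (AlgHom.id (O.obj.obj (op X)) (Ci i))
        (Algebra.TensorProduct.includeLeft (R := O.obj.obj (op X)) (S := O.obj.obj (op X)) (A := Ci j) (B := Ci k))) (RingHom.ext fun q => by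
        induction q using TensorProduct.induction_on with
        | zero => simp
        | tmul x y =>
          show ω (x ⊗ₜ (y ⊗ₜ (1 : Ci k))) = rh O.obj lij (χ i j (x ⊗ₜ y))
          rw [hω, hmul, map_mul, hcomp lij, hcomp lij, hcomp l (vi (j.down, k.down)), f3, f4, map_one, map_one, mul_one]
        | add p q hp hq => simp only [map_add, hp, hq]) (zz i j)).symm.trans (congrArg _ (hzz i j))
    refine hη.1 ?_
    rw [map_add, map_sub, map_zero, e1, e2, e3]
    refine hinj ?_
    refine ((map_add (S.f.val.app (op U)).hom _ _).trans (congrArg₂ (· + ·)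
      (map_sub (S.f.val.app (op U)).hom _ _) rfl)).trans (Eq.trans ?_ (map_zero (S.f.val.app (op U)).hom).symm)
    refine (congrArg₂ (· + ·) (congrArg₂ (· - ·) ((hnatf l _).trans (congrArg _ (hc _)))
      ((hnatf lik _).trans (congrArg _ (hc _)))) ((hnatf lij _).trans (congrArg _ (hc _)))).trans ?_
    have e : ∀ {V : C} (g : U ⟶ V) (u v : S.X₂.val.obj (op V)), res (O := O.obj) S.X₂.val g (u - v) =
        res (O := O.obj) S.X₂.val g u - res (O := O.obj) S.X₂.val g v := fun g u v =>
      map_sub (S.X₂.val.presheaf.map g.op).hom u v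
    rw [e, e, e, ← res_comp, ← res_comp, ← res_comp, ← res_comp, ← res_comp, ← res_comp, f1, f2, f3, f4]
    abel
  let q : ∀ i : ι, S.X₁.val.obj (op (Z i.down)) := fun i =>
    η (O := O.obj) S.X₁.val (z i.down) (RingHom.id (Ci i)) rfl (b i)
  have hq : ∀ i j : ι, c (i.down, j.down) = res (O := O.obj) S.X₁.val (vi (i.down, j.down)) (q i) -
      res (O := O.obj) S.X₁.val (vj (i.down, j.down)) (q j) := by
    intro i j
    rw [← hzz i j, ← hb i j, map_sub]
    refine congrArg₂ (· - ·) ?_ ?_
    · exact (η_res (O := O.obj) S.X₁.val (vi (i.down, j.down)) rfl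
        (Algebra.TensorProduct.includeLeft (R := O.obj.obj (op X)) (S := O.obj.obj (op X)) (A := Ci i) (B := Ci j))
        (RingHom.ext fun x => hχl i j x) (b i)).symm
    · exact (η_res (O := O.obj) S.X₁.val (vj (i.down, j.down)) (hv (i.down, j.down)).symm
        (Algebra.TensorProduct.includeRight (R := O.obj.obj (op X)) (A := Ci i) (B := Ci j))
        (RingHom.ext fun x => hχr i j x) (b j)).symm
  let p' : ∀ i : Fin n, S.X₂.val.obj (op (Z i)) := fun i => p i - S.f.val.app (op (Z i)) (q ⟨i⟩)
  have hag : ∀ i j : Fin n, res (O := O.obj) S.X₂.val (vi (i, j)) (p' i) = res (O := O.obj) S.X₂.val (vj (i, j)) (p' j) := by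
    intro i j
    have h1 := (congrArg (S.f.val.app (op (W (i, j)))) (hq ⟨i⟩ ⟨j⟩)).symm.trans (hc (i, j))
    have h2 := ((map_sub (S.f.val.app (op (W (i, j)))).hom _ _).symm.trans h1)
    rw [← sub_eq_zero]
    show res (O := O.obj) S.X₂.val (vi (i, j)) (p i - _) - res (O := O.obj) S.X₂.val (vj (i, j)) (p j - _) = 0
    refine (congrArg₂ (· - ·) (map_sub (S.X₂.val.presheaf.map (vi (i, j)).op).hom _ _)
      (map_sub (S.X₂.val.presheaf.map (vj (i, j)).op).hom _ _)).trans ?_
    have h3 : res (O := O.obj) S.X₂.val (vi (i, j)) (S.f.val.app (op (Z i)) (q ⟨i⟩)) -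
        res (O := O.obj) S.X₂.val (vj (i, j)) (S.f.val.app (op (Z j)) (q ⟨j⟩)) =
        res (O := O.obj) S.X₂.val (vi (i, j)) (p i) - res (O := O.obj) S.X₂.val (vj (i, j)) (p j) :=
      (congrArg₂ (· - ·) (hnatf _ _) (hnatf _ _)).symm.trans h2
    exact sub_eq_zero.2 (sub_eq_sub_iff_sub_eq_sub.1 h3.symm)
  obtain ⟨x, hx⟩ := (existsUnique_glue S.X₂.isSheaf z (H.covers hX z hZ hzs) p' fun i j T g h e => by
    refine ((congrArg (fun a => res (O := O.obj) (X := Z i) S.X₂.val a (p' i)) ((hvpb (i, j)).lift_fst g h e).symm).trans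
      (res_comp (O := O.obj) S.X₂.val (vi (i, j)) _ _)).trans ?_
    refine Eq.trans ?_ (congrArg (fun a => res (O := O.obj) (X := Z j) S.X₂.val a (p' j)) ((hvpb (i, j)).lift_snd g h e))
    exact (congrArg _ (hag i j)).trans (res_comp (O := O.obj) S.X₂.val (vj (i, j)) _ _).symm).exists
  refine ⟨x, ?_⟩
  have hgf : ∀ {V : C} (w : S.X₁.val.obj (op V)), S.g.val.app (op V) (S.f.val.app (op V) w) = 0 := fun {V} w =>
    congrArg (fun φ : S.X₁ ⟶ S.X₃ => φ.val.app (op V) w) S.zero
  refine ((existsUnique_glue S.X₃.isSheaf z (H.covers hX z hZ hzs) (fun i => res (O := O.obj) S.X₃.val (z i) y)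
    fun i j T g h e => ?_).unique (fun i => ?_) fun i => rfl)
  · show res (O := O.obj) S.X₃.val g (res (O := O.obj) S.X₃.val (z i) y) =
      res (O := O.obj) S.X₃.val h (res (O := O.obj) S.X₃.val (z j) y)
    rw [← res_comp, ← res_comp, e]
  · refine (hnatg (z i) x).symm.trans ?_
    refine (congrArg (S.g.val.app (op (Z i))) (hx i)).trans ?_
    refine (map_sub (S.g.val.app (op (Z i))).hom _ _).trans ?_
    exact ((congrArg₂ (· - ·) (hp i) (hgf _)).trans (sub_zero _))

include H in
/-- Extensions of modules determined by base change are determined by base change. -/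
theorem bc_ext (S : ShortComplex (SheafOfModules.{u + 1} (RS O))) (hS : S.ShortExact)
    (h₁ : BC Aff S.X₁) (h₃ : BC Aff S.X₃) : BC Aff S.X₂ := by
  intro X Y f hX hY
  have hrow : ∀ {V : C}, Aff V → (S.map (SheafOfModules.forget.{u + 1} (RS O) ⋙
      PresheafOfModules.evaluation (RS O).obj (op V))).ShortExact := fun {V} hV => by
    haveI := hS.mono_f
    exact
    { exact := hS.exact.map_of_mono_of_preservesKernel _ hS.mono_f inferInstance
      mono_f := by
        haveI : Mono ((SheafOfModules.forget.{u + 1} (RS O)).map S.f) := inferInstance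
        haveI : PreservesLimitsOfShape WalkingCospan (PresheafOfModules.evaluation.{u + 1} (RS O).obj (op V)) :=
          inferInstance
        exact (PresheafOfModules.evaluation.{u + 1} (RS O).obj (op V)).map_mono
          ((SheafOfModules.forget.{u + 1} (RS O)).map S.f)
      epi_g := (ModuleCat.epi_iff_surjective _).2 (surjective_of_shortExact H S hS h₁ hV) }
  haveI : ∀ V : C, (evalC O.obj V).PreservesZeroMorphisms := fun V =>
    inferInstanceAs (PresheafOfModules.evaluation.{u + 1} (RS O).obj (op V)).PreservesZeroMorphisms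
  let E : ∀ V : C, ShortComplex (ModuleCat.{u + 1} (O.obj.obj (op V))) := fun V =>
    (S.map (SheafOfModules.forget.{u + 1} (RS O))).map (evalC O.obj V)
  haveI := ModuleCat.preservesFiniteLimits_extendScalars_of_flat.{u + 1} (H.flat f hX hY)
  haveI : PreservesFiniteColimits (ModuleCat.extendScalars.{u + 1, u + 1, u + 1} (rh O.obj f)) := by
    haveI := (ModuleCat.extendRestrictScalarsAdj.{u + 1} (rh O.obj f)).leftAdjoint_preservesColimits.{0, 0}
    exact PreservesColimitsOfSize.preservesFiniteColimits _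
  let T := (E X).map (ModuleCat.extendScalars.{u + 1, u + 1, u + 1} (rh O.obj f))
  have hT : T.ShortExact := (show (E X).ShortExact from hrow hX).map_of_exact _
  let φ : T ⟶ E Y :=
    { τ₁ := (θ O.obj f).app S.X₁.val
      τ₂ := (θ O.obj f).app S.X₂.val
      τ₃ := (θ O.obj f).app S.X₃.val
      comm₁₂ := ((θ O.obj f).naturality ((SheafOfModules.forget.{u + 1} (RS O)).map S.f)).symm
      comm₂₃ := ((θ O.obj f).naturality ((SheafOfModules.forget.{u + 1} (RS O)).map S.g)).symm }
  haveI : IsIso φ.τ₁ := h₁ f hX hY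
  haveI : IsIso φ.τ₃ := h₃ f hX hY
  exact ShortComplex.isIso₂_of_shortExact_of_isIso₁₃ φ hT (hrow hY)

end Groth.Agent.AlgSpQC

end
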