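import Groth.Agent.AlgSpQC.Main
import Groth.Agent.AlgSpQC.Ext

/-!
# Two out of three for quasi-coherent modules on algebraic spaces
-/

set_option autoImplicit false
set_option linter.style.haveILetI false
set_option linter.unusedSectionVars false
set_option backward.isDefEq.respectTransparency false
set_option backward.isDefEq.respectTransparency.types false
set_option maxHeartbeats 800000

universe w' w u

open CategoryTheory Limits AlgebraicGeometry Opposite

noncomputable section

namespace Groth.Agent.AlgSpQC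

variable {S : Scheme.{u}} {X : AlgSp.Sp S}

theorem qc_colimit {K : Type w} [Category.{w'} K] [HasColimitsOfShape K AddCommGrpCat.{u + 1}]
    (D : K ⥤ AlgSp.ModEt X) [HasColimit D] (h : ∀ j, QC (D.obj j)) : QC (colimit D) :=
  bc_colimit (O := AlgSp.OEt X) (affSite X) D h

theorem qc_kernel {M N : AlgSp.ModEt X} (g : M ⟶ N) (hM : QC M) (hN : QC N) : QC (kernel g) :=
  bc_kernel (O := AlgSp.OEt X) (affSite X) g hM hN

theorem qc_cokernel {M N : AlgSp.ModEt X} (g : M ⟶ N) (hM : QC M) (hN : QC N) : QC (cokernel g) :=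
  bc_cokernel (O := AlgSp.OEt X) (affSite X) g hM hN

theorem qc_ext (C : ShortComplex (AlgSp.ModEt X)) (hC : C.ShortExact) (h₁ : QC C.X₁) (h₃ : QC C.X₃) : QC C.X₂ :=
  bc_ext (O := AlgSp.OEt X) (affSite X) C hC h₁ h₃

theorem qc_left (C : ShortComplex (AlgSp.ModEt X)) (hC : C.ShortExact) (h₂ : QC C.X₂) (h₃ : QC C.X₃) : QC C.X₁ := by
  haveI := hC.mono_f
  exact BC.of_iso (O := AlgSp.OEt X) ((limit.isLimit _).conePointUniqueUpToIso hC.exact.fIsKernel) (qc_kernel C.g h₂ h₃)

theorem qc_right (C : ShortComplex (AlgSp.ModEt X)) (hC : C.ShortExact) (h₁ : QC C.X₁) (h₂ : QC C.X₂) : QC C.X₃ := by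
  haveI := hC.epi_g
  exact BC.of_iso (O := AlgSp.OEt X) ((colimit.isColimit _).coconePointUniqueUpToIso hC.exact.gIsCokernel)
    (qc_cokernel C.f h₁ h₂)

theorem surjective_sections (C : ShortComplex (AlgSp.ModEt X)) (hC : C.ShortExact) (h₁ : QC C.X₁)
    {E : AlgSp.EtOver X} (hE : Aff X E) : Function.Surjective ((evalC (AlgSp.OEt X).obj E).map C.g.val) :=
  surjective_of_shortExact (O := AlgSp.OEt X) (affSite X) C hC h₁ hE

theorem shortExact_sections (C : ShortComplex (AlgSp.ModEt X)) (hC : C.ShortExact) (h₁ : QC C.X₁)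
    {E : AlgSp.EtOver X} (hE : Aff X E) :
    Function.Injective ((evalC (AlgSp.OEt X).obj E).map C.f.val) ∧
    Function.Exact ((evalC (AlgSp.OEt X).obj E).map C.f.val) ((evalC (AlgSp.OEt X).obj E).map C.g.val) ∧
    Function.Surjective ((evalC (AlgSp.OEt X).obj E).map C.g.val) := by
  haveI := hC.mono_f
  refine ⟨injective_app C.f E, ?_, surjective_sections C hC h₁ hE⟩
  exact (ShortComplex.ShortExact.moduleCat_exact_iff_function_exact _).1
    (hC.exact.map_of_mono_of_preservesKernel
      (SheafOfModules.forget.{u + 1} (AlgSp.OEtRing X) ⋙ PresheafOfModules.evaluation (AlgSp.OEtRing X).obj (op E))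
      hC.mono_f inferInstance)

theorem isFinitePresentation_of_ext (hX : AlgSp.IsLocNoethSp X) (C : ShortComplex (AlgSp.ModEt X)) (hC : C.ShortExact)
    [C.X₁.IsFinitePresentation] [C.X₃.IsFinitePresentation] : C.X₂.IsFinitePresentation := by
  have h₁ := (isQuasicoherent_iff C.X₁).1 inferInstance
  have h₃ := (isQuasicoherent_iff C.X₃).1 inferInstance
  refine isFinitePresentation_of_finite hX (qc_ext C hC h₁ h₃) fun E hE => ?_
  obtain ⟨hi, he, hs⟩ := shortExact_sections C hC h₁ hE
  haveI := finite_sec C.X₁ h₁ hE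
  haveI := finite_sec C.X₃ h₃ hE
  let f := ((evalC (AlgSp.OEt X).obj E).map C.f.val).hom
  let g := ((evalC (AlgSp.OEt X).obj E).map C.g.val).hom
  haveI : Module.Finite ((AlgSp.OEt X).obj.obj (op E)) (LinearMap.range f) := Module.Finite.range _
  haveI : Module.Finite ((AlgSp.OEt X).obj.obj (op E)) (Sec C.X₂ E ⧸ LinearMap.range f) :=
    Module.Finite.equiv ((Submodule.quotEquivOfEq _ _ (LinearMap.exact_iff.1 he).symm).trans
      (g.quotKerEquivOfSurjective hs)).symm
  exact Module.Finite.of_submodule_quotient (LinearMap.range f)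

end Groth.Agent.AlgSpQC

end
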