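import Groth.Agent.AlgSpQC.Push
import Groth.Agent.AlgSpQC.MainExt
import Groth.Agent.AlgSpQC.WeakAss
import Groth.Agent.ASp.Morph
import Groth.Agent.S9912

/-!
# Direct images along quasi-compact quasi-separated representable morphisms
-/

set_option autoImplicit false
set_option linter.style.haveILetI false
set_option linter.unusedSectionVars false
set_option backward.isDefEq.respectTransparency false
set_option backward.isDefEq.respectTransparency.types false
set_option maxHeartbeats 1600000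

universe u

open CategoryTheory Limits AlgebraicGeometry Opposite TensorProduct

noncomputable section

namespace Groth.Agent.AlgSpQC

variable {S : Scheme.{u}} {X : AlgSp.Sp S}

/-- Objects with quasi-compact schemes have finite affine covers. -/
theorem exists_finite_affine (U : AlgSp.EtOver X) [CompactSpace U.obj.left.left] :
    ∃ (n : ℕ) (Z : Fin n → AlgSp.EtOver X) (f : ∀ i, Z i ⟶ U), (∀ i, Aff X (Z i)) ∧
      Sieve.ofArrows Z f ∈ AlgSp.etTop X U := by
  obtain ⟨R, hR, hR'⟩ := (affSite X).exists_affine U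
  obtain ⟨T, hT, hle⟩ :=
    (Precoverage.mem_toGrothendieck_iff_of_isStableUnderComposition (J := AlgSp.etPre X)).1 hR
  obtain ⟨ι, Y, g, rfl⟩ := T.exists_eq_ofArrows
  have h : ∀ w : U.obj.left.left, ∃ (Z : AlgSp.EtOver X) (k : Z ⟶ U), Aff X Z ∧ w ∈ Set.range k.hom.left.left := by
    intro w
    obtain ⟨i, v, hv⟩ := (AlgSp.ofArrows_mem_etPre_iff Y g).1 hT w
    obtain ⟨Z, a, k, hZ, e⟩ := hR' (g i) (hle _ _ ⟨i⟩)
    refine ⟨Z, k, hZ, a.hom.left.left v, ?_⟩
    show (a.hom.left.left ≫ k.hom.left.left) v = w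
    exact (congrArg (fun m : Y i ⟶ U => m.hom.left.left v) e).trans hv
  choose Z k hZ hw using h
  obtain ⟨t, ht⟩ := isCompact_univ.elim_finite_subcover (fun w => Set.range (k w).hom.left.left)
    (fun w => haveI := AlgSp.EtOver.etale_left (k w); (k w).hom.left.left.isOpenMap.isOpen_range)
    (fun w _ => Set.mem_iUnion.2 ⟨w, hw w⟩)
  refine ⟨t.card, fun i => Z (t.equivFin.symm i), fun i => k _, fun i => hZ _,
    AlgSp.ofArrows_mem_etTop _ _ fun x => ?_⟩
  obtain ⟨w, hwt, v, hv⟩ := Set.mem_iUnion₂.1 (ht (Set.mem_univ x))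
  obtain ⟨i, rfl⟩ : ∃ i, (t.equivFin.symm i : U.obj.left.left) = w :=
    ⟨t.equivFin ⟨w, hwt⟩, by rw [Equiv.symm_apply_apply]⟩
  exact ⟨i, v, hv⟩

theorem isSheaf_presheaf (M : AlgSp.ModEt X) : Presheaf.IsSheaf (AlgSp.etTop X) M.val.presheaf := M.isSheaf

variable {Y : AlgSp.Sp S} {f : X ⟶ Y} (hf : AlgSp.Representable f)

/-- Sections over an object above a base change, as a module over the functions of the base. -/
abbrev Npush (M : AlgSp.ModEt X) (E : AlgSp.EtOver Y) {A : AlgSp.EtOver X}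
    (a : A ⟶ (AlgSp.EtOver.bc hf).obj E) : ModuleCat.{u + 1} ((AlgSp.OEt Y).obj.obj (op E)) :=
  (ModuleCat.restrictScalars (rπ hf E)).obj (Nmod (O := (AlgSp.OEt X).obj) M.val a)

/-- Restriction from the base change. -/
def resPush (M : AlgSp.ModEt X) (E : AlgSp.EtOver Y) {A : AlgSp.EtOver X} (a : A ⟶ (AlgSp.EtOver.bc hf).obj E) :
    (ModuleCat.restrictScalars (rπ hf E)).obj ((evalC (AlgSp.OEt X).obj ((AlgSp.EtOver.bc hf).obj E)).obj M.val)
      →ₗ[(AlgSp.OEt Y).obj.obj (op E)] Npush hf M E a :=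
  ((ModuleCat.restrictScalars (rπ hf E)).map (ModuleCat.ofHom (resL (O := (AlgSp.OEt X).obj) M.val a))).hom

/-- Restriction between objects above a base change. -/
def resPushN (M : AlgSp.ModEt X) (E : AlgSp.EtOver Y) {A B : AlgSp.EtOver X} (a : A ⟶ (AlgSp.EtOver.bc hf).obj E)
    (b : B ⟶ A) (c : B ⟶ (AlgSp.EtOver.bc hf).obj E) (h : b ≫ a = c) :
    Npush hf M E a →ₗ[(AlgSp.OEt Y).obj.obj (op E)] Npush hf M E c :=
  ((ModuleCat.restrictScalars (rπ hf E)).map (ModuleCat.ofHom (resN (O := (AlgSp.OEt X).obj) M.val a b c h))).hom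

theorem aff_pullback_push {E E' : AlgSp.EtOver Y} {g : E' ⟶ E} (hE : Aff Y E) (hE' : Aff Y E')
    {A A' : AlgSp.EtOver X} {a : A ⟶ (AlgSp.EtOver.bc hf).obj E} {k : A' ⟶ A} {h : A' ⟶ (AlgSp.EtOver.bc hf).obj E'}
    (sq : IsPullback k h a ((AlgSp.EtOver.bc hf).map g)) (hA : Aff X A) :
    Aff X A' ∧ IsPullback k.hom.left.left (h.hom.left.left ≫ (hf.snd E'.obj.hom).left)
      (a.hom.left.left ≫ (hf.snd E.obj.hom).left) g.hom.left.left := by
  have h1 : IsPullback k.hom.left.left h.hom.left.left a.hom.left.left ((AlgSp.EtOver.bc hf).map g).hom.left.left :=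
    sq.map (AlgSp.EtOver.toScheme X)
  have h2 := h1.paste_vert (AlgSp.EtOver.isPullback_bcMap_left hf g)
  haveI : IsAffine E.obj.left.left := hE
  haveI : IsAffine E'.obj.left.left := hE'
  haveI : IsAffine A.obj.left.left := hA
  exact ⟨IsAffine.of_isPullback h2, h2⟩

/-- Sections over a base change of an affine above a base change. -/
theorem exists_push_base_iso {M : AlgSp.ModEt X} (hM : QC M) {E E' : AlgSp.EtOver Y} {g : E' ⟶ E} (hE : Aff Y E)
    (hE' : Aff Y E') {A A' : AlgSp.EtOver X} {a : A ⟶ (AlgSp.EtOver.bc hf).obj E} {k : A' ⟶ A}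
    {h : A' ⟶ (AlgSp.EtOver.bc hf).obj E'} (sq : IsPullback k h a ((AlgSp.EtOver.bc hf).map g)) (hA : Aff X A) :
    letI := (rh (AlgSp.OEt Y).obj g).toAlgebra
    ∃ ψ : (AlgSp.OEt Y).obj.obj (op E') ⊗[(AlgSp.OEt Y).obj.obj (op E)] Npush hf M E a →+ Sec M A',
      Function.Bijective ψ ∧
      ∀ (s : (AlgSp.OEt Y).obj.obj (op E')) (x : M.val.obj (op A)),
        ψ (s ⊗ₜ[(AlgSp.OEt Y).obj.obj (op E)] (show Npush hf M E a from x)) =
          rh (AlgSp.OEt X).obj h (rπ hf E' s) • (show Sec M A' from res (O := (AlgSp.OEt X).obj) M.val k x) := by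
  obtain ⟨hA', hsq⟩ := aff_pullback_push hf hE hE' sq hA
  haveI : IsAffine E.obj.left.left := hE
  haveI : IsAffine E'.obj.left.left := hE'
  haveI : IsAffine A.obj.left.left := hA
  let φA : (AlgSp.OEt Y).obj.obj (op E) →+* (AlgSp.OEt X).obj.obj (op A) := (rh (AlgSp.OEt X).obj a).comp (rπ hf E)
  let φA' : (AlgSp.OEt Y).obj.obj (op E') →+* (AlgSp.OEt X).obj.obj (op A') :=
    (rh (AlgSp.OEt X).obj h).comp (rπ hf E')
  have hpo : IsPushout (CommRingCat.ofHom φA) ((AlgSp.OEt Y).obj.map g.op)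
      ((AlgSp.OEt X).obj.map k.op) (CommRingCat.ofHom φA') := by
    refine isPushout_ulift (isPushout_appTop_of_isPullback hsq)
      (upEquiv Y E) (upEquiv X A) (upEquiv Y E') (upEquiv X A') (fun r => ?_) (fun _ => rfl) (fun _ => rfl) (fun r => ?_)
    · exact congrArg (upEquiv X A) (ConcreteCategory.congr_hom
        (Scheme.Hom.comp_appTop a.hom.left.left (hf.snd E.obj.hom).left) r).symm
    · exact congrArg (upEquiv X A') (ConcreteCategory.congr_hom
        (Scheme.Hom.comp_appTop h.hom.left.left (hf.snd E'.obj.hom).left) r).symm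
  let R := (AlgSp.OEt Y).obj.obj (op E)
  let R' := (AlgSp.OEt Y).obj.obj (op E')
  let B := (AlgSp.OEt X).obj.obj (op A)
  let B' := (AlgSp.OEt X).obj.obj (op A')
  letI : Algebra R R' := (rh (AlgSp.OEt Y).obj g).toAlgebra
  letI : Algebra R B := φA.toAlgebra
  letI : Algebra R' B' := φA'.toAlgebra
  letI : Algebra B B' := (rh (AlgSp.OEt X).obj k).toAlgebra
  letI : Algebra R B' := (φA'.comp (rh (AlgSp.OEt Y).obj g)).toAlgebra
  haveI : IsScalarTower R R' B' := IsScalarTower.of_algebraMap_eq fun _ => rfl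
  haveI : IsScalarTower R B B' := IsScalarTower.of_algebraMap_eq fun r => (ConcreteCategory.congr_hom hpo.w r).symm
  haveI : Algebra.IsPushout R R' B B' := CommRingCat.isPushout_iff_isPushout.1 hpo.flip
  let N : ModuleCat.{u + 1} B := (evalC (AlgSp.OEt X).obj A).obj M.val
  letI : Module R N := Module.compHom N φA
  haveI : IsScalarTower R B N := IsScalarTower.of_algebraMap_smul fun _ _ => rfl
  let e := (Algebra.IsPushout.cancelBaseChange R R' B B' N).symm
  refine ⟨((θ (AlgSp.OEt X).obj k).app M.val).hom.toAddMonoidHom.comp e.toAddMonoidHom,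
    (hM.bijective k hA hA').comp e.bijective, fun s x => ?_⟩
  show (θ (AlgSp.OEt X).obj k).app M.val (e (s ⊗ₜ x)) = _
  rw [Algebra.IsPushout.cancelBaseChange_symm_tmul]
  exact θ_tmul (O := (AlgSp.OEt X).obj) M.val k _ x

theorem θ_push_tmul' (M : AlgSp.ModEt X) {E E' : AlgSp.EtOver Y} (g : E' ⟶ E)
    (s : (AlgSp.OEt Y).obj.obj (op E')) (x : M.val.obj (op ((AlgSp.EtOver.bc hf).obj E))) {T : AlgSp.EtOver X}
    (t : T ⟶ (AlgSp.EtOver.bc hf).obj E') :
    (show Sec M T from res (O := (AlgSp.OEt X).obj) M.val t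
      (show M.val.obj (op ((AlgSp.EtOver.bc hf).obj E')) from
        (θ (AlgSp.OEt Y).obj g).app ((AlgSp.pushModEt hf).obj M).val (s ⊗ₜ x))) =
    rh (AlgSp.OEt X).obj t (rπ hf E' s) •
      (show Sec M T from res (O := (AlgSp.OEt X).obj) M.val t
        (res (O := (AlgSp.OEt X).obj) M.val ((AlgSp.EtOver.bc hf).map g) x)) :=
  (congrArg _ (θ_push_tmul hf M g s x)).trans (M.val.map_smul t.op (rπ hf E' s) _)

set_option maxHeartbeats 6400000 in
/-- Direct images preserve base change if affines pull back to quasi-compact quasi-separated schemes. -/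
theorem qc_push_qcqs (hc : ∀ E, Aff Y E → CompactSpace ((AlgSp.EtOver.bc hf).obj E).obj.left.left)
    (hs : ∀ E, Aff Y E → QuasiSeparatedSpace ((AlgSp.EtOver.bc hf).obj E).obj.left.left)
    {M : AlgSp.ModEt X} (hM : QC M) : QC ((AlgSp.pushModEt hf).obj M) := by
  classical
  intro E E' g hE hE'
  rw [ConcreteCategory.isIso_iff_bijective]
  let R := (AlgSp.OEt Y).obj.obj (op E)
  let R' := (AlgSp.OEt Y).obj.obj (op E')
  letI : Algebra R R' := (rh (AlgSp.OEt Y).obj g).toAlgebra
  haveI : Module.Flat R R' := (affSite Y).flat g hE hE'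
  let W := (AlgSp.EtOver.bc hf).obj E
  let W' := (AlgSp.EtOver.bc hf).obj E'
  let bg : W' ⟶ W := (AlgSp.EtOver.bc hf).map g
  haveI := hc E hE
  haveI := hs E hE
  obtain ⟨n, A, a, hA, hcovA⟩ := exists_finite_affine W
  have hPc : ∀ q : Fin n × Fin n, CompactSpace (AlgSp.EtOver.pullbackObj (a q.1) (a q.2)).obj.left.left := fun q => by
    haveI : IsAffine (A q.1).obj.left.left := hA q.1
    haveI : IsAffine (A q.2).obj.left.left := hA q.2
    haveI : QuasiCompact (a q.1).hom.left.left :=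
      quasiCompact_of_compactSpace _
    haveI : QuasiCompact (AlgSp.EtOver.pullbackSnd (a q.1) (a q.2)).hom.left.left :=
      MorphismProperty.of_isPullback ((AlgSp.EtOver.isPullback (a q.1) (a q.2)).map (AlgSp.EtOver.toScheme X))
        (show QuasiCompact (a q.1).hom.left.left from inferInstance)
    exact QuasiCompact.compactSpace_of_compactSpace (AlgSp.EtOver.pullbackSnd (a q.1) (a q.2)).hom.left.left
  have hB := fun q => @exists_finite_affine _ _ _ (hPc q)
  choose m B b hB hcovB using hB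
  let vi : ∀ k : Σ q, Fin (m q), B k.1 k.2 ⟶ A k.1.1 := fun k => b k.1 k.2 ≫ AlgSp.EtOver.pullbackFst _ _
  let vj : ∀ k : Σ q, Fin (m q), B k.1 k.2 ⟶ A k.1.2 := fun k => b k.1 k.2 ≫ AlgSp.EtOver.pullbackSnd _ _
  have hv : ∀ k, vi k ≫ a k.1.1 = vj k ≫ a k.1.2 := fun k => by
    simp only [vi, vj, Category.assoc, AlgSp.EtOver.pullback_condition]
  let A' := fun i => AlgSp.EtOver.pullbackObj (a i) bg
  let kA : ∀ i, A' i ⟶ A i := fun i => AlgSp.EtOver.pullbackFst (a i) bg
  let hA₂ : ∀ i, A' i ⟶ W' := fun i => AlgSp.EtOver.pullbackSnd (a i) bg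
  have hpA : ∀ i, IsPullback (kA i) (hA₂ i) (a i) bg := fun i => AlgSp.EtOver.isPullback (a i) bg
  let c : ∀ k : Σ q, Fin (m q), B k.1 k.2 ⟶ W := fun k => vi k ≫ a k.1.1
  let B' := fun k => AlgSp.EtOver.pullbackObj (c k) bg
  let kB : ∀ k, B' k ⟶ B k.1 k.2 := fun k => AlgSp.EtOver.pullbackFst (c k) bg
  let hB₂ : ∀ k, B' k ⟶ W' := fun k => AlgSp.EtOver.pullbackSnd (c k) bg
  have hpB : ∀ k, IsPullback (kB k) (hB₂ k) (c k) bg := fun k => AlgSp.EtOver.isPullback (c k) bg
  have hcovA' : Sieve.ofArrows A' hA₂ ∈ AlgSp.etTop X W' := by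
    refine (AlgSp.etTop X).superset_covering ?_ ((AlgSp.etTop X).pullback_stable bg hcovA)
    intro T t ht
    obtain ⟨i, l, e⟩ := Sieve.mem_ofArrows_iff _ _ _ |>.1 ht
    exact Sieve.mem_ofArrows_iff _ _ _ |>.2 ⟨i, (hpA i).lift l t e.symm, ((hpA i).lift_snd l t e.symm).symm⟩
  choose ψ hψb hψe using fun i => exists_push_base_iso hf hM hE hE' (hpA i) (hA i)
  choose χ hχb hχe using fun k : Σ q, Fin (m q) => exists_push_base_iso hf hM hE hE' (hpB k) (hB k.1 k.2)
  let P := M.val
  have hP := isSheaf_presheaf M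
  let α := fun i => resPush hf M E (a i)
  let β := fun k : Σ q, Fin (m q) => resPushN hf M E (a k.1.1) (vi k) (c k) rfl
  let γ := fun k : Σ q, Fin (m q) => resPushN hf M E (a k.1.2) (vj k) (c k) (hv k).symm
  obtain ⟨hsep, hglue⟩ := flat_equalizer (R := R) (S := R')
    (N := ((ModuleCat.restrictScalars (rπ hf E)).obj ((evalC (AlgSp.OEt X).obj W).obj M.val)))
    (fun i : Fin n => Npush hf M E (a i)) (fun k : Σ q, Fin (m q) => Npush hf M E (c k))
    α (fun k => k.1.1) (fun k => k.1.2) β γ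
    (fun k x => by
      show res (O := (AlgSp.OEt X).obj) P (vi k) (res (O := (AlgSp.OEt X).obj) P (a k.1.1) x) =
        res (O := (AlgSp.OEt X).obj) P (vj k) (res (O := (AlgSp.OEt X).obj) P (a k.1.2) x)
      rw [← res_comp, ← res_comp, hv k])
    (fun x hx => (existsUnique_glue hP a hcovA (fun _ => 0) fun i j T g₁ g₂ _ =>
      (map_zero (P.presheaf.map g₁.op).hom).trans (map_zero (P.presheaf.map g₂.op).hom).symm).unique hx
        fun i => map_zero (P.presheaf.map (a i).op).hom)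
    (fun y hy => (existsUnique_glue hP a hcovA y fun i j T g₁ g₂ e => by
      let y' : ∀ i, P.obj (op (A i)) := fun i => y i
      let l := (AlgSp.EtOver.isPullback (a i) (a j)).lift g₁ g₂ e
      have h0 : res (O := (AlgSp.OEt X).obj) P (AlgSp.EtOver.pullbackFst (a i) (a j)) (y' i) =
          res (O := (AlgSp.OEt X).obj) P (AlgSp.EtOver.pullbackSnd (a i) (a j)) (y' j) :=
        ((existsUnique_glue hP (b (i, j)) (hcovB (i, j)) _ fun p p' T' q q' e' => by
          show res (O := (AlgSp.OEt X).obj) P q (res (O := (AlgSp.OEt X).obj) P (b (i, j) p)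
              (res (O := (AlgSp.OEt X).obj) P (AlgSp.EtOver.pullbackSnd (a i) (a j)) (y' j))) =
            res (O := (AlgSp.OEt X).obj) P q' (res (O := (AlgSp.OEt X).obj) P (b (i, j) p')
              (res (O := (AlgSp.OEt X).obj) P (AlgSp.EtOver.pullbackSnd (a i) (a j)) (y' j)))
          rw [← res_comp, ← res_comp, ← res_comp, ← res_comp]
          exact congrArg (fun z => res (O := (AlgSp.OEt X).obj) P (z ≫ AlgSp.EtOver.pullbackSnd (a i) (a j)) (y' j)) e')).unique
          (fun p => ((res_comp P _ _ _).symm.trans (hy ⟨(i, j), p⟩)).trans (res_comp P _ _ _)) (fun p => rfl)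
      refine ((congrArg (fun g₀ => res (O := (AlgSp.OEt X).obj) (X := A i) P g₀ (y' i))
        ((AlgSp.EtOver.isPullback (a i) (a j)).lift_fst g₁ g₂ e).symm).trans (res_comp P _ _ _)).trans ?_
      refine Eq.trans ?_ (congrArg (fun g₀ => res (O := (AlgSp.OEt X).obj) (X := A j) P g₀ (y' j))
        ((AlgSp.EtOver.isPullback (a i) (a j)).lift_snd g₁ g₂ e))
      exact (congrArg _ h0).trans (res_comp P _ _ _).symm).exists)
  let θg := (θ (AlgSp.OEt Y).obj g).app ((AlgSp.pushModEt hf).obj M).val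
  have hψα : ∀ i (w : R' ⊗[R] ((ModuleCat.restrictScalars (rπ hf E)).obj ((evalC (AlgSp.OEt X).obj W).obj M.val))),
      ψ i ((α i).lTensor R' w) = res (O := (AlgSp.OEt X).obj) P (hA₂ i) (θg w) := by
    intro i w
    induction w using TensorProduct.induction_on with
    | zero =>
      rw [map_zero, map_zero]
      exact (map_zero (P.presheaf.map (hA₂ i).op).hom).symm.trans (congrArg _ (map_zero θg.hom).symm)
    | tmul s x =>
      refine (hψe i s (res (O := (AlgSp.OEt X).obj) P (a i) x)).trans ?_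
      refine Eq.trans ?_ (θ_push_tmul' hf M g s x (hA₂ i)).symm
      refine congrArg (_ • ·) ?_
      show res (O := (AlgSp.OEt X).obj) P (kA i) (res (O := (AlgSp.OEt X).obj) P (a i) x) = _
      rw [← res_comp, (hpA i).w, res_comp]
    | add x y hx hy =>
      rw [map_add, map_add, hx, hy]
      exact (map_add (P.presheaf.map (hA₂ i).op).hom _ _).symm.trans (congrArg _ (map_add θg.hom x y).symm)
  refine ⟨(injective_iff_map_eq_zero θg.hom).2 fun w hw0 => hsep w fun i => ?_, fun y => ?_⟩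
  · refine (hψb i).1 ?_
    rw [hψα, map_zero]
    exact (congrArg _ hw0).trans (map_zero (P.presheaf.map (hA₂ i).op).hom)
  let y' : M.val.obj (op W') := y
  choose w₀ hw₀ using fun i => (hψb i).2 (res (O := (AlgSp.OEt X).obj) P (hA₂ i) y')
  have hcond : ∀ (k : Σ q, Fin (m q)) (i : Fin n) (v : B k.1 k.2 ⟶ A i) (e : v ≫ a i = c k) (w : R' ⊗[R] Npush hf M E (a i)),
      χ k ((resPushN hf M E (a i) v (c k) e).lTensor R' w) =
        res (O := (AlgSp.OEt X).obj) P
          ((hpA i).lift (kB k ≫ v) (hB₂ k) (by rw [Category.assoc, e, (hpB k).w])) (ψ i w) := by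
    intro k i v e w
    induction w using TensorProduct.induction_on with
    | zero => rw [map_zero, map_zero, map_zero]; exact (map_zero (P.presheaf.map _).hom).symm
    | tmul s x =>
      rw [LinearMap.lTensor_tmul, hψe i s x]
      refine (hχe k s (res (O := (AlgSp.OEt X).obj) P v x)).trans ?_
      refine Eq.trans ?_ (P.map_smul ((hpA i).lift (kB k ≫ v) (hB₂ k) (by rw [Category.assoc, e, (hpB k).w])).op
        (rh (AlgSp.OEt X).obj (hA₂ i) (rπ hf E' s)) (res (O := (AlgSp.OEt X).obj) P (kA i) x)).symm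
      refine congrArg₂ (fun (r : (AlgSp.OEt X).obj.obj (op (B' k))) z => r • (show Sec M (B' k) from z)) ?_
        (Eq.trans ?_ (res_comp P _ _ _))
      · conv_lhs => rw [← (hpA i).lift_snd (kB k ≫ v) (hB₂ k) (by rw [Category.assoc, e, (hpB k).w])]
        exact ConcreteCategory.congr_hom ((AlgSp.OEt X).obj.map_comp (hA₂ i).op _) (rπ hf E' s)
      · exact (res_comp P v (kB k) x).symm.trans (congrArg (fun g₀ => res (O := (AlgSp.OEt X).obj) (X := A i) P g₀ x)
          ((hpA i).lift_fst (kB k ≫ v) (hB₂ k) (by rw [Category.assoc, e, (hpB k).w])).symm)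
    | add x y hx hy =>
      rw [map_add, map_add, hx, hy, map_add]
      exact (map_add (P.presheaf.map _).hom _ _).symm
  obtain ⟨w, hwe⟩ := hglue w₀ fun k => (hχb k).1 (by
    show χ k ((resPushN hf M E (a k.1.1) (vi k) (c k) rfl).lTensor R' _) =
      χ k ((resPushN hf M E (a k.1.2) (vj k) (c k) (hv k).symm).lTensor R' _)
    rw [hcond, hcond, hw₀, hw₀, ← res_comp, ← res_comp, (hpA k.1.1).lift_snd, (hpA k.1.2).lift_snd])
  refine ⟨w, ?_⟩
  refine ((existsUnique_glue hP hA₂ hcovA' (fun i => res (O := (AlgSp.OEt X).obj) P (hA₂ i) y')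
    fun i j T g₁ g₂ e => ?_).unique (fun i => ?_) (fun i => rfl))
  · show res (O := (AlgSp.OEt X).obj) P g₁ (res (O := (AlgSp.OEt X).obj) P (hA₂ i) y') =
      res (O := (AlgSp.OEt X).obj) P g₂ (res (O := (AlgSp.OEt X).obj) P (hA₂ j) y')
    rw [← res_comp, ← res_comp, e]
  · show res (O := (AlgSp.OEt X).obj) P (hA₂ i) (θg w) = _
    rw [← hψα, hwe, hw₀]

/-- Quasi-compact quasi-separated representable morphisms: base changes of affines. -/
theorem qcqs_bc {X Y : AlgSp.Space S} {f : X ⟶ Y} (hf : AlgSp.Representable f.hom)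
    (hqc : AlgSp.IsQuasiCompactMor f.hom) (hqs : AlgSp.IsQuasiSeparatedMor f.hom) (E : AlgSp.EtOver Y.obj)
    (hE : Aff Y.obj E) : CompactSpace ((AlgSp.EtOver.bc hf).obj E).obj.left.left ∧
      QuasiSeparatedSpace ((AlgSp.EtOver.bc hf).obj E).obj.left.left := by
  haveI : IsAffine E.obj.left.left := hE
  have h1 : QuasiCompact (hf.snd E.obj.hom).left :=
    ((Groth.Agent.S9912.result f hf).2 hqc).2 _ _ _ (hf.isPullback E.obj.hom)
  have h2 : QuasiSeparated (hf.snd E.obj.hom).left :=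
    ((ASp.isQuasiSeparatedMor_iff hf).1 hqs).2 _ _ _ (hf.isPullback E.obj.hom)
  exact ⟨QuasiCompact.compactSpace_of_compactSpace (hf.snd E.obj.hom).left,
    quasiSeparatedSpace_of_quasiSeparated (hf.snd E.obj.hom).left⟩

end Groth.Agent.AlgSpQC

end
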