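import Groth.Agent.AlgSpQC.PullSec
import Groth.Agent.AlgSpQC.PushQcqs
import Groth.Agent.AlgSpQC.PushFin
import Groth.Agent.AlgSpQC.Chain
import Groth.Agent.AlgSpQC.Largest
import Groth.Agent.AlgSpQC.PushFF
import Groth.Agent.S9912
import Groth.Agent.S9920
import Groth.Agent.ASp.TopFpqc
import Groth.Agent.ASp.NoethFibre

/-!
# Tools for extending coherent subsheaves

If a quasi-coherent module `M` on a Noetherian algebraic space maps onto a coherent module `L` modulo the
union `F` of the coherent submodules, then some coherent submodule of `M` already maps onto it.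
-/

set_option autoImplicit false
set_option linter.style.haveILetI false
set_option linter.unusedSectionVars false
set_option backward.isDefEq.respectTransparency false
set_option backward.isDefEq.respectTransparency.types false
set_option maxHeartbeats 1600000

universe u

open CategoryTheory Limits AlgebraicGeometry Opposite TensorProduct

noncomputable section

namespace Groth.Agent.AlgSpQC

variable {S : Scheme.{u}} {X : AlgSp.Sp S}

/-- The values of a morphism on sections. -/
abbrev appS {M N : AlgSp.ModEt X} (φ : M ⟶ N) (E : AlgSp.EtOver X) :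
    Sec M E →ₗ[(AlgSp.OEt X).obj.obj (op E)] Sec N E :=
  ((evalC (AlgSp.OEt X).obj E).map φ.val).hom

/-- Restriction of sections. -/
abbrev resS (M : AlgSp.ModEt X) {E E' : AlgSp.EtOver X} (g : E' ⟶ E) (x : Sec M E) : Sec M E' :=
  res (O := (AlgSp.OEt X).obj) M.val g x

theorem resS_comp (M : AlgSp.ModEt X) {E E' E'' : AlgSp.EtOver X} (g : E' ⟶ E) (h : E'' ⟶ E') (x : Sec M E) :
    resS M h (resS M g x) = resS M (h ≫ g) x := (res_comp _ _ _ _).symm

theorem resS_add (M : AlgSp.ModEt X) {E E' : AlgSp.EtOver X} (g : E' ⟶ E) (x y : Sec M E) :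
    resS M g (x + y) = resS M g x + resS M g y := map_add (M.val.presheaf.map g.op).hom x y

theorem resS_zero (M : AlgSp.ModEt X) {E E' : AlgSp.EtOver X} (g : E' ⟶ E) : resS M g 0 = 0 :=
  map_zero (M.val.presheaf.map g.op).hom

theorem resS_smul (M : AlgSp.ModEt X) {E E' : AlgSp.EtOver X} (g : E' ⟶ E) (r : (AlgSp.OEt X).obj.obj (op E))
    (x : Sec M E) : resS M g (r • x) = rh (AlgSp.OEt X).obj g r • resS M g x := M.val.map_smul g.op r x

theorem appS_res {M N : AlgSp.ModEt X} (φ : M ⟶ N) {E E' : AlgSp.EtOver X} (g : E' ⟶ E) (x : Sec M E) :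
    appS φ E' (resS M g x) = resS N g (appS φ E x) :=
  PresheafOfModules.naturality_apply φ.val g.op x

theorem appS_comp {L M N : AlgSp.ModEt X} (φ : L ⟶ M) (ψ : M ⟶ N) (E : AlgSp.EtOver X) (x : Sec L E) :
    appS (φ ≫ ψ) E x = appS ψ E (appS φ E x) := rfl

theorem resS_mem_span {M : AlgSp.ModEt X} {E E' : AlgSp.EtOver X} (g : E' ⟶ E) {T : Set (Sec M E)} {x : Sec M E}
    (hx : x ∈ Submodule.span ((AlgSp.OEt X).obj.obj (op E)) T) :
    resS M g x ∈ Submodule.span ((AlgSp.OEt X).obj.obj (op E')) (resS M g '' T) := by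
  induction hx using Submodule.span_induction with
  | mem y hy => exact Submodule.subset_span ⟨y, hy, rfl⟩
  | zero => rw [resS_zero]; exact Submodule.zero_mem _
  | add a b _ _ ha hb => rw [resS_add]; exact Submodule.add_mem _ ha hb
  | smul r a _ ha => rw [resS_smul]; exact Submodule.smul_mem _ _ ha

/-- Sections of quasi-coherent modules are spanned by restrictions of generators. -/
theorem mem_span_res {M : AlgSp.ModEt X} (hM : QC M) {E E' : AlgSp.EtOver X} (g : E' ⟶ E) (hE : Aff X E)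
    (hE' : Aff X E') {T : Set (Sec M E)} (hT : Submodule.span ((AlgSp.OEt X).obj.obj (op E)) T = ⊤) (y : Sec M E') :
    y ∈ Submodule.span ((AlgSp.OEt X).obj.obj (op E')) (resS M g '' T) := by
  letI := (rh (AlgSp.OEt X).obj g).toAlgebra
  obtain ⟨w, rfl⟩ := (hM.bijective g hE hE').2 y
  induction w using TensorProduct.induction_on with
  | zero =>
    rw [show (θ (AlgSp.OEt X).obj g).app M.val 0 = (0 : Sec M E') from map_zero ((θ (AlgSp.OEt X).obj g).app M.val).hom]
    exact Submodule.zero_mem _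
  | tmul s x =>
    rw [show (θ (AlgSp.OEt X).obj g).app M.val (s ⊗ₜ x) = s • resS M g x from
      θ_tmul (O := (AlgSp.OEt X).obj) M.val g s x]
    exact Submodule.smul_mem _ _ (resS_mem_span g (hT ▸ Submodule.mem_top))
  | add a b ha hb =>
    rw [show (θ (AlgSp.OEt X).obj g).app M.val (a + b) =
      ((θ (AlgSp.OEt X).obj g).app M.val a + (θ (AlgSp.OEt X).obj g).app M.val b : Sec M E') from
        map_add ((θ (AlgSp.OEt X).obj g).app M.val).hom a b]
    exact Submodule.add_mem _ ha hb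

theorem finite_of_total {H H' P : AlgSp.ModEt X} (i₁ : H ⟶ P) (i₂ : H' ⟶ P) (p₁ : P ⟶ H) (p₂ : P ⟶ H')
    (htot : p₁ ≫ i₁ + p₂ ≫ i₂ = 𝟙 P) (E : AlgSp.EtOver X)
    [Module.Finite ((AlgSp.OEt X).obj.obj (op E)) (Sec H E)]
    [Module.Finite ((AlgSp.OEt X).obj.obj (op E)) (Sec H' E)] :
    Module.Finite ((AlgSp.OEt X).obj.obj (op E)) (Sec P E) := by
  refine Module.Finite.of_surjective ((appS i₁ E).coprod (appS i₂ E)) fun x => ⟨(appS p₁ E x, appS p₂ E x), ?_⟩
  rw [LinearMap.coprod_apply, ← appS_comp, ← appS_comp]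
  exact congrArg (fun k : P ⟶ P => appS k E x) htot

/-- Binary direct sums of coherent modules are coherent. -/
theorem isFinitePresentation_biprod (hN : AlgSp.IsLocNoethSp X) (H H' : AlgSp.ModEt X) [H.IsFinitePresentation]
    [H'.IsFinitePresentation] : (H ⊞ H').IsFinitePresentation := by
  have hH := (isQuasicoherent_iff H).1 inferInstance
  have hH' := (isQuasicoherent_iff H').1 inferInstance
  have hS : QC (H ⊞ H') :=
    qc_ext (ShortComplex.mk (biprod.inl : H ⟶ H ⊞ H') (biprod.snd : H ⊞ H' ⟶ H') biprod.inl_snd)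
      (ShortComplex.Splitting.ofHasBinaryBiproduct H H').shortExact hH hH'
  refine isFinitePresentation_of_finite hN hS fun E hE => ?_
  haveI := finite_sec H hH hE
  haveI := finite_sec H' hH' hE
  exact finite_of_total (biprod.inl : H ⟶ H ⊞ H') biprod.inr biprod.fst biprod.snd biprod.total E

/-- Membership in the union of the images of coherent modules. -/
def InFP {M : AlgSp.ModEt X} (E : AlgSp.EtOver X) (x : Sec M E) : Prop :=
  ∃ (H : AlgSp.ModEt X) (φ : H ⟶ M), H.IsFinitePresentation ∧ x ∈ Set.range (appS φ E)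

/-- The zero module is coherent. -/
theorem isFinitePresentation_zero (hN : AlgSp.IsLocNoethSp X) {Z : AlgSp.ModEt X} (hZ : IsZero Z) :
    Z.IsFinitePresentation := by
  have hsub := subsingleton_sec_of_isZero hZ
  have hq : QC Z := fun E E' g _ _ => by
    haveI := hsub E
    haveI := hsub E'
    letI := (rh (AlgSp.OEt X).obj g).toAlgebra
    rw [ConcreteCategory.isIso_iff_bijective]
    haveI : Subsingleton ((AlgSp.OEt X).obj.obj (op E') ⊗[(AlgSp.OEt X).obj.obj (op E)] Sec Z E) := inferInstance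
    exact ⟨fun a b _ => Subsingleton.elim (α := (AlgSp.OEt X).obj.obj (op E') ⊗[(AlgSp.OEt X).obj.obj (op E)] Sec Z E) a b,
      fun y => ⟨0, Subsingleton.elim (α := Sec Z E') _ y⟩⟩
  exact isFinitePresentation_of_finite hN hq fun E _ => haveI := hsub E; inferInstance

theorem exists_common_fp (hN : AlgSp.IsLocNoethSp X) (M : AlgSp.ModEt X) {ι : Type*} [Finite ι]
    (E : ι → AlgSp.EtOver X) (x : ∀ i, Sec M (E i)) (h : ∀ i, InFP (E i) (x i)) :
    ∃ (H : AlgSp.ModEt X) (φ : H ⟶ M), H.IsFinitePresentation ∧ ∀ i, x i ∈ Set.range (appS φ (E i)) := by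
  classical
  haveI := Fintype.ofFinite ι
  suffices ∀ s : Finset ι, ∃ (H : AlgSp.ModEt X) (φ : H ⟶ M), H.IsFinitePresentation ∧
      ∀ i ∈ s, x i ∈ Set.range (appS φ (E i)) by
    obtain ⟨H, φ, hH, hx⟩ := this Finset.univ
    exact ⟨H, φ, hH, fun i => hx i (Finset.mem_univ i)⟩
  intro s
  induction s using Finset.induction_on with
  | empty => exact ⟨_, 0, isFinitePresentation_zero hN (isZero_zero _), fun i hi => absurd hi (Finset.notMem_empty i)⟩
  | insert a t _ ih =>
    obtain ⟨H, φ, hH, hx⟩ := ih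
    obtain ⟨H', φ', hH', ⟨w', hw'⟩⟩ := h a
    haveI := hH
    haveI := hH'
    refine ⟨H ⊞ H', biprod.desc φ φ', isFinitePresentation_biprod hN H H', fun i hi => ?_⟩
    rcases Finset.mem_insert.1 hi with rfl | hi
    · exact ⟨appS biprod.inr _ w', by rw [← appS_comp, biprod.inr_desc, hw']⟩
    · obtain ⟨w, hw⟩ := hx i hi
      exact ⟨appS biprod.inl _ w, by rw [← appS_comp, biprod.inl_desc, hw]⟩

/-- The union of the images of coherent modules. -/
def fpSub (hN : AlgSp.IsLocNoethSp X) (M : AlgSp.ModEt X) : AffSub M where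
  N E _ :=
    { carrier := {x | InFP E x}
      zero_mem' := ⟨_, 0, isFinitePresentation_zero hN (isZero_zero _), 0, map_zero _⟩
      add_mem' := fun {a b} ha hb => by
        obtain ⟨H, φ, hH, hx⟩ := exists_common_fp hN M (fun _ : Bool => E) (fun i => if i then a else b)
          (fun i => by cases i; exacts [hb, ha])
        obtain ⟨u, hu⟩ := hx true
        obtain ⟨v, hv⟩ := hx false
        exact ⟨H, φ, hH, u + v, by rw [map_add, hu, hv]; rfl⟩
      smul_mem' := fun r a ⟨H, φ, hH, w, hw⟩ => ⟨H, φ, hH, r • w, by rw [map_smul, hw]⟩ }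
  mem_res {E E'} g _ _ x := fun ⟨H, φ, hH, w, hw⟩ => ⟨H, φ, hH, resS H g w, by rw [appS_res, hw]⟩
  gen {E E'} g hE hE' := fun y ⟨H, φ, hH, w, hw⟩ => by
    haveI := hH
    subst hw
    have hq := (isQuasicoherent_iff H).1 inferInstance
    have := Submodule.mem_map_of_mem (f := appS φ E') (mem_span_res hq g hE hE' (Submodule.span_univ) w)
    rw [Submodule.map_span] at this
    refine Submodule.span_mono ?_ this
    rintro _ ⟨_, ⟨v, -, rfl⟩, rfl⟩
    exact ⟨appS φ E v, ⟨H, φ, hH, v, rfl⟩, (appS_res φ g v).symm⟩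

/-- Affine charts of quasi-separated Noetherian spaces are quasi-compact and quasi-separated. -/
theorem qcqs_chart [QuasiSeparatedSpace ↥S] (hX : AlgSp.IsAlgSpace X) (hqs : AlgSp.IsQuasiSeparatedSp X) (hN : AlgSp.IsLocNoethSp X)
    {V : Over S} (hV : IsAffine V.left) {q : (AlgSp.yon S).obj V ⟶ X} (hq : AlgSp.RepWith @Etale q)
    (E : AlgSp.EtOver X) (hE : Aff X E) :
    CompactSpace ((AlgSp.EtOver.bc hq.1).obj E).obj.left.left ∧
      QuasiSeparatedSpace ((AlgSp.EtOver.bc hq.1).obj E).obj.left.left := by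
  haveI := hV
  haveI : IsAffine E.obj.left.left := hE
  have h1 : AlgSp.RepWith @QuasiCompact q :=
    (S9912.result (X := ⟨_, AlgSp.IsAlgSpace.yon_obj V⟩) (Y := ⟨X, hX⟩) (ObjectProperty.homMk q) hq.1).2
      (S9920.result (X := ⟨_, AlgSp.IsAlgSpace.yon_obj V⟩) (Y := ⟨X, hX⟩) (ObjectProperty.homMk q)
        ASp.isQuasiCompactSp_yon hqs)
  haveI : QuasiCompact (hq.1.snd E.obj.hom).left := h1.2 _ _ _ (hq.1.isPullback E.obj.hom)
  haveI : Etale (hq.1.snd E.obj.hom).left := hq.2 _ _ _ (hq.1.isPullback E.obj.hom)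
  haveI : IsLocallyNoetherian E.obj.left.left := ASp.isLocallyNoetherian_of_chart hN E.property
  haveI : IsLocallyNoetherian ((AlgSp.EtOver.bc hq.1).obj E).obj.left.left :=
    LocallyOfFiniteType.isLocallyNoetherian (hq.1.snd E.obj.hom).left
  exact ⟨QuasiCompact.compactSpace_of_compactSpace (hq.1.snd E.obj.hom).left, inferInstance⟩

/-- Sections over the chart of an object over the chart. -/
theorem aff_compE_Tid {V : Over S} (hV : IsAffine V.left) {q : (AlgSp.yon S).obj V ⟶ X}
    (hq : AlgSp.RepWith @Etale q) : Aff X ((compE hq).obj (Tid V)) := hV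

theorem unit_app_eq {Y : AlgSp.Sp S} {p : Y ⟶ X} (hp : AlgSp.RepWith @Etale p) (M : AlgSp.ModEt X)
    (E : AlgSp.EtOver X) (x : Sec M E) :
    (show M.val.obj (op ((compE hp).obj ((AlgSp.EtOver.bc hp.1).obj E))) from appS ((restrAdj hp).unit.app M) E x) =
      resS M ((compAdj hp).counit.app E) x :=
  rfl

theorem homEquiv_app_eq {Y : AlgSp.Sp S} {p : Y ⟶ X} (hp : AlgSp.RepWith @Etale p) {M : AlgSp.ModEt X}
    {C : AlgSp.ModEt Y} (π : (restrMod hp).obj M ⟶ C) (E : AlgSp.EtOver X) (x : Sec M E) :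
    (show C.val.obj (op ((AlgSp.EtOver.bc hp.1).obj E)) from appS ((restrAdj hp).homEquiv M C π) E x) =
      appS π ((AlgSp.EtOver.bc hp.1).obj E)
        (show Sec ((restrMod hp).obj M) ((AlgSp.EtOver.bc hp.1).obj E) from resS M ((compAdj hp).counit.app E) x) := by
  rw [Adjunction.homEquiv_unit]
  exact congrArg (appS π ((AlgSp.EtOver.bc hp.1).obj E)) (unit_app_eq hp M E x)

/-- The range of a map out of a free module is the span of the restricted generators. -/
theorem range_desc {V : Over S} {M : AlgSp.ModEt ((AlgSp.yon S).obj V)} {J : Type (u + 1)}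
    (k : J → Sec M (Tid V)) {A : AlgSp.EtOver ((AlgSp.yon S).obj V)} (hA : Aff _ A) :
    LinearMap.range (appS (M.freeHomEquiv.symm fun j => secOf (O := AlgSp.OEt _) (isTerminalTid V) M (k j)) A) =
      Submodule.span ((AlgSp.OEt ((AlgSp.yon S).obj V)).obj.obj (op A))
        (Set.range fun j => resS M ((isTerminalTid V).from A) (k j)) := by
  rw [LinearMap.range_eq_map, ← span_eSec J hA, Submodule.map_span, ← Set.range_comp]
  refine congrArg _ (congrArg Set.range (funext fun j => ?_))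
  refine (app_eSec J _ A j).trans ?_
  rw [Equiv.apply_symm_apply]
  rfl

/-- The common kernel of finitely many morphisms. -/
theorem exists_kernel_family {M : AlgSp.ModEt X} (hM : QC M) {ι : Type*} [Finite ι] (P : ι → AlgSp.ModEt X)
    (hP : ∀ i, QC (P i)) (ψ : ∀ i, M ⟶ P i) :
    ∃ (K : AlgSp.ModEt X) (κ : K ⟶ M), Mono κ ∧ QC K ∧
      ∀ E, Aff X E → ∀ x, (x ∈ Set.range (appS κ E) ↔ ∀ i, appS (ψ i) E x = 0) := by
  classical
  haveI := Fintype.ofFinite ι
  suffices ∀ s : Finset ι, ∃ (K : AlgSp.ModEt X) (κ : K ⟶ M), Mono κ ∧ QC K ∧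
      ∀ E, Aff X E → ∀ x, (x ∈ Set.range (appS κ E) ↔ ∀ i ∈ s, appS (ψ i) E x = 0) by
    obtain ⟨K, κ, h1, h2, h3⟩ := this Finset.univ
    exact ⟨K, κ, h1, h2, fun E hE x => (h3 E hE x).trans ⟨fun h i => h i (Finset.mem_univ i), fun h i _ => h i⟩⟩
  intro s
  induction s using Finset.induction_on with
  | empty =>
    exact ⟨M, 𝟙 M, inferInstance, hM, fun E _ x => ⟨fun _ i hi => absurd hi (Finset.notMem_empty i), fun _ => ⟨x, rfl⟩⟩⟩
  | insert a t _ ih =>
    obtain ⟨K, κ, hκ, hK, hmem⟩ := ih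
    refine ⟨kernel (κ ≫ ψ a), kernel.ι _ ≫ κ, inferInstance, qc_kernel _ hK (hP a), fun E hE x => ⟨?_, fun hx => ?_⟩⟩
    · rintro ⟨w, rfl⟩ i hi
      rcases Finset.mem_insert.1 hi with rfl | hi
      · rw [← appS_comp, Category.assoc, kernel.condition]
        rfl
      · exact (hmem E hE _).1 ⟨appS (kernel.ι _) E w, rfl⟩ i hi
    · obtain ⟨v, rfl⟩ := (hmem E hE x).2 fun i hi => hx i (Finset.mem_insert_of_mem hi)
      have hC := qc_cokernel (kernel.ι (κ ≫ ψ a)) (qc_kernel _ hK (hP a)) hK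
      obtain ⟨w, hw⟩ := ((cokernel_sections (kernel.ι (κ ≫ ψ a)) (qc_kernel _ hK (hP a)) hK hE).2 v).1 (by
        refine injective_app (Abelian.factorThruCoimage (κ ≫ ψ a)) E ?_
        refine Eq.trans ?_ (map_zero (appS (Abelian.factorThruCoimage (κ ≫ ψ a)) E)).symm
        refine (appS_comp (cokernel.π (kernel.ι (κ ≫ ψ a))) (Abelian.factorThruCoimage (κ ≫ ψ a)) E v).symm.trans ?_
        rw [show cokernel.π (kernel.ι (κ ≫ ψ a)) ≫ Abelian.factorThruCoimage (κ ≫ ψ a) = κ ≫ ψ a from
          cokernel.π_desc _ _ _]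
        exact hx a (Finset.mem_insert_self a t))
      exact ⟨w, congrArg (appS κ E) hw⟩

end Groth.Agent.AlgSpQC

end
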