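import Groth.Agent.AlgSpQC.Gen
import Groth.Agent.AlgSpQC.Ext
import Groth.Agent.AlgSpQC.Qcoh

/-!
# Finite presentation in terms of the sections over affines
-/

set_option autoImplicit false
set_option linter.style.haveILetI false
set_option linter.unusedSectionVars false
set_option backward.isDefEq.respectTransparency false
set_option backward.isDefEq.respectTransparency.types false
set_option maxHeartbeats 800000

universe u

open CategoryTheory Limits Opposite TensorProduct

noncomputable section

namespace Groth.Agent.AlgSpQC

/-- Finite generation descends along a finite jointly faithfully flat family. -/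
theorem finite_of_family {R N : Type u} [CommRing R] [AddCommGroup N] [Module R N] {ι : Type u} [Fintype ι]
    (B : ι → Type u) [∀ i, CommRing (B i)] [∀ i, Algebra R (B i)] [Module.FaithfullyFlat R (∀ i, B i)]
    [∀ i, Module.Finite (B i) (B i ⊗[R] N)] : Module.Finite R N := by
  classical
  haveI : Module.Finite (∀ i, B i) ((∀ i, B i) ⊗[R] N) := by
    choose m s hs using fun i => Module.Finite.exists_fin (R := B i) (M := B i ⊗[R] N)
    choose k b y hy using fun (p : Σ i, Fin (m i)) => TensorProduct.exists_sum_tmul_eq (s p.1 p.2)
    refine ⟨⟨(Finset.univ : Finset (Σ p : Σ i, Fin (m i), Fin (k p))).image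
      (fun q => (1 : ∀ i, B i) ⊗ₜ[R] y q.1 q.2), top_le_iff.1 fun w _ => ?_⟩⟩
    let V := Submodule.span (∀ i, B i) (↑((Finset.univ : Finset (Σ p : Σ i, Fin (m i), Fin (k p))).image
      (fun q => (1 : ∀ i, B i) ⊗ₜ[R] y q.1 q.2)) : Set ((∀ i, B i) ⊗[R] N))
    have hy1 : ∀ (q : Σ p : Σ i, Fin (m i), Fin (k p)) (c : ∀ i, B i), c ⊗ₜ[R] y q.1 q.2 ∈ V := fun q c => by
      have := V.smul_mem c (Submodule.subset_span (Finset.mem_coe.2 (Finset.mem_image.2 ⟨q, Finset.mem_univ _, rfl⟩)))
      rwa [TensorProduct.smul_tmul', smul_eq_mul, mul_one] at this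
    let e : ∀ i, B i →ₗ[R] (∀ i, B i) := fun i => LinearMap.single R B i
    have key : ∀ i (v : B i ⊗[R] N), (e i).rTensor N v ∈ V := by
      intro i v
      have hv : v ∈ Submodule.span (B i) (Set.range (s i)) := hs i ▸ Submodule.mem_top
      suffices ∀ c : B i, (e i).rTensor N (c • v) ∈ V by simpa using this 1
      induction hv using Submodule.span_induction with
      | mem v hv =>
        obtain ⟨l, rfl⟩ := hv
        intro c
        rw [hy ⟨i, l⟩, Finset.smul_sum, map_sum]
        refine Submodule.sum_mem _ fun q _ => ?_
        rw [TensorProduct.smul_tmul', LinearMap.rTensor_tmul]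
        exact hy1 ⟨⟨i, l⟩, q⟩ _
      | zero => intro c; simp
      | add a b _ _ ha hb => intro c; rw [smul_add, map_add]; exact V.add_mem (ha c) (hb c)
      | smul r a _ ha => intro c; rw [smul_smul]; exact ha _
    induction w using TensorProduct.induction_on with
    | zero => exact V.zero_mem
    | tmul c x =>
      rw [show c = ∑ i, e i (c i) from (Finset.univ_sum_single c).symm, TensorProduct.sum_tmul]
      exact Submodule.sum_mem _ fun i _ => by
        rw [← LinearMap.rTensor_tmul N (e i) x (c i)]; exact key i _
    | add a b ha hb => exact V.add_mem (ha trivial) (hb trivial)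
  exact Module.Finite.of_finite_tensorProduct_of_faithfullyFlat (R := R) (M := N) (∀ i, B i)

/-- Finite presentation descends along a finite jointly faithfully flat family. -/
theorem finitePresentation_of_family {R N : Type u} [CommRing R] [AddCommGroup N] [Module R N] {ι : Type u}
    [Fintype ι] (B : ι → Type u) [∀ i, CommRing (B i)] [∀ i, Algebra R (B i)] [∀ i, Module.Flat R (B i)]
    [Module.FaithfullyFlat R (∀ i, B i)] [∀ i, Module.FinitePresentation (B i) (B i ⊗[R] N)] :
    Module.FinitePresentation R N := by
  haveI := finite_of_family (R := R) (N := N) B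
  obtain ⟨m, π, hπ⟩ := Module.Finite.exists_fin' R N
  refine Module.finitePresentation_of_surjective π hπ ?_
  rw [← Module.Finite.iff_fg]
  refine @finite_of_family R (LinearMap.ker π) _ _ _ ι _ B _ _ _ fun i => ?_
  have hs : Function.Surjective (π.baseChange (B i)) := by
    have := LinearMap.lTensor_surjective (B i) hπ
    rwa [← LinearMap.baseChange_eq_ltensor] at this
  let ι' := (LinearMap.ker π).subtype.baseChange (B i)
  have hi : Function.Injective ι' := by
    have := Module.Flat.lTensor_preserves_injective_linearMap (M := B i) (LinearMap.ker π).subtype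
      Subtype.val_injective
    rwa [← LinearMap.baseChange_eq_ltensor] at this
  have he : LinearMap.range ι' = LinearMap.ker (π.baseChange (B i)) := by
    have := lTensor_exact (B i) (LinearMap.exact_subtype_ker_map π) hπ
    exact (LinearMap.exact_iff.1 (by rwa [← LinearMap.baseChange_eq_ltensor, ← LinearMap.baseChange_eq_ltensor] at this :
      Function.Exact ι' (π.baseChange (B i)))).symm
  haveI : Module.Finite (B i) (LinearMap.range ι') := by
    rw [he, Module.Finite.iff_fg]
    exact Module.FinitePresentation.fg_ker _ hs
  exact Module.Finite.equiv (LinearEquiv.ofInjective ι' hi).symm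

variable {C : Type (u + 1)} [Category.{u} C] {J : GrothendieckTopology C} {O : Sheaf J CommRingCat.{u + 1}}
  {Aff : C → Prop}

section Final

variable (H : AffSite J O.obj Aff)
  [HasSheafify J AddCommGrpCat.{u + 1}] [J.WEqualsLocallyBijective AddCommGrpCat.{u + 1}]
variable {T : C} (hT : IsTerminal T)

include H in
/-- Free modules of finite rank have finitely presented sections. -/
theorem finitePresentation_free (I : Type (u + 1)) [Finite I] (X : C) :
    Module.FinitePresentation (O.obj.obj (op X)) ((evalC O.obj X).obj (SheafOfModules.free (R := RS O) I).val) := by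
  classical
  haveI := Fintype.ofFinite I
  let p : I → (SheafOfModules.free (R := RS O) I ⟶ SheafOfModules.unit (RS O)) := fun i =>
    Sigma.desc fun j => if j = i then 𝟙 _ else 0
  have hid : 𝟙 (SheafOfModules.free (R := RS O) I) = ∑ i, p i ≫ SheafOfModules.ιFree i := by
    refine Cofan.IsColimit.hom_ext (SheafOfModules.isColimitFreeCofan I) _ _ fun j => ?_
    refine (Category.comp_id _).trans ?_
    rw [SheafOfModules.freeCofan_inj]
    refine Eq.trans ?_ (Preadditive.comp_sum _ (SheafOfModules.ιFree (R := RS O) j) _).symm
    rw [Finset.sum_eq_single j]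
    · rw [← Category.assoc]
      show SheafOfModules.ιFree j = (Sigma.ι (fun _ : I => SheafOfModules.unit (RS O)) j ≫ Sigma.desc _) ≫ _
      rw [Sigma.ι_desc, if_pos rfl, Category.id_comp]
    · intro i _ hij
      rw [← Category.assoc]
      show (Sigma.ι (fun _ : I => SheafOfModules.unit (RS O)) j ≫ Sigma.desc _) ≫ _ = 0
      rw [Sigma.ι_desc, if_neg (Ne.symm hij), zero_comp]
    · simp
  let Q := (evalC O.obj X).obj (SheafOfModules.free (R := RS O) I).val
  let a : Q →ₗ[O.obj.obj (op X)] (I → O.obj.obj (op X)) :=
    { toFun := fun w i => (show O.obj.obj (op X) from (p i).val.app (op X) w)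
      map_add' := fun x y => funext fun i => map_add ((p i).val.app (op X)).hom x y
      map_smul' := fun r x => funext fun i => map_smul ((p i).val.app (op X)).hom r x }
  let b : (I → O.obj.obj (op X)) →ₗ[O.obj.obj (op X)] Q :=
    Fintype.linearCombination (O.obj.obj (op X)) fun i =>
      (show Q from (SheafOfModules.freeSection (R := RS O) i).val (op X))
  have hw : ∀ w : Q, b (a w) = w := fun w => by
    have := congrArg (fun φ : SheafOfModules.free (R := RS O) I ⟶ SheafOfModules.free (R := RS O) I =>
      φ.val.app (op X) w) hid
    refine Eq.trans ?_ this.symm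
    show ∑ i, (a w i) • (show Q from (SheafOfModules.freeSection (R := RS O) i).val (op X)) = _
    refine Eq.symm ((map_sum (AddMonoidHom.mk' (fun φ : SheafOfModules.free (R := RS O) I ⟶ SheafOfModules.free (R := RS O) I =>
      (show (evalC O.obj X).obj (SheafOfModules.free (R := RS O) I).val from φ.val.app (op X) w))
      (fun _ _ => rfl)) (fun i => p i ≫ SheafOfModules.ιFree i) Finset.univ).trans ?_)
    refine Finset.sum_congr rfl fun i _ => ?_
    let c : (RS O).obj.obj (op X) := (p i).val.app (op X) w
    show (SheafOfModules.ιFree (R := RS O) i).val.app (op X) c = c • _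
    refine Eq.trans ?_ (((SheafOfModules.ιFree (R := RS O) i).val.app (op X)).hom.map_smul c
      (show (SheafOfModules.unit (RS O)).val.obj (op X) from (1 : (RS O).obj.obj (op X))) |>.trans ?_)
    · exact congrArg _ (mul_one c).symm
    · rfl
  haveI : Module.Projective (O.obj.obj (op X)) Q := Module.Projective.of_split a b (LinearMap.ext hw)
  haveI := finite_free H I X
  exact Module.finitePresentation_of_projective _ _

include H in
/-- Exactness of the sections of a kernel on any object. -/
theorem range_kernel_eq {M N : SheafOfModules.{u + 1} (RS O)} (g : M ⟶ N) (X : C) :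
    LinearMap.range ((evalC O.obj X).map (kernel.ι g).val).hom = LinearMap.ker ((evalC O.obj X).map g.val).hom := by
  let S : ShortComplex (SheafOfModules.{u + 1} (RS O)) := ShortComplex.mk _ _ (kernel.condition g)
  have hS : S.Exact := S.exact_of_f_is_kernel (kernelIsKernel g)
  refine (LinearMap.exact_iff.1 ((ShortComplex.ShortExact.moduleCat_exact_iff_function_exact _).1
    (hS.map_of_mono_of_preservesKernel
      (SheafOfModules.forget.{u + 1} (RS O) ⋙ PresheafOfModules.evaluation (RS O).obj (op X))
      inferInstance inferInstance))).symm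

include H in
theorem injective_sec {M N : SheafOfModules.{u + 1} (RS O)} (g : M ⟶ N) [Mono g] (X : C) :
    Function.Injective ((evalC O.obj X).map g.val) := by
  refine (ModuleCat.mono_iff_injective _).1 ?_
  haveI : PreservesLimitsOfShape WalkingCospan (evalC O.obj X) :=
    inferInstanceAs (PreservesLimitsOfShape WalkingCospan (PresheafOfModules.evaluation (RS O).obj (op X)))
  haveI : Mono g.val := by
    haveI : PreservesLimitsOfShape WalkingCospan (SheafOfModules.forget.{u + 1} (RS O)) := inferInstance
    exact (SheafOfModules.forget (RS O)).map_mono g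
  exact (evalC O.obj X).map_mono _

include H hT in
/-- Finitely presented sections on an affine final object give a finite presentation. -/
theorem exists_finite_presentation' {M : SheafOfModules.{u + 1} (RS O)} (hM : BC Aff M) (hTA : Aff T)
    [Module.FinitePresentation (O.obj.obj (op T)) ((evalC O.obj T).obj M.val)] :
    ∃ p : M.Presentation, p.IsFinite := by
  obtain ⟨m, s, hs⟩ := Module.Finite.exists_fin (R := O.obj.obj (op T)) (M := (evalC O.obj T).obj M.val)
  let g := genOf H hT hM hTA (I := ULift.{u + 1} (Fin m)) (fun i => s i.down)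
    (by rwa [show (fun i : ULift.{u + 1} (Fin m) => s i.down) = s ∘ ULift.down from rfl,
      Function.Surjective.range_comp ULift.down_surjective])
  have hK := bc_kernel H g.π (bc_free H _) hM
  haveI : Finite g.I := inferInstanceAs (Finite (ULift.{u + 1} (Fin m)))
  haveI := finite_free H g.I T
  haveI : Module.Finite (O.obj.obj (op T)) ((evalC O.obj T).obj (kernel g.π).val) := by
    haveI : Module.Finite (O.obj.obj (op T)) (LinearMap.range ((evalC O.obj T).map (kernel.ι g.π).val).hom) := by
      rw [range_kernel_eq H g.π T, Module.Finite.iff_fg]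
      exact Module.FinitePresentation.fg_ker _ (surjective_of_epi H g.π (bc_free H _) hM hTA)
    exact Module.Finite.equiv (LinearEquiv.ofInjective _ (injective_sec H (kernel.ι g.π) T)).symm
  obtain ⟨l, t, ht⟩ := Module.Finite.exists_fin (R := O.obj.obj (op T)) (M := (evalC O.obj T).obj (kernel g.π).val)
  let r := genOf H hT hK hTA (I := ULift.{u + 1} (Fin l)) (fun i => t i.down)
    (by rwa [show (fun i : ULift.{u + 1} (Fin l) => t i.down) = t ∘ ULift.down from rfl,
      Function.Surjective.range_comp ULift.down_surjective])
  exact ⟨⟨g, r⟩, ⟨⟨inferInstanceAs (Finite (ULift.{u + 1} (Fin m)))⟩,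
    ⟨inferInstanceAs (Finite (ULift.{u + 1} (Fin l)))⟩⟩⟩

include H in
/-- A finite presentation gives finitely presented sections on affines. -/
theorem finitePresentation_of_presentation {M : SheafOfModules.{u + 1} (RS O)} (p : M.Presentation) [hp : p.IsFinite]
    {X : C} (hX : Aff X) : Module.FinitePresentation (O.obj.obj (op X)) ((evalC O.obj X).obj M.val) := by
  have hM := bc_of_presentation H p
  haveI : Finite p.generators.I := hp.isFiniteType_generators.finite
  haveI : Finite p.relations.I := hp.isFiniteType_relations.finite
  haveI := finite_free H p.relations.I X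
  haveI := finitePresentation_free H p.generators.I X
  refine Module.finitePresentation_of_surjective (M := (evalC O.obj X).obj (SheafOfModules.free (R := RS O) p.generators.I).val)
    ((evalC O.obj X).map p.generators.π.val).hom (surjective_of_epi H p.generators.π (bc_free H _) hM hX) ?_
  rw [← range_kernel_eq H p.generators.π X, ← Module.Finite.iff_fg]
  haveI : Module.Finite (O.obj.obj (op X)) ((evalC O.obj X).obj (kernel p.generators.π).val) :=
    Module.Finite.of_surjective (M := (evalC O.obj X).obj (SheafOfModules.free (R := RS O) p.relations.I).val)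
      ((evalC O.obj X).map p.relations.π.val).hom
      (surjective_of_epi H p.relations.π (bc_free H _) (bc_kernel H _ (bc_free H _) hM) hX)
  exact Module.Finite.range _

end Final

variable (H : AffSite J O.obj Aff) [HasSheafify J AddCommGrpCat.{u + 1}]
  [J.WEqualsLocallyBijective AddCommGrpCat.{u + 1}] [∀ E, HasSheafify (J.over E) AddCommGrpCat.{u + 1}]
  [∀ E, (J.over E).WEqualsLocallyBijective AddCommGrpCat.{u + 1}]

include H in
/-- Finite sections on affines give finite type. -/
theorem isFiniteType_of_bc {M : SheafOfModules.{u + 1} (RS O)} (hM : BC Aff M)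
    (hfin : ∀ E, Aff E → Module.Finite (O.obj.obj (op E)) ((evalC O.obj E).obj M.val)) : M.IsFiniteType := by
  have h : ∀ E : {E : C // Aff E}, ∃ g : (overM M E.1).GeneratingSections, g.IsFiniteType := fun E => by
    haveI : Module.Finite ((O.over E.1).obj.obj (op (Over.mk (𝟙 E.1))))
        ((evalC (O.over E.1).obj (Over.mk (𝟙 E.1))).obj (overM M E.1).val) := hfin E.1 E.2
    obtain ⟨m, s, hs⟩ := Module.Finite.exists_fin (R := (O.over E.1).obj.obj (op (Over.mk (𝟙 E.1))))
      (M := (evalC (O.over E.1).obj (Over.mk (𝟙 E.1))).obj (overM M E.1).val)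
    let g := genOf (H.over E.1) Over.mkIdTerminal (hM.over E.1) E.2 (I := ULift.{u + 1} (Fin m)) (fun i => s i.down)
      (by rwa [show (fun i : ULift.{u + 1} (Fin m) => s i.down) = s ∘ ULift.down from rfl,
        Function.Surjective.range_comp ULift.down_surjective])
    exact ⟨g, ⟨inferInstanceAs (Finite (ULift.{u + 1} (Fin m)))⟩⟩
  choose g hg using h
  exact ⟨⟨{ I := {E : C // Aff E}, X := fun E => E.1, coversTop := coversTop_aff H, generators := g }, ⟨hg⟩⟩⟩

include H in
/-- Finitely presented sections on affines give finite presentation. -/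
theorem isFinitePresentation_of_bc' {M : SheafOfModules.{u + 1} (RS O)} (hM : BC Aff M)
    (hfp : ∀ E, Aff E → Module.FinitePresentation (O.obj.obj (op E)) ((evalC O.obj E).obj M.val)) :
    M.IsFinitePresentation := by
  have h : ∀ E : {E : C // Aff E}, ∃ p : (overM M E.1).Presentation, p.IsFinite := fun E => by
    haveI : Module.FinitePresentation ((O.over E.1).obj.obj (op (Over.mk (𝟙 E.1))))
        ((evalC (O.over E.1).obj (Over.mk (𝟙 E.1))).obj (overM M E.1).val) := hfp E.1 E.2
    exact exists_finite_presentation' (H.over E.1) Over.mkIdTerminal (hM.over E.1) E.2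
  choose p hp using h
  exact ⟨⟨{ I := {E : C // Aff E}, X := fun E => E.1, coversTop := coversTop_aff H, presentation := p },
    ⟨fun E => hp E⟩⟩⟩

include H in
/-- Finite presentation gives finitely presented sections over affines. -/
theorem finitePresentation_of_isFinitePresentation {M : SheafOfModules.{u + 1} (RS O)} [hfp : M.IsFinitePresentation]
    {X : C} (hX : Aff X) : Module.FinitePresentation (O.obj.obj (op X)) ((evalC O.obj X).obj M.val) := by
  have hM := bc_of_isQuasicoherent H M
  obtain ⟨σ, hσ⟩ := hfp.exists_quasicoherentData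
  obtain ⟨n, Z, z, hZ, hzS, hzs⟩ := H.refine_cover hX _ (σ.coversTop X)
  have hZfp : ∀ i, Module.FinitePresentation (O.obj.obj (op (Z i))) ((evalC O.obj (Z i)).obj M.val) := fun i => by
    obtain ⟨j, ⟨a⟩⟩ := (Sieve.mem_ofObjects_iff _ _).1 (hzS i)
    haveI := hσ.isFinite_presentation j
    exact finitePresentation_of_presentation (H.over (σ.X j)) (σ.presentation j) (X := Over.mk a) (hZ i)
  let R := O.obj.obj (op X)
  let B := fun i : ULift.{u + 1} (Fin n) => (O.obj.obj (op (Z i.down)) : Type (u + 1))
  letI : ∀ i, Algebra R (B i) := fun i => (rh O.obj (z i.down)).toAlgebra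
  haveI : ∀ i, Module.Flat R (B i) := fun i => H.flat (z i.down) hX (hZ _)
  haveI : Module.FaithfullyFlat R (∀ i, B i) := faithfullyFlat_family (f := z) H hX hZ hzs
  haveI : ∀ i, Module.FinitePresentation (B i) (B i ⊗[R] ((evalC O.obj X).obj M.val)) := fun i => by
    haveI := hM (z i.down) hX (hZ _)
    haveI := hZfp i.down
    exact Module.finitePresentation_of_surjective
      (asIso ((θ O.obj (z i.down)).app M.val)).toLinearEquiv.symm.toLinearMap (LinearEquiv.surjective _)
      (by rw [LinearEquiv.ker]; exact Submodule.fg_bot)
  exact finitePresentation_of_family (R := R) B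

end Groth.Agent.AlgSpQC

end
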