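import Groth.Agent.AlgSpQC.Main
import Groth.Agent.AlgSpQC.Gen2

/-!
# Finite type and finite presentation on algebraic spaces
-/

set_option autoImplicit false
set_option linter.style.haveILetI false
set_option linter.unusedSectionVars false
set_option backward.isDefEq.respectTransparency false
set_option backward.isDefEq.respectTransparency.types false
set_option maxHeartbeats 800000

universe u

open CategoryTheory Limits AlgebraicGeometry Opposite

noncomputable section

namespace Groth.Agent.AlgSpQC

variable {S : Scheme.{u}} {X : AlgSp.Sp S}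

theorem isFiniteType_iff {M : AlgSp.ModEt X} (hM : QC M) :
    M.IsFiniteType ↔ ∀ E, Aff X E → Module.Finite ((AlgSp.OEt X).obj.obj (op E)) (Sec M E) :=
  ⟨fun _ _ hE => finite_sec M hM hE, isFiniteType_of_bc (O := AlgSp.OEt X) (affSite X) hM⟩

theorem isFinitePresentation_iff {M : AlgSp.ModEt X} (hM : QC M) :
    M.IsFinitePresentation ↔
      ∀ E, Aff X E → Module.FinitePresentation ((AlgSp.OEt X).obj.obj (op E)) (Sec M E) :=
  ⟨fun h _ hE => finitePresentation_of_isFinitePresentation (O := AlgSp.OEt X) (affSite X) (hfp := h) hE,
    isFinitePresentation_of_bc' (O := AlgSp.OEt X) (affSite X) hM⟩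

end Groth.Agent.AlgSpQC

end
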