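import Groth.Agent.AlgSpQC.WeakAss
import Groth.Agent.ASp.Points
import Groth.Agent.S9583
import Groth.Agent.S9584
import Groth.Agent.S9586
import Groth.Agent.S9591

/-!
# Basic properties of the weak assassin on algebraic spaces
-/

set_option autoImplicit false
set_option linter.style.haveILetI false
set_option linter.unusedSectionVars false
set_option backward.isDefEq.respectTransparency false
set_option backward.isDefEq.respectTransparency.types false
set_option maxHeartbeats 800000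

universe u

open CategoryTheory Limits AlgebraicGeometry Opposite TensorProduct

noncomputable section

namespace Groth.Agent.AlgSpQC

variable {S : Scheme.{u}} {X : AlgSp.Sp S}

/-- A module vanishes iff its sections over affines vanish. -/
theorem isZero_of_affine (M : AlgSp.ModEt X) (h : ∀ E, Aff X E → Subsingleton (Sec M E)) : IsZero M := by
  rw [IsZero.iff_id_eq_zero]
  refine SheafOfModules.Hom.ext (PresheafOfModules.hom_ext fun U => ?_)
  ext s
  exact eq_zero_of_affine (U := U.unop) s fun Z k hZ => (h Z hZ).elim _ _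

theorem subsingleton_sec_of_isZero {M : AlgSp.ModEt X} (hM : IsZero M) (E : AlgSp.EtOver X) :
    Subsingleton (Sec M E) :=
  ModuleCat.subsingleton_of_isZero
    (((SheafOfModules.forget.{u + 1} (AlgSp.OEtRing X) ⋙
      PresheafOfModules.evaluation (AlgSp.OEtRing X).obj (op E)).map_isZero hM))

theorem weakAssEt_eq_empty {M : AlgSp.ModEt X} (hM : IsZero M) : AlgSp.WeakAssEt M = ∅ := by
  refine Set.eq_empty_iff_forall_notMem.2 fun x ⟨E, hE, z, _, hw⟩ => ?_
  haveI := subsingleton_sec_of_isZero hM E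
  obtain ⟨s, hs⟩ := (isWeakAssOn_iff (M := M) E z).1 hw
  rw [Subsingleton.elim s 0, Submodule.span_zero_singleton, Submodule.annihilator_bot, Ideal.minimalPrimes_top] at hs
  exact hs

theorem subsingleton_sec {M : AlgSp.ModEt X} (hM : QC M) (h : AlgSp.WeakAssEt M = ∅) {E : AlgSp.EtOver X}
    (hE : Aff X E) : Subsingleton (Sec M E) := by
  haveI : IsAffine E.obj.left.left := hE
  refine (Groth.Agent.S9584.result (R := (AlgSp.OEt X).obj.obj (op E)) (Sec M E)).1 ?_
  refine Set.eq_empty_iff_forall_notMem.2 fun p hp => ?_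
  have hpp : p.IsPrime := by
    obtain ⟨s, hs⟩ := hp
    exact Ideal.IsMinimalPrime.isPrime hs
  obtain ⟨z, hz⟩ := exists_primeO hE ⟨p, hpp⟩
  exact (Set.eq_empty_iff_forall_notMem.1 h _) ((mem_weakAssEt_iff hM z).2 (by rw [hz]; exact hp))

theorem weakAssEt_of_shortExact (C : ShortComplex (AlgSp.ModEt X)) (hC : C.ShortExact) (h₁ : QC C.X₁)
    (h₂ : QC C.X₂) (h₃ : QC C.X₃) :
    AlgSp.WeakAssEt C.X₂ ⊆ AlgSp.WeakAssEt C.X₁ ∪ AlgSp.WeakAssEt C.X₃ ∧
      AlgSp.WeakAssEt C.X₁ ⊆ AlgSp.WeakAssEt C.X₂ := by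
  have key : ∀ (E : AlgSp.EtOver X) [IsAffine E.obj.left.left] (z : E.obj.left.left),
      ((primeO E z).asIdeal ∈ FlatCA.weakAss ((AlgSp.OEt X).obj.obj (op E)) (Sec C.X₂ E) →
        (primeO E z).asIdeal ∈ FlatCA.weakAss ((AlgSp.OEt X).obj.obj (op E)) (Sec C.X₁ E) ∨
        (primeO E z).asIdeal ∈ FlatCA.weakAss ((AlgSp.OEt X).obj.obj (op E)) (Sec C.X₃ E)) ∧
      ((primeO E z).asIdeal ∈ FlatCA.weakAss ((AlgSp.OEt X).obj.obj (op E)) (Sec C.X₁ E) →
        (primeO E z).asIdeal ∈ FlatCA.weakAss ((AlgSp.OEt X).obj.obj (op E)) (Sec C.X₂ E)) := by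
    intro E hE z
    obtain ⟨hi, he, hs⟩ := shortExact_sections C hC h₁ (E := E) hE
    obtain ⟨a, b⟩ := Groth.Agent.S9583.result ((evalC (AlgSp.OEt X).obj E).map C.f.val).hom
      ((evalC (AlgSp.OEt X).obj E).map C.g.val).hom hi hs he
    exact ⟨fun h => b h, fun h => a h⟩
  refine ⟨?_, ?_⟩
  · rintro x ⟨E, hE, z, rfl, hw⟩
    refine ((key E z).1 ((isWeakAssOn_iff E z).1 hw)).imp (fun h => ?_) fun h => ?_
    · exact (mem_weakAssEt_iff h₁ z).2 h
    · exact (mem_weakAssEt_iff h₃ z).2 h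
  · rintro x ⟨E, hE, z, rfl, hw⟩
    exact (mem_weakAssEt_iff h₂ z).2 ((key E z).2 ((isWeakAssOn_iff E z).1 hw))

/-- Sections over affines are detected on objects hitting all weakly associated points. -/
theorem eq_zero_of_res_eq_zero {M : AlgSp.ModEt X} (hM : QC M) {E : AlgSp.EtOver X}
    (hE : AlgSp.WeakAssEt M ⊆ Set.range (AlgSp.Points.ofPt E.obj.hom)) {Z : AlgSp.EtOver X} (hZ : Aff X Z)
    (x : M.val.obj (op Z))
    (hx : ∀ (W : AlgSp.EtOver X) (g : W ⟶ E) (g' : W ⟶ Z), res (O := (AlgSp.OEt X).obj) M.val g' x = 0) : x = 0 := by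
  haveI : IsAffine Z.obj.left.left := hZ
  refine Groth.Agent.S9591.result (R := (AlgSp.OEt X).obj.obj (op Z)) (M := Sec M Z) x fun p hpp hp => ?_
  obtain ⟨z, hz⟩ := exists_primeO hZ ⟨p, hpp⟩
  obtain ⟨e, he⟩ := hE ((mem_weakAssEt_iff hM z).2 (by rw [hz]; exact hp))
  obtain ⟨W, g, g', w, hW, -, h2⟩ := exists_common_affine he
  let A := (AlgSp.OEt X).obj.obj (op Z)
  let B := (AlgSp.OEt X).obj.obj (op W)
  letI : Algebra A B := (rh (AlgSp.OEt X).obj g').toAlgebra
  haveI : Module.Flat A B := (affSite X).flat g' hZ hW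
  have h0 : (1 : B) ⊗ₜ[A] (show Sec M Z from x) = 0 := by
    refine (hM.bijective g' hZ hW).1 (Eq.trans ?_ (map_zero _).symm)
    refine (θ_tmul (O := (AlgSp.OEt X).obj) M.val g' 1 x).trans ?_
    rw [hx W g g']
    exact smul_zero _
  have h1 := WeakAssLib.annihilator_one_tmul (A := A) (B := B) (M := Sec M Z) x
  rw [h0, Submodule.span_zero_singleton, Submodule.annihilator_bot] at h1
  have hq : (primeO W w).asIdeal.comap (algebraMap A B) = p := by
    have := congrArg PrimeSpectrum.asIdeal (comap_primeO g' w)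
    rw [h2, hz] at this
    exact this
  rw [LocalizedModule.mkLinearMap_apply, ← LocalizedModule.zero_mk 1, LocalizedModule.mk_eq]
  obtain ⟨c, hc, hcp⟩ : ∃ c ∈ (Submodule.span A {(show Sec M Z from x)}).annihilator, c ∉ p := by
    by_contra hcon
    push Not at hcon
    refine (primeO W w).isPrime.ne_top (top_le_iff.1 ?_)
    rw [h1, Ideal.map_le_iff_le_comap, hq]
    exact hcon
  refine ⟨⟨c, hcp⟩, ?_⟩
  simp only [one_smul, smul_zero]
  exact (Submodule.mem_annihilator_span_singleton _ _).1 hc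

theorem primeO_injective {E : AlgSp.EtOver X} (hE : Aff X E) : Function.Injective (primeO E) := by
  haveI : IsAffine E.obj.left.left := hE
  exact (PrimeSpectrum.comap_injective_of_surjective (upEquiv X E).symm.toRingHom (upEquiv X E).symm.surjective).comp
    (asIso E.obj.left.left.toSpecΓ).hom.homeomorph.injective

theorem finite_weakAssEt_range (hX : AlgSp.IsLocNoethSp X) {M : AlgSp.ModEt X} (hM : QC M) [M.IsFiniteType]
    {E : AlgSp.EtOver X} (hE : Aff X E) :
    (AlgSp.WeakAssEt M ∩ Set.range (AlgSp.Points.ofPt E.obj.hom)).Finite := by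
  haveI : IsAffine E.obj.left.left := hE
  haveI := isNoetherianRing_aff hX hE
  haveI := finite_sec M hM hE
  refine Set.Finite.subset ((Set.Finite.preimage (f := fun z => (primeO E z).asIdeal)
    (fun a _ b _ h => primeO_injective hE (PrimeSpectrum.ext h)) (associatedPrimes.finite ((AlgSp.OEt X).obj.obj (op E)) (Sec M E))).image
    (AlgSp.Points.ofPt E.obj.hom)) ?_
  rintro x ⟨hx, z, rfl⟩
  have h := (mem_weakAssEt_iff hM z).1 hx
  refine ⟨z, ?_, rfl⟩
  have h' := (Groth.Agent.S9586.result (Sec M E) (primeO E z).asIdeal (IsNoetherian.noetherian _)).2 h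
  obtain ⟨hp, m, hm⟩ := h'
  refine (isAssociatedPrime_iff).2 ⟨hp, m, ?_⟩
  refine hm.trans (Ideal.ext fun r => ?_)
  rw [Submodule.mem_annihilator_span_singleton, Submodule.mem_colon_singleton, Submodule.mem_bot]

/-- Every point lies on an affine chart. -/
theorem exists_affine_chart (hX : AlgSp.IsAlgSpace X) (x : AlgSp.Points X) :
    ∃ (E : AlgSp.EtOver X) (z : E.obj.left.left), Aff X E ∧ AlgSp.Points.ofPt E.obj.hom z = x := by
  obtain ⟨U, a, ha, has⟩ := hX.atlas
  obtain ⟨v, rfl⟩ := ASp.surjective_ofPt has x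
  obtain ⟨V, hV, hvV, -⟩ := exists_isAffineOpen_mem_and_subset (x := v) (U := ⊤) trivial
  let z : Over.mk (V.ι ≫ U.hom) ⟶ U := Over.homMk V.ι rfl
  haveI : IsOpenImmersion z.left := inferInstanceAs (IsOpenImmersion V.ι)
  exact ⟨AlgSp.EtOver.mk ((AlgSp.yon S).map z ≫ a)
    ((AlgSp.repWith_isMultiplicative (S := S) @AlgebraicGeometry.Etale).comp_mem _ _
      ((AlgSp.repWith_yon_map_iff _ _).2 (inferInstance : AlgebraicGeometry.Etale z.left)) ha),
    ⟨v, hvV⟩, hV, ASp.ofPt_yon_map_comp z a _⟩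

end Groth.Agent.AlgSpQC

end
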