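import Groth.Agent.AlgSpQC.Push
import Groth.Agent.AlgSpQC.WeakAssMain
import Groth.Agent.AlgSpQC.MainFP
import Groth.Agent.WeakAssLib.Basic

/-!
# Weakly associated points and finiteness of direct images along affine morphisms
-/

set_option autoImplicit false
set_option linter.style.haveILetI false
set_option linter.unusedSectionVars false
set_option backward.isDefEq.respectTransparency false
set_option backward.isDefEq.respectTransparency.types false
set_option maxHeartbeats 800000

universe u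

open CategoryTheory Limits AlgebraicGeometry Opposite TensorProduct

noncomputable section

namespace Groth.Agent.AlgSpQC

section Algebra

variable {R A N : Type u} [CommRing R] [CommRing A] [Algebra R A] [AddCommGroup N] [Module A N] [Module R N]
  [IsScalarTower R A N]

theorem ann_restrict (m : N) :
    (Submodule.span R {m}).annihilator = (Submodule.span A {m}).annihilator.comap (algebraMap R A) :=
  Ideal.ext fun r => by
    rw [Ideal.mem_comap, Submodule.mem_annihilator_span_singleton, Submodule.mem_annihilator_span_singleton,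
      algebraMap_smul]

/-- Weakly associated primes of a restriction of scalars come from upstairs. -/
theorem exists_weakAss_of_restrict {p : Ideal R} (hp : p ∈ FlatCA.weakAss R N) :
    ∃ Q ∈ FlatCA.weakAss A N, Q.comap (algebraMap R A) = p := by
  obtain ⟨m, hm⟩ := hp
  rw [ann_restrict (A := A)] at hm
  obtain ⟨Q, hQ, e⟩ := Ideal.exists_minimalPrimes_comap_eq (algebraMap R A) p hm
  exact ⟨Q, ⟨m, hQ⟩, e⟩

/-- Over a Noetherian ring upstairs they are the preimages. -/
theorem comap_mem_weakAss_of_noetherian [IsNoetherianRing A] {Q : Ideal A} (hQ : Q ∈ FlatCA.weakAss A N) :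
    Q.comap (algebraMap R A) ∈ FlatCA.weakAss R N := by
  obtain ⟨hQp, m, hm⟩ := WeakAssLib.mem_ass.1 (WeakAssLib.mem_ass_of_fg hQ (IsNoetherian.noetherian Q))
  have e : (Submodule.span A {m}).annihilator = Q :=
    Ideal.ext fun a => (Submodule.mem_annihilator_span_singleton m a).trans (hm a).symm
  refine ⟨m, ?_⟩
  rw [ann_restrict (A := A), e]
  haveI := hQp
  exact ⟨⟨inferInstance, le_rfl⟩, fun q hq _ => hq.2⟩

/-- Along a finite map they are the preimages. -/
theorem comap_mem_weakAss_of_finite [Module.Finite R A] {Q : Ideal A} (hQ : Q ∈ FlatCA.weakAss A N) :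
    Q.comap (algebraMap R A) ∈ FlatCA.weakAss R N := by
  haveI : Q.IsPrime := by
    obtain ⟨m, hm⟩ := hQ
    exact Ideal.IsMinimalPrime.isPrime hm
  obtain ⟨z, h1, h2⟩ := WeakAssLib.exists_isolated (A := R) Q hQ
  refine WeakAssLib.mem_weakAss.2 ⟨inferInstance, z, fun r hr => ?_, fun x hx => h2 x hx⟩
  by_contra hr'
  exact h1 r hr' hr

end Algebra

variable {S : Scheme.{u}} {X Y : AlgSp.Sp S} {f : X ⟶ Y} (hf : AlgSp.Representable f)

theorem rπ_comap_primeO (E : AlgSp.EtOver Y) (w : ((AlgSp.EtOver.bc hf).obj E).obj.left.left) :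
    PrimeSpectrum.comap (rπ hf E) (primeO _ w) = primeO E ((hf.snd E.obj.hom).left w) := by
  refine ((PrimeSpectrum.comap_comp_apply _ _ _).symm.trans ?_)
  refine Eq.trans ?_ (congrArg (PrimeSpectrum.comap (upEquiv Y E).symm.toRingHom)
    (toSpecΓ_comp (hf.snd E.obj.hom).left w))
  refine Eq.trans ?_ (PrimeSpectrum.comap_comp_apply _ _ _)
  rfl

theorem map_ofPt_bc (E : AlgSp.EtOver Y) (w : ((AlgSp.EtOver.bc hf).obj E).obj.left.left) :
    AlgSp.Points.map f (AlgSp.Points.ofPt ((AlgSp.EtOver.bc hf).obj E).obj.hom w) =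
      AlgSp.Points.ofPt E.obj.hom ((hf.snd E.obj.hom).left w) := by
  rw [AlgSp.Points.map_ofPt]
  have e : ((AlgSp.EtOver.bc hf).obj E).obj.hom ≫ f = (AlgSp.yon S).map (hf.snd E.obj.hom) ≫ E.obj.hom :=
    hf.w E.obj.hom
  rw [e]
  exact ASp.ofPt_yon_map_comp (hf.snd E.obj.hom) E.obj.hom w

/-- The sections of a direct image as a module over the functions upstairs. -/
theorem exists_weakAss_push (haff : AlgSp.IsAffineMor f) {M : AlgSp.ModEt X} (hM : QC M) {E : AlgSp.EtOver Y}
    (hE : Aff Y E) {p : Ideal ((AlgSp.OEt Y).obj.obj (op E))}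
    (hp : p ∈ FlatCA.weakAss ((AlgSp.OEt Y).obj.obj (op E)) (Sec ((AlgSp.pushModEt hf).obj M) E)) :
    ∃ w : ((AlgSp.EtOver.bc hf).obj E).obj.left.left,
      AlgSp.Points.ofPt ((AlgSp.EtOver.bc hf).obj E).obj.hom w ∈ AlgSp.WeakAssEt M ∧
      (primeO E ((hf.snd E.obj.hom).left w)).asIdeal = p := by
  let W := (AlgSp.EtOver.bc hf).obj E
  have hW : Aff X W := aff_bc hf haff hE
  haveI : IsAffine W.obj.left.left := hW
  let R := (AlgSp.OEt Y).obj.obj (op E)
  let A := (AlgSp.OEt X).obj.obj (op W)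
  letI : Algebra R A := (rπ hf E).toAlgebra
  letI : Module R (Sec M W) := Module.compHom (Sec M W) (rπ hf E)
  haveI : IsScalarTower R A (Sec M W) := IsScalarTower.of_algebraMap_smul fun _ _ => rfl
  obtain ⟨Q, hQ, e⟩ := exists_weakAss_of_restrict (R := R) (A := A) (N := Sec M W) hp
  have hQp : Q.IsPrime := by
    obtain ⟨m, hm⟩ := hQ
    exact Ideal.IsMinimalPrime.isPrime hm
  obtain ⟨w, hw⟩ := exists_primeO hW ⟨Q, hQp⟩
  refine ⟨w, (mem_weakAssEt_iff hM w).2 (by rw [hw]; exact hQ), ?_⟩
  rw [← rπ_comap_primeO hf E w, hw]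
  exact e

theorem weakAssEt_push_subset (haff : AlgSp.IsAffineMor f) {M : AlgSp.ModEt X} (hM : QC M) :
    AlgSp.WeakAssEt ((AlgSp.pushModEt hf).obj M) ⊆ AlgSp.Points.map f '' AlgSp.WeakAssEt M := by
  rintro y ⟨E, hE, e, rfl, hw⟩
  obtain ⟨w, hx, hp⟩ := exists_weakAss_push hf haff hM (E := E) hE ((isWeakAssOn_iff E e).1 hw)
  refine ⟨_, hx, (map_ofPt_bc hf E w).trans ?_⟩
  exact congrArg _ (primeO_injective (E := E) hE (PrimeSpectrum.ext hp))

theorem image_subset_weakAssEt_push (hX : AlgSp.IsAlgSpace Y) (haff : AlgSp.IsAffineMor f) {M : AlgSp.ModEt X}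
    (hM : QC M)
    (H : ∀ (E : AlgSp.EtOver Y), Aff Y E → IsNoetherianRing ((AlgSp.OEt X).obj.obj (op ((AlgSp.EtOver.bc hf).obj E)))
      ∨ (rπ hf E).Finite) :
    AlgSp.Points.map f '' AlgSp.WeakAssEt M ⊆ AlgSp.WeakAssEt ((AlgSp.pushModEt hf).obj M) := by
  rintro y ⟨x, hx, rfl⟩
  obtain ⟨E, e, hE, he⟩ := exists_affine_chart hX (AlgSp.Points.map f x)
  let W := (AlgSp.EtOver.bc hf).obj E
  have hW : Aff X W := aff_bc hf haff hE
  haveI : IsAffine W.obj.left.left := hW
  haveI : IsAffine E.obj.left.left := hE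
  obtain ⟨z, hz1, hz2⟩ := ASp.points_exists_of_isPullback (hf.isPullback E.obj.hom) x
    (AlgSp.Points.ofScheme E.obj.left e) (by rw [← AlgSp.Points.ofPt_eq_map_ofScheme]; exact he.symm)
  obtain ⟨w, rfl⟩ := (AlgSp.Points.schemeHomeo W.obj.left).surjective z
  have hwx : AlgSp.Points.ofPt W.obj.hom w = x := by
    rw [ASp.ofPt_comp_eq_map]
    exact hz1
  refine he ▸ ⟨E, hE, (hf.snd E.obj.hom).left w, ?_, (isWeakAssOn_iff E _).2 ?_⟩
  · rw [← map_ofPt_bc hf E w, hwx]
    exact he.symm
  · have hQ := (mem_weakAssEt_iff hM w).1 (hwx.symm ▸ hx)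
    rw [← rπ_comap_primeO hf E w]
    let R := (AlgSp.OEt Y).obj.obj (op E)
    let A := (AlgSp.OEt X).obj.obj (op W)
    letI : Algebra R A := (rπ hf E).toAlgebra
    letI : Module R (Sec M W) := Module.compHom (Sec M W) (rπ hf E)
    haveI : IsScalarTower R A (Sec M W) := IsScalarTower.of_algebraMap_smul fun _ _ => rfl
    rcases H E hE with hN | hF
    · haveI : IsNoetherianRing A := hN
      exact comap_mem_weakAss_of_noetherian (R := R) (N := Sec M W) hQ
    · haveI : Module.Finite R A := hF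
      exact comap_mem_weakAss_of_finite (R := R) (N := Sec M W) hQ

/-- A finite morphism is affine. -/
theorem isAffineMor_of_isFiniteMor (h : AlgSp.IsFiniteMor f) : AlgSp.IsAffineMor f := fun _ hZ g => by
  obtain ⟨W, i, fst, hP, hW, -⟩ := h hZ g
  exact ⟨W, i, fst, hP, hW⟩

theorem finite_rπ (hfin : AlgSp.IsFiniteMor f) {E : AlgSp.EtOver Y} (hE : Aff Y E) : (rπ hf E).Finite := by
  obtain ⟨W, i, fst, h, hW, hi⟩ := hfin hE E.obj.hom
  let e₀ := (hf.isPullback E.obj.hom).isoIsPullback _ _ h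
  let e : ((AlgSp.EtOver.bc hf).obj E).obj.left ≅ W :=
    Functor.FullyFaithful.preimageIso (Functor.FullyFaithful.ofFullyFaithful (AlgSp.yon S)) e₀
  have he : e.hom ≫ i = hf.snd E.obj.hom := (AlgSp.yon S).map_injective (by
    rw [Functor.map_comp]
    exact (congrArg (· ≫ (AlgSp.yon S).map i) ((AlgSp.yon S).map_preimage e₀.hom)).trans
      ((hf.isPullback E.obj.hom).isoIsPullback_hom_snd _ _ h))
  haveI := hi
  haveI : IsIso e.hom.left := inferInstanceAs (IsIso ((Over.forget S).map e.hom))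
  haveI : IsFinite (e.hom.left ≫ i.left) := inferInstance
  haveI : IsFinite (hf.snd E.obj.hom).left := by
    rw [← he]
    assumption
  haveI : IsAffine E.obj.left.left := hE
  have h1 : (hf.snd E.obj.hom).left.appTop.hom.Finite := Scheme.Hom.finite_appTop _
  have ba : Function.Bijective (upEquiv X ((AlgSp.EtOver.bc hf).obj E)).toRingHom := (upEquiv X _).bijective
  have bb : Function.Bijective (upEquiv Y E).symm.toRingHom := (upEquiv Y E).symm.bijective
  exact (RingHom.Finite.of_surjective _ ba.2).comp (h1.comp (RingHom.Finite.of_surjective _ bb.2))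

/-- Finite generation of the sections of a direct image along a finite morphism. -/
theorem finite_sec_push_iff (hfin : AlgSp.IsFiniteMor f) (M : AlgSp.ModEt X) {E : AlgSp.EtOver Y} (hE : Aff Y E) :
    Module.Finite ((AlgSp.OEt Y).obj.obj (op E)) (Sec ((AlgSp.pushModEt hf).obj M) E) ↔
      Module.Finite ((AlgSp.OEt X).obj.obj (op ((AlgSp.EtOver.bc hf).obj E))) (Sec M ((AlgSp.EtOver.bc hf).obj E)) := by
  let W := (AlgSp.EtOver.bc hf).obj E
  let R := (AlgSp.OEt Y).obj.obj (op E)
  let A := (AlgSp.OEt X).obj.obj (op W)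
  letI : Algebra R A := (rπ hf E).toAlgebra
  letI : Module R (Sec M W) := Module.compHom (Sec M W) (rπ hf E)
  haveI : IsScalarTower R A (Sec M W) := IsScalarTower.of_algebraMap_smul fun _ _ => rfl
  haveI : Module.Finite R A := finite_rπ hf hfin hE
  constructor
  · intro h
    haveI : Module.Finite R (Sec M W) := h
    exact Module.Finite.of_restrictScalars_finite R A (Sec M W)
  · intro h
    exact (Module.Finite.trans (R := R) A (Sec M W) : _)

end Groth.Agent.AlgSpQC

end
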