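import Groth.Agent.AlgSpQC.PullSec
import Groth.Agent.AlgSpQC.WeakAss
import Groth.Agent.AlgSpQC.PushWeakAss

/-!
# The map of functions to a base change, flatness and primes
-/

set_option autoImplicit false
set_option linter.style.haveILetI false
set_option linter.unusedSectionVars false
set_option backward.isDefEq.respectTransparency false
set_option backward.isDefEq.respectTransparency.types false
set_option maxHeartbeats 1600000

universe u

open CategoryTheory Limits AlgebraicGeometry Opposite

noncomputable section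

namespace Groth.Agent.AlgSpQC

variable {S : Scheme.{u}} {X Y : AlgSp.Sp S} {f : X ⟶ Y} (hf : AlgSp.Representable f)

theorem rπ_eq (E : AlgSp.EtOver Y) :
    rπ hf E = (upEquiv X ((AlgSp.EtOver.bc hf).obj E)).toRingHom.comp
      ((hf.snd E.obj.hom).left.appTop.hom.comp (upEquiv Y E).symm.toRingHom) := by
  refine RingHom.ext fun a => ?_
  obtain ⟨a, rfl⟩ := (upEquiv Y E).surjective a
  refine (rπ_upEquiv hf E a).trans ?_
  exact congrArg (fun b => upEquiv X ((AlgSp.EtOver.bc hf).obj E) ((hf.snd E.obj.hom).left.appTop b))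
    ((upEquiv Y E).symm_apply_apply a).symm

theorem comap_rπ_primeO (E : AlgSp.EtOver Y) (z : ((AlgSp.EtOver.bc hf).obj E).obj.left.left) :
    PrimeSpectrum.comap (rπ hf E) (primeO ((AlgSp.EtOver.bc hf).obj E) z) =
      primeO E ((hf.snd E.obj.hom).left z) := by
  rw [rπ_eq, primeO, primeO, ← toSpecΓ_comp, ← PrimeSpectrum.comap_comp_apply, ← PrimeSpectrum.comap_comp_apply]
  refine congrArg (fun φ => PrimeSpectrum.comap φ (((AlgSp.EtOver.bc hf).obj E).obj.left.left.toSpecΓ z)) ?_
  ext a
  exact (upEquiv X _).symm_apply_apply _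

theorem flat_rπ (hflat : AlgSp.LocP @Flat f) {E : AlgSp.EtOver Y} (hE : Aff Y E)
    (hW : Aff X ((AlgSp.EtOver.bc hf).obj E)) : (rπ hf E).Flat := by
  haveI : IsAffine E.obj.left.left := hE
  haveI : IsAffine (AlgSp.EtOver.bcObj hf E).obj.left.left := hW
  haveI : IsAffine (hf.pullback E.obj.hom).left := hW
  have hfl : Flat (hf.snd E.obj.hom).left :=
    hflat ((AlgSp.EtOver.bcObj hf E).obj.hom) E.obj.hom (hf.snd E.obj.hom)
      (AlgSp.EtOver.bcObj hf E).property E.property (hf.w E.obj.hom)
  have h := HasRingHomProperty.appTop (P := @AlgebraicGeometry.Flat) (hf.snd E.obj.hom).left hfl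
  rw [rπ_eq]
  exact RingHom.Flat.comp (RingHom.Flat.comp
    (RingHom.Flat.of_bijective (f := (upEquiv Y E).symm.toRingHom) (upEquiv Y E).symm.bijective) h)
    (RingHom.Flat.of_bijective (f := (upEquiv X ((AlgSp.EtOver.bc hf).obj E)).toRingHom)
      (upEquiv X ((AlgSp.EtOver.bc hf).obj E)).bijective)

theorem bijective_rh {E E' : AlgSp.EtOver X} (j : E' ⟶ E) [IsIso j.hom.left.left] :
    Function.Bijective (rh (AlgSp.OEt X).obj j) := by
  have h := ConcreteCategory.bijective_of_isIso j.hom.left.left.appTop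
  exact ((upEquiv X E').bijective.comp h).comp (upEquiv X E).symm.bijective

end Groth.Agent.AlgSpQC

end
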