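import Groth.Agent.AlgSpQC.PushImageQC
import Groth.Agent.AlgSpQC.Largest
import Groth.Agent.AlgSpQC.PushFin
import Groth.Agent.AlgSpQC.Gen2
import Groth.Agent.AlgSpQC.MainFP
import Groth.Agent.ASp.AffMor
import Groth.Prelude.Def_AlgSpModX

/-!
# The essential image of the direct image along a closed immersion
-/

set_option autoImplicit false
set_option linter.style.haveILetI false
set_option linter.unusedSectionVars false
set_option backward.isDefEq.respectTransparency false
set_option backward.isDefEq.respectTransparency.types false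
set_option maxHeartbeats 1600000

universe u

open CategoryTheory Limits AlgebraicGeometry Opposite

noncomputable section

namespace Groth.Agent.AlgSpQC

variable {S : Scheme.{u}} {Z X : AlgSp.Space S} {i : Z ⟶ X} (hi : AlgSp.RepWith @IsClosedImmersion i.hom)

theorem rπ_eq_zero_iff (E : AlgSp.EtOver X.obj) (hE : IsAffine E.obj.left.left) (a : Γ(E.obj.left.left, ⊤)) :
    rπ hi.1 E (upEquiv X.obj E a) = 0 ↔ a ∈ (AlgSp.idealOfRep hi.1).ideal E hE := by
  rw [AlgSp.mem_idealOfRep_iff, rπ_upEquiv, map_eq_zero_iff _ (upEquiv Z.obj _).injective]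
  rfl

include hi in
theorem ideal_of_isCutOutBy {I : AlgSp.IdealEt X.obj} (hZ : AlgSp.IsCutOutBy I i.hom) :
    I = AlgSp.idealOfRep hi.1 := by
  obtain ⟨_, rfl⟩ := hZ
  rfl

theorem killed_iff_le_annSect {I : AlgSp.IdealEt X.obj} (hZ : AlgSp.IsCutOutBy I i.hom) (F : AlgSp.ModEt X.obj) :
    Killed i hi F ↔ ∀ (E : AlgSp.EtOver X.obj) (hE : IsAffine E.obj.left.left) (s : AlgSp.sectModEt F E),
      I.ideal E hE ≤ AlgSp.annSect s := by
  obtain rfl := ideal_of_isCutOutBy hi hZ
  refine ⟨fun h E hE s a ha => (AlgSp.mem_annSect_iff s a).2 (h E hE _ ((rπ_eq_zero_iff hi E hE a).2 ha) s),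
    fun h E hE c hc t => ?_⟩
  obtain ⟨a, rfl⟩ := (upEquiv X.obj E).surjective c
  exact (AlgSp.mem_annSect_iff _ a).1 (h E hE t ((rπ_eq_zero_iff hi E hE a).1 hc))

include hi in
theorem isFiniteMor_closedImmersion : AlgSp.IsFiniteMor i.hom :=
  (ASp.isFiniteMor_iff Z.property X.property).2 ⟨hi.1, fun {_ _} g fst snd h => by
    haveI : IsClosedImmersion snd.left := hi.2 g fst snd h
    exact (inferInstance : IsFinite snd.left)⟩

theorem qc_push_closed {G : AlgSp.ModEt Z.obj} (hG : QC G) : QC ((AlgSp.pushModEt hi.1).obj G) :=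
  qc_push hi.1 (isAffineMor_of_isFiniteMor (isFiniteMor_closedImmersion hi)) hG

/-- Quasi-coherent modules annihilated by the ideal are direct images of quasi-coherent modules. -/
theorem Killed.exists_qc {F : AlgSp.ModEt X.obj} (hk : Killed i hi F) (hF : QC F) :
    ∃ G : AlgSp.ModEt Z.obj, QC G ∧ Nonempty ((AlgSp.pushModEt hi.1).obj G ≅ F) := by
  obtain ⟨G, ⟨t⟩⟩ := hk.exists_push
  exact ⟨G, qc_of_push i hi t hF, ⟨t⟩⟩

theorem Killed.of_injective {F F' : AlgSp.ModEt X.obj} (hk : Killed i hi F') (g : F ⟶ F')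
    (hg : ∀ E, Aff X.obj E → Function.Injective ((evalC (AlgSp.OEt X.obj).obj E).map g.val)) : Killed i hi F :=
  fun W hW c hc t => hg W hW <| by
    refine (map_smul ((evalC (AlgSp.OEt X.obj).obj W).map g.val).hom c t).trans ?_
    exact (hk W hW c hc _).trans (map_zero ((evalC (AlgSp.OEt X.obj).obj W).map g.val).hom).symm

variable (i) in
/-- Membership in the annihilated part. -/
def MemKilled (F : AlgSp.ModEt X.obj) (U : AlgSp.EtOver X.obj) (s : F.val.obj (op U)) : Prop :=
  ∀ (W : AlgSp.EtOver X.obj) (k : W ⟶ U) (_ : Aff X.obj W) (c : (AlgSp.OEt X.obj).obj.obj (op W)),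
    rπ hi.1 W c = 0 → c • (show Sec F W from res (O := (AlgSp.OEt X.obj).obj) F.val k s) = 0

variable (F : AlgSp.ModEt X.obj)

/-- The annihilated sections. -/
def killedMem (U : (AlgSp.EtOver X.obj)ᵒᵖ) : Submodule ((AlgSp.OEtRing X.obj).obj.obj U) (F.val.obj U) where
  carrier := {s | MemKilled i hi F U.unop s}
  add_mem' {a b} ha hb W k hW c hc := by
    rw [show res (O := (AlgSp.OEt X.obj).obj) F.val k (a + b) =
      res (O := (AlgSp.OEt X.obj).obj) F.val k a + res (O := (AlgSp.OEt X.obj).obj) F.val k b from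
        map_add (F.val.presheaf.map k.op).hom a b]
    exact (smul_add c _ _).trans (by rw [ha W k hW c hc, hb W k hW c hc, add_zero])
  zero_mem' W k hW c hc := by
    rw [show res (O := (AlgSp.OEt X.obj).obj) F.val k (0 : F.val.obj U) = 0 from map_zero (F.val.presheaf.map k.op).hom]
    exact smul_zero c
  smul_mem' r a ha W k hW c hc := by
    let r' : (AlgSp.OEt X.obj).obj.obj (op W) := (AlgSp.OEtRing X.obj).obj.map k.op r
    refine (congrArg (fun z : Sec F W => c • z) (F.val.map_smul k.op r a)).trans ?_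
    exact (smul_comm c r' _).trans ((congrArg (r' • ·) (ha W k hW c hc)).trans (smul_zero r'))

theorem memKilled_map {U V : AlgSp.EtOver X.obj} (g : V ⟶ U) {s : F.val.obj (op U)} (h : MemKilled i hi F U s) :
    MemKilled i hi F V (res (O := (AlgSp.OEt X.obj).obj) F.val g s) := fun W k hW c hc => by
  rw [← res_comp]
  exact h W (k ≫ g) hW c hc

/-- The presheaf of annihilated sections. -/
def killedPre : PresheafOfModules.{u + 1} (AlgSp.OEtRing X.obj).obj where
  obj U := ModuleCat.of _ (killedMem hi F U)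
  map {U V} g := ModuleCat.ofHom
    (Y := (ModuleCat.restrictScalars ((AlgSp.OEtRing X.obj).obj.map g).hom).obj (ModuleCat.of _ (killedMem hi F V)))
    { toFun := fun (s : killedMem hi F U) =>
        (show killedMem hi F V from ⟨F.val.map g s.1, memKilled_map hi F g.unop s.2⟩)
      map_add' := fun a b => Subtype.ext (map_add (F.val.map g).hom a.1 b.1)
      map_smul' := fun r a => Subtype.ext (F.val.map_smul g r a.1) }
  map_id U := by
    ext s
    exact Subtype.ext (res_id (O := (AlgSp.OEt X.obj).obj) F.val s.1)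
  map_comp f g := by
    ext s
    exact Subtype.ext (res_comp (O := (AlgSp.OEt X.obj).obj) F.val f.unop g.unop s.1)

theorem isSheaf_killedPre : Presheaf.IsSheaf (AlgSp.etTop X.obj) (killedPre hi F).presheaf := by
  have hF : Presieve.IsSheaf (AlgSp.etTop X.obj) (F.val.presheaf ⋙ forget _) :=
    (isSheaf_iff_isSheaf_of_type (AlgSp.etTop X.obj) (F.val.presheaf ⋙ forget _)).1
      ((Presheaf.isSheaf_iff_isSheaf_forget _ _ (forget _)).1 F.isSheaf)
  refine (Presheaf.isSheaf_iff_isSheaf_forget _ _ (forget _)).2 ((isSheaf_iff_isSheaf_of_type _ _).2 fun U R hR => ?_)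
  intro fam hfam
  let fam' : Presieve.FamilyOfElements (F.val.presheaf ⋙ forget _) R.arrows := fun Y g hg => (fam g hg).1
  have hfam' : fam'.Compatible := fun Y₁ Y₂ W g₁ g₂ f₁ f₂ h₁ h₂ e => congrArg Subtype.val (hfam g₁ g₂ h₁ h₂ e)
  obtain ⟨t, ht, huniq⟩ := hF R hR fam' hfam'
  have hmem : MemKilled i hi F U t := fun W k hW c hc => by
    refine sep F (U := W) ((AlgSp.etTop X.obj).pullback_stable k hR) fun V g hg => ?_
    refine ((res_smul g c _).trans ?_).trans (map_zero (F.val.map g.op).hom).symm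
    refine eq_zero_of_affine (M := F) (U := V) _ fun A l hA => ?_
    refine (res_smul l _ _).trans ?_
    rw [show res (O := (AlgSp.OEt X.obj).obj) F.val l (res (O := (AlgSp.OEt X.obj).obj) F.val g
        (res (O := (AlgSp.OEt X.obj).obj) F.val k t)) =
      res (O := (AlgSp.OEt X.obj).obj) F.val l (fam (g ≫ k) hg).1 from
      congrArg (res (O := (AlgSp.OEt X.obj).obj) F.val l) ((res_comp _ _ _ _).symm.trans (ht (g ≫ k) hg))]
    exact (fam (g ≫ k) hg).2 A l hA _ (by rw [rπ_res i hi, rπ_res i hi, hc, map_zero, map_zero])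
  exact ⟨⟨t, hmem⟩, fun Y g hg => Subtype.ext (ht g hg),
    fun s hs => Subtype.ext (huniq s.1 fun Y g hg => congrArg Subtype.val (hs g hg))⟩

/-- The submodule of annihilated sections. -/
def killedMod : AlgSp.ModEt X.obj where
  val := killedPre hi F
  isSheaf := isSheaf_killedPre hi F

/-- Its inclusion. -/
def killedι : killedMod hi F ⟶ F :=
  ⟨{ app := fun U => ModuleCat.ofHom { toFun := fun s => s.1, map_add' := fun _ _ => rfl, map_smul' := fun _ _ => rfl }
     naturality := fun _ => rfl }⟩

theorem killedι_injective (U : (AlgSp.EtOver X.obj)ᵒᵖ) : Function.Injective ((killedι hi F).val.app U) :=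
  fun _ _ e => Subtype.ext e

instance : Mono (killedι hi F) :=
  ⟨fun a b e => SheafOfModules.Hom.ext (PresheafOfModules.hom_ext fun U => ModuleCat.hom_ext (LinearMap.ext fun s =>
    killedι_injective hi F U (congrArg (fun k => k.val.app U s) e)))⟩

theorem killed_killedMod : Killed i hi (killedMod hi F) := fun W hW c hc t => Subtype.ext (by
  have h := t.2 W (𝟙 W) hW c hc
  rwa [show res (O := (AlgSp.OEt X.obj).obj) F.val (𝟙 W) t.1 = t.1 from res_id F.val t.1] at h)

theorem exists_fac_killed {H F : AlgSp.ModEt X.obj} (hk : Killed i hi H) (φ : H ⟶ F) :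
    ∃ l : H ⟶ killedMod hi F, l ≫ killedι hi F = φ := by
  have hm : ∀ U (s : H.val.obj U), φ.val.app U s ∈ killedMem hi F U := fun U s W k hW c hc => by
    refine (congrArg (c • ·) (PresheafOfModules.naturality_apply φ.val k.op s).symm).trans ?_
    refine (map_smul (φ.val.app (op W)).hom c _).symm.trans ?_
    exact (congrArg (φ.val.app (op W)) (hk W hW c hc _)).trans (map_zero (φ.val.app (op W)).hom)
  let lin : ∀ U, H.val.obj U →ₗ[(AlgSp.OEtRing X.obj).obj.obj U] killedMem hi F U := fun U =>
    { toFun := fun s => ⟨φ.val.app U s, hm U s⟩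
      map_add' := fun a b => Subtype.ext (map_add (φ.val.app U).hom a b)
      map_smul' := fun r a => Subtype.ext (map_smul (φ.val.app U).hom r a) }
  let l : H.val ⟶ (killedMod hi F).val :=
    { app := fun U => ModuleCat.ofHom (lin U)
      naturality := fun g => ModuleCat.hom_ext (LinearMap.ext fun s =>
        Subtype.ext (PresheafOfModules.naturality_apply φ.val g s)) }
  exact ⟨⟨l⟩, rfl⟩

theorem mono_killed_fac {K : AlgSp.ModEt X.obj} (κ : K ⟶ killedMod hi F) [Mono κ] : Killed i hi K :=
  (killed_killedMod hi F).of_injective hi κ fun E _ => injective_app κ E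

variable (i) in
/-- Direct image along a closed immersion of quasi-coherent modules has a right adjoint. -/
theorem isLeftAdjoint_push_qc
    (hq : ∀ G : AlgSp.ModEt Z.obj, G.IsQuasicoherent → ((AlgSp.pushModEt hi.1).obj G).IsQuasicoherent) :
    ((SheafOfModules.isQuasicoherent (AlgSp.OEtRing X.obj)).lift
        ((SheafOfModules.isQuasicoherent (AlgSp.OEtRing Z.obj)).ι ⋙ AlgSp.pushModEt hi.1)
        (fun G => hq G.obj G.property)).IsLeftAdjoint := by
  rw [isLeftAdjoint_iff_hasTerminal_costructuredArrow]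
  intro F
  obtain ⟨K, κ, hκ, hK, hbij⟩ := exists_largest F.obj (killedMod hi F.obj)
    ((isQuasicoherent_iff F.obj).1 F.property) (killedι hi F.obj)
  obtain ⟨G, hG, ⟨t⟩⟩ := (mono_killed_fac hi F.obj κ).exists_qc hi hK
  haveI := full_pushModEt i hi
  haveI := faithful_pushModEt i hi
  let P := (SheafOfModules.isQuasicoherent (AlgSp.OEtRing X.obj)).lift
        ((SheafOfModules.isQuasicoherent (AlgSp.OEtRing Z.obj)).ι ⋙ AlgSp.pushModEt hi.1)
        (fun G => hq G.obj G.property)
  let T : CostructuredArrow P F :=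
    CostructuredArrow.mk (Y := ⟨G, (isQuasicoherent_iff G).2 hG⟩) (ObjectProperty.homMk (t.hom ≫ κ ≫ killedι hi F.obj))
  have key : ∀ H : CostructuredArrow P F, ∃! m : H.left.obj ⟶ G,
      (AlgSp.pushModEt hi.1).map m ≫ t.hom ≫ κ ≫ killedι hi F.obj = H.hom.hom := fun H => by
    have hqH : QC ((AlgSp.pushModEt hi.1).obj H.left.obj) :=
      (isQuasicoherent_iff _).1 (hq H.left.obj H.left.property)
    obtain ⟨l, hl⟩ := exists_fac_killed hi (killed_push i hi H.left.obj) (F := F.obj) H.hom.hom
    obtain ⟨φ, hφ⟩ := (hbij _ hqH).2 l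
    obtain ⟨m, hm⟩ := (AlgSp.pushModEt hi.1).map_surjective (φ ≫ t.inv)
    refine ⟨m, ?_, fun m' hm' => (AlgSp.pushModEt hi.1).map_injective ?_⟩
    · show (AlgSp.pushModEt hi.1).map m ≫ t.hom ≫ κ ≫ killedι hi F.obj = _
      rw [hm, Category.assoc, t.inv_hom_id_assoc, ← Category.assoc, show φ ≫ κ = l from hφ, hl]
    · rw [hm, ← cancel_mono t.hom, Category.assoc, t.inv_hom_id, Category.comp_id]
      refine (hbij _ hqH).1 ?_
      show (_ ≫ t.hom) ≫ κ = φ ≫ κ
      rw [show φ ≫ κ = l from hφ, ← cancel_mono (killedι hi F.obj), hl, Category.assoc, Category.assoc]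
      exact hm'
  haveI : ∀ H : CostructuredArrow P F, Unique (H ⟶ T) := fun H =>
    { default := CostructuredArrow.homMk (ObjectProperty.homMk (key H).exists.choose)
        (ObjectProperty.hom_ext _ (key H).exists.choose_spec)
      uniq := fun a => CostructuredArrow.hom_ext _ _ (ObjectProperty.hom_ext _
        ((key H).unique (congrArg (fun k => k.hom) (CostructuredArrow.w a)) (key H).exists.choose_spec)) }
  exact hasTerminal_of_unique T

end Groth.Agent.AlgSpQC

end
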