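import Groth.Agent.AlgSpQC.Main
import Groth.Prelude.Def_AlgSpModX

/-!
# Quasi-coherent submodules from their values on affine objects
-/

set_option autoImplicit false
set_option linter.style.haveILetI false
set_option linter.unusedSectionVars false
set_option backward.isDefEq.respectTransparency false
set_option backward.isDefEq.respectTransparency.types false
set_option maxHeartbeats 800000

universe u

open CategoryTheory Limits AlgebraicGeometry Opposite TensorProduct

noncomputable section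

namespace Groth.Agent.AlgSpQC

variable {S : Scheme.{u}} {X : AlgSp.Sp S}

/-- A compatible family of submodules of the sections over affine objects, generated by restriction. -/
structure AffSub (M : AlgSp.ModEt X) where
  /-- the submodule over an affine object -/
  N : ∀ E, Aff X E → Submodule ((AlgSp.OEt X).obj.obj (op E)) (Sec M E)
  mem_res : ∀ {E E' : AlgSp.EtOver X} (g : E' ⟶ E) (hE : Aff X E) (hE' : Aff X E') (x : Sec M E), x ∈ N E hE →
    (show Sec M E' from res (O := (AlgSp.OEt X).obj) M.val g x) ∈ N E' hE'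
  gen : ∀ {E E' : AlgSp.EtOver X} (g : E' ⟶ E) (hE : Aff X E) (hE' : Aff X E'),
    N E' hE' ≤ Submodule.span ((AlgSp.OEt X).obj.obj (op E'))
      ((fun x : Sec M E => (show Sec M E' from res (O := (AlgSp.OEt X).obj) M.val g x)) '' (N E hE : Set (Sec M E)))

namespace AffSub

variable {M : AlgSp.ModEt X} (A : AffSub M)

/-- Membership of a section over an arbitrary object. -/
def Mem (U : AlgSp.EtOver X) (s : M.val.obj (op U)) : Prop :=
  ∀ (Z : AlgSp.EtOver X) (k : Z ⟶ U) (hZ : Aff X Z),
    (show Sec M Z from res (O := (AlgSp.OEt X).obj) M.val k s) ∈ A.N Z hZ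

theorem mem_iff (hM : QC M) {E : AlgSp.EtOver X} (hE : Aff X E) (x : Sec M E) : A.Mem E x ↔ x ∈ A.N E hE :=
  ⟨fun h => by
    have := h E (𝟙 E) hE
    rwa [show res (O := (AlgSp.OEt X).obj) M.val (𝟙 E) x = x from res_id M.val x] at this,
   fun h Z k hZ => A.mem_res k hE hZ x h⟩

theorem mem_of_map {U V : AlgSp.EtOver X} (g : V ⟶ U) {s : M.val.obj (op U)} (h : A.Mem U s) :
    A.Mem V (res (O := (AlgSp.OEt X).obj) M.val g s) := fun Z k hZ => by
  rw [← res_comp]
  exact h Z (k ≫ g) hZ

theorem local_aux {R M' : Type (u + 1)} [CommRing R] [AddCommGroup M'] [Module R M'] (P : Submodule R M')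
    {ι : Type (u + 1)} [Fintype ι] (B : ι → Type (u + 1)) [∀ i, CommRing (B i)] [∀ i, Algebra R (B i)]
    [Module.FaithfullyFlat R (∀ i, B i)] (x : M')
    (h : ∀ i, (1 : B i) ⊗ₜ[R] x ∈ LinearMap.range (P.subtype.lTensor (B i))) : x ∈ P := by
  rw [← Submodule.Quotient.mk_eq_zero]
  refine (AdeqLib.amitsur_family (R := R) B (M' ⧸ P)).1 _ fun i => ?_
  obtain ⟨w, hw⟩ := h i
  have := congrArg (P.mkQ.lTensor (B i)) hw
  rw [← LinearMap.comp_apply, ← LinearMap.lTensor_comp] at this
  rw [show P.mkQ.comp P.subtype = 0 by ext y; simp, LinearMap.lTensor_zero, LinearMap.zero_apply] at this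
  exact this.symm

theorem span_le_range (hM : QC M) {E E' : AlgSp.EtOver X} (g : E' ⟶ E) (hE : Aff X E) (hE' : Aff X E') :
    letI := (rh (AlgSp.OEt X).obj g).toAlgebra
    ∀ y ∈ A.N E' hE', ∃ w : (AlgSp.OEt X).obj.obj (op E') ⊗[(AlgSp.OEt X).obj.obj (op E)] A.N E hE,
      (θ (AlgSp.OEt X).obj g).app M.val ((A.N E hE).subtype.lTensor _ w) = y := by
  letI := (rh (AlgSp.OEt X).obj g).toAlgebra
  let θ' := ((θ (AlgSp.OEt X).obj g).app M.val).hom
  intro y hy
  have hy' := A.gen g hE hE' hy
  clear hy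
  induction hy' using Submodule.span_induction with
  | mem y hy =>
    obtain ⟨x, hx, rfl⟩ := hy
    refine ⟨1 ⊗ₜ ⟨x, hx⟩, ?_⟩
    rw [LinearMap.lTensor_tmul]
    exact (θ_tmul (O := (AlgSp.OEt X).obj) M.val g 1 x).trans (one_smul _ _)
  | zero => exact ⟨0, by rw [map_zero]; exact map_zero θ'⟩
  | add a b _ _ ha hb =>
    obtain ⟨w, rfl⟩ := ha
    obtain ⟨v, rfl⟩ := hb
    exact ⟨w + v, by rw [map_add]; exact map_add θ' _ _⟩
  | smul r a hmem ha =>
    obtain ⟨w, rfl⟩ := ha
    clear hmem
    refine ⟨r • w, ?_⟩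
    refine Eq.trans (congrArg θ' ?_) (θ'.map_smul r ((A.N E hE).subtype.lTensor _ w))
    induction w using TensorProduct.induction_on with
    | zero =>
      rw [smul_zero, map_zero]
      exact (smul_zero r).symm
    | tmul s x => rfl
    | add a b ha hb =>
      rw [smul_add, map_add, map_add, ha, hb]
      exact (smul_add r _ _).symm

theorem mem_of_cover (hM : QC M) {E : AlgSp.EtOver X} (hE : Aff X E) {n : ℕ} {Z : Fin n → AlgSp.EtOver X}
    (f : ∀ i, Z i ⟶ E) (hZ : ∀ i, Aff X (Z i))
    (hs : ∀ p : PrimeSpectrum ((AlgSp.OEt X).obj.obj (op E)),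
      ∃ (i : Fin n) (q : PrimeSpectrum ((AlgSp.OEt X).obj.obj (op (Z i)))),
        PrimeSpectrum.comap (rh (AlgSp.OEt X).obj (f i)) q = p)
    (x : Sec M E) (hx : ∀ i, (show Sec M (Z i) from res (O := (AlgSp.OEt X).obj) M.val (f i) x) ∈ A.N (Z i) (hZ i)) :
    x ∈ A.N E hE := by
  let R := (AlgSp.OEt X).obj.obj (op E)
  let B := fun i : ULift.{u + 1} (Fin n) => ((AlgSp.OEt X).obj.obj (op (Z i.down)) : Type (u + 1))
  letI : ∀ i, Algebra R (B i) := fun i => (rh (AlgSp.OEt X).obj (f i.down)).toAlgebra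
  haveI : Module.FaithfullyFlat R (∀ i, B i) := faithfullyFlat_family (f := f) (affSite X) hE hZ hs
  refine local_aux (A.N E hE) B x fun i => ?_
  obtain ⟨w, hw⟩ := A.span_le_range hM (f i.down) hE (hZ _) _ (hx i.down)
  refine ⟨w, (hM.bijective (f i.down) hE (hZ _)).1 (hw.trans ?_)⟩
  exact ((θ_tmul (O := (AlgSp.OEt X).obj) M.val (f i.down) 1 x).trans (one_smul _ _)).symm

/-- The submodule of sections over an object. -/
def memSub (U : (AlgSp.EtOver X)ᵒᵖ) : Submodule ((AlgSp.OEtRing X).obj.obj U) (M.val.obj U) where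
  carrier := {s | A.Mem U.unop s}
  add_mem' {a b} ha hb Z k hZ := by
    rw [show res (O := (AlgSp.OEt X).obj) M.val k (a + b) =
      res (O := (AlgSp.OEt X).obj) M.val k a + res (O := (AlgSp.OEt X).obj) M.val k b from
        map_add (M.val.presheaf.map k.op).hom a b]
    exact (A.N Z hZ).add_mem (ha Z k hZ) (hb Z k hZ)
  zero_mem' Z k hZ := by
    rw [show res (O := (AlgSp.OEt X).obj) M.val k (0 : M.val.obj U) = 0 from map_zero (M.val.presheaf.map k.op).hom]
    exact (A.N Z hZ).zero_mem
  smul_mem' r a ha Z k hZ := by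
    rw [show res (O := (AlgSp.OEt X).obj) M.val k (r • a) = _ from M.val.map_smul k.op r a]
    exact (A.N Z hZ).smul_mem _ (ha Z k hZ)

/-- The sub-presheaf. -/
def presheaf : PresheafOfModules.{u + 1} (AlgSp.OEtRing X).obj where
  obj U := ModuleCat.of _ (A.memSub U)
  map {U V} g := ModuleCat.ofHom
    (Y := (ModuleCat.restrictScalars ((AlgSp.OEtRing X).obj.map g).hom).obj (ModuleCat.of _ (A.memSub V)))
    { toFun := fun (s : A.memSub U) => (show A.memSub V from ⟨M.val.map g s.1, A.mem_of_map g.unop s.2⟩)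
      map_add' := fun a b => Subtype.ext (map_add (M.val.map g).hom a.1 b.1)
      map_smul' := fun r a => Subtype.ext (M.val.map_smul g r a.1) }
  map_id U := by
    ext s
    exact Subtype.ext (res_id (O := (AlgSp.OEt X).obj) M.val s.1)
  map_comp f g := by
    ext s
    exact Subtype.ext (res_comp (O := (AlgSp.OEt X).obj) M.val f.unop g.unop s.1)

/-- The inclusion. -/
def incl : A.presheaf ⟶ M.val where
  app U := ModuleCat.ofHom { toFun := fun s => s.1, map_add' := fun _ _ => rfl, map_smul' := fun _ _ => rfl }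
  naturality _ := rfl

theorem incl_app_injective (U : (AlgSp.EtOver X)ᵒᵖ) : Function.Injective (A.incl.app U) := fun _ _ e => Subtype.ext e

theorem isSheaf (hM : QC M) : Presheaf.IsSheaf (AlgSp.etTop X) A.presheaf.presheaf := by
  have hF : Presieve.IsSheaf (AlgSp.etTop X) (M.val.presheaf ⋙ forget _) :=
    (isSheaf_iff_isSheaf_of_type (AlgSp.etTop X) (M.val.presheaf ⋙ forget _)).1
      ((Presheaf.isSheaf_iff_isSheaf_forget _ _ (forget _)).1 M.isSheaf)
  refine (Presheaf.isSheaf_iff_isSheaf_forget _ _ (forget _)).2 ((isSheaf_iff_isSheaf_of_type _ _).2 fun U R hR => ?_)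
  intro fam hfam
  let fam' : Presieve.FamilyOfElements (M.val.presheaf ⋙ forget _) R.arrows := fun Y g hg => (fam g hg).1
  have hfam' : fam'.Compatible := fun Y₁ Y₂ W g₁ g₂ f₁ f₂ h₁ h₂ e =>
    congrArg Subtype.val (hfam g₁ g₂ h₁ h₂ e)
  obtain ⟨t, ht, huniq⟩ := hF R hR fam' hfam'
  have hmem : A.Mem U t := fun Z k hZ => by
    obtain ⟨n, W, f, hW, hfR, hs⟩ := (affSite X).refine_cover hZ _ ((AlgSp.etTop X).pullback_stable k hR)
    refine A.mem_of_cover hM hZ f hW hs _ fun i => ?_
    rw [← res_comp, show res (O := (AlgSp.OEt X).obj) M.val (f i ≫ k) t = (fam (f i ≫ k) (hfR i)).1 from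
      ht (f i ≫ k) (hfR i)]
    exact (A.mem_iff hM (hW i) _).1 (fam (f i ≫ k) (hfR i)).2
  exact ⟨⟨t, hmem⟩, fun Y g hg => Subtype.ext (ht g hg),
    fun s hs => Subtype.ext (huniq s.1 fun Y g hg => congrArg Subtype.val (hs g hg))⟩

/-- The submodule. -/
def toMod (hM : QC M) : AlgSp.ModEt X where
  val := A.presheaf
  isSheaf := A.isSheaf hM

/-- The inclusion of the submodule. -/
def ι (hM : QC M) : A.toMod hM ⟶ M := ⟨A.incl⟩

instance (hM : QC M) : Mono (A.ι hM) :=
  ⟨fun a b e => SheafOfModules.Hom.ext (PresheafOfModules.hom_ext fun U => ModuleCat.hom_ext (LinearMap.ext fun s =>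
    A.incl_app_injective U (congrArg (fun k => k.val.app U s) e)))⟩

theorem range_ι (hM : QC M) {E : AlgSp.EtOver X} (hE : Aff X E) :
    Set.range ((A.ι hM).val.app (op E)).hom = {x : Sec M E | x ∈ A.N E hE} := by
  ext x
  exact ⟨fun ⟨s, e⟩ => e ▸ (A.mem_iff hM hE _).1 s.2, fun h => ⟨⟨x, (A.mem_iff hM hE x).2 h⟩, rfl⟩⟩

theorem qc (hM : QC M) : QC (A.toMod hM) := fun E E' g hE hE' => by
  rw [ConcreteCategory.isIso_iff_bijective]
  letI := (rh (AlgSp.OEt X).obj g).toAlgebra
  haveI : Module.Flat ((AlgSp.OEt X).obj.obj (op E)) ((AlgSp.OEt X).obj.obj (op E')) := (affSite X).flat g hE hE'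
  let j : Sec (A.toMod hM) E →ₗ[(AlgSp.OEt X).obj.obj (op E)] Sec M E :=
    ((evalC (AlgSp.OEt X).obj E).map (A.ι hM).val).hom
  have hj : Function.Injective j := A.incl_app_injective _
  have hsq : ∀ w, (A.ι hM).val.app (op E') ((θ (AlgSp.OEt X).obj g).app (A.toMod hM).val w) =
      (θ (AlgSp.OEt X).obj g).app M.val (j.lTensor _ w) := fun w => by
    have h := ConcreteCategory.congr_hom ((θ (AlgSp.OEt X).obj g).naturality (A.ι hM).val) w
    exact h.symm
  refine ⟨fun a b e => ?_, fun y => ?_⟩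
  · refine Module.Flat.lTensor_preserves_injective_linearMap (M := (AlgSp.OEt X).obj.obj (op E')) j hj
      ((hM.bijective g hE hE').1 ?_)
    exact ((hsq a).symm.trans (congrArg _ e)).trans (hsq b)
  · obtain ⟨w, hw⟩ := A.span_le_range hM g hE hE' _ ((A.mem_iff hM hE' _).1 y.2)
    let c : A.N E hE →ₗ[(AlgSp.OEt X).obj.obj (op E)] Sec (A.toMod hM) E :=
      { toFun := fun x => ⟨x.1, (A.mem_iff hM hE x.1).2 x.2⟩
        map_add' := fun _ _ => rfl
        map_smul' := fun _ _ => rfl }
    refine ⟨c.lTensor _ w, A.incl_app_injective _ ?_⟩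
    refine (hsq _).trans (Eq.trans ?_ hw)
    refine congrArg _ ?_
    rw [← LinearMap.comp_apply, ← LinearMap.lTensor_comp]
    exact congrArg (fun k : A.N E hE →ₗ[(AlgSp.OEt X).obj.obj (op E)] Sec M E => k.lTensor _ w) (LinearMap.ext fun _ => rfl)

end AffSub

section Annihilated

variable (I : AlgSp.IdealEt X) (M : AlgSp.ModEt X)

/-- Sections over an affine killed by an ideal family. -/
def killed (E : AlgSp.EtOver X) (hE : Aff X E) : Submodule ((AlgSp.OEt X).obj.obj (op E)) (Sec M E) where
  carrier := {s | ∀ a ∈ I.ideal E hE, upEquiv X E a • s = 0}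
  add_mem' {s t} hs ht a ha := by rw [smul_add, hs a ha, ht a ha, add_zero]
  zero_mem' a ha := smul_zero _
  smul_mem' r s hs a ha := by rw [smul_comm, hs a ha, smul_zero]

theorem killed_mem_res (hI : I.IsQCoh) {E E' : AlgSp.EtOver X} (g : E' ⟶ E) (hE : Aff X E) (hE' : Aff X E')
    (x : Sec M E) (hx : x ∈ killed I M E hE) :
    (show Sec M E' from res (O := (AlgSp.OEt X).obj) M.val g x) ∈ killed I M E' hE' := by
  intro a ha
  let y : Sec M E' := res (O := (AlgSp.OEt X).obj) M.val g x
  let J : Ideal Γ(E'.obj.left.left, ⊤) :=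
    (Submodule.span ((AlgSp.OEt X).obj.obj (op E')) {y}).annihilator.comap (upEquiv X E').toRingHom
  suffices I.ideal E' hE' ≤ J from (Submodule.mem_annihilator_span_singleton _ _).1 (this ha)
  refine (hI g hE hE').trans (Ideal.map_le_iff_le_comap.2 fun b hb => ?_)
  refine (Submodule.mem_annihilator_span_singleton _ _).2 ?_
  show upEquiv X E' (g.hom.left.left.appTop b) • y = 0
  rw [← rh_upEquiv]
  refine (M.val.map_smul g.op (upEquiv X E b) x).symm.trans ?_
  exact (congrArg _ (hx b hb)).trans (map_zero (M.val.presheaf.map g.op).hom)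

theorem exists_killed_base_change {R B N N' : Type (u + 1)} [CommRing R] [CommRing B] [Algebra R B] [Module.Flat R B]
    [AddCommGroup N] [Module R N] [AddCommGroup N'] [Module B N'] (e : B ⊗[R] N →ₗ[B] N') (he : Function.Bijective e)
    {k : ℕ} (r : Fin k → R) (y : N') (hy : ∀ j, algebraMap R B (r j) • y = 0) :
    ∃ w : B ⊗[R] (⨅ j, LinearMap.ker (LinearMap.lsmul R N (r j)) : Submodule R N),
      e ((Submodule.subtype _).lTensor B w) = y := by
  obtain ⟨z, rfl⟩ := he.2 y
  let f : N →ₗ[R] (Fin k → N) := LinearMap.pi fun j => LinearMap.lsmul R N (r j)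
  let P := (⨅ j, LinearMap.ker (LinearMap.lsmul R N (r j)) : Submodule R N)
  have hP : LinearMap.range P.subtype = LinearMap.ker f := by
    rw [Submodule.range_subtype, LinearMap.ker_pi]
  have hex := Module.Flat.lTensor_exact B (LinearMap.exact_iff.2 hP.symm)
  obtain ⟨w, hw⟩ : z ∈ LinearMap.range (P.subtype.lTensor B) := by
    refine (hex z).1 ?_
    apply (TensorProduct.piRight R R B (fun _ : Fin k => N)).injective
    rw [map_zero]
    funext j
    have h1 : (TensorProduct.piRight R R B (fun _ : Fin k => N)) (f.lTensor B z) j = (LinearMap.lsmul R N (r j)).lTensor B z := by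
      clear hy
      induction z using TensorProduct.induction_on with
      | zero => simp
      | tmul b x => simp [f]
      | add a b ha hb => simp only [map_add, Pi.add_apply, ha, hb]
    have h2 : (LinearMap.lsmul R N (r j)).lTensor B z = algebraMap R B (r j) • z := by
      clear hy h1
      induction z using TensorProduct.induction_on with
      | zero => simp
      | tmul b x => simp [TensorProduct.smul_tmul', TensorProduct.tmul_smul, Algebra.smul_def]
      | add a b ha hb => simp only [map_add, smul_add, ha, hb]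
    rw [h1, h2, Pi.zero_apply]
    exact he.1 (by rw [map_smul, map_zero, hy j])
  exact ⟨w, congrArg e hw⟩

theorem killed_gen (hM : QC M) (hft : ∀ E hE, (I.ideal E hE).FG) {E E' : AlgSp.EtOver X} (g : E' ⟶ E)
    (hE : Aff X E) (hE' : Aff X E') :
    killed I M E' hE' ≤ Submodule.span ((AlgSp.OEt X).obj.obj (op E'))
      ((fun x : Sec M E => (show Sec M E' from res (O := (AlgSp.OEt X).obj) M.val g x)) '' (killed I M E hE : Set (Sec M E))) := by
  intro y hy
  obtain ⟨k, a, ha⟩ := Submodule.fg_iff_exists_fin_generating_family.1 (hft E hE)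
  let R := (AlgSp.OEt X).obj.obj (op E)
  let B := (AlgSp.OEt X).obj.obj (op E')
  letI : Algebra R B := (rh (AlgSp.OEt X).obj g).toAlgebra
  haveI : Module.Flat R B := (affSite X).flat g hE hE'
  obtain ⟨w, hw⟩ := exists_killed_base_change (R := R) (B := B) (N := Sec M E) (N' := Sec M E')
    ((θ (AlgSp.OEt X).obj g).app M.val).hom (hM.bijective g hE hE') (fun j => upEquiv X E (a j)) y fun j => by
      refine (congrArg (· • y) (rh_upEquiv g (a j))).trans ?_
      exact hy _ (I.map_le g hE hE' (Ideal.mem_map_of_mem _ (ha ▸ Submodule.subset_span ⟨j, rfl⟩)))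
  rw [← hw]
  clear hw
  induction w using TensorProduct.induction_on with
  | zero =>
    rw [map_zero]
    exact (map_zero ((θ (AlgSp.OEt X).obj g).app M.val).hom).symm ▸ Submodule.zero_mem _
  | tmul s x =>
    rw [LinearMap.lTensor_tmul]
    refine (θ_tmul (O := (AlgSp.OEt X).obj) M.val g s _).symm ▸ Submodule.smul_mem _ _ (Submodule.subset_span ⟨x.1, ?_, rfl⟩)
    intro b hb
    let J : Ideal Γ(E.obj.left.left, ⊤) :=
      (Submodule.span R {x.1}).annihilator.comap (upEquiv X E).toRingHom
    suffices I.ideal E hE ≤ J from (Submodule.mem_annihilator_span_singleton _ _).1 (this hb)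
    rw [← ha, Ideal.span_le]
    rintro _ ⟨j, rfl⟩
    exact (Submodule.mem_annihilator_span_singleton _ _).2 ((Submodule.mem_iInf _).1 x.2 j)
  | add u v hu hv =>
    rw [map_add]
    exact (map_add ((θ (AlgSp.OEt X).obj g).app M.val).hom _ _).symm ▸ Submodule.add_mem _ hu hv

/-- The submodule of sections killed by a finitely generated ideal sheaf. -/
def killedSub (hI : I.IsQCoh) (hM : QC M) (hft : ∀ E hE, (I.ideal E hE).FG) : AffSub M where
  N := killed I M
  mem_res g hE hE' x hx := killed_mem_res I M hI g hE hE' x hx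
  gen g hE hE' := killed_gen I M hM hft g hE hE'

end Annihilated

end Groth.Agent.AlgSpQC

end
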