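import Groth.Agent.AlgSpQC.CohExtBase
import Groth.Agent.AlgSpQC.PushImageMain
import Groth.Agent.AlgSpQC.PullWeakAss
import Groth.Agent.AlgSpQC.SubMod
import Groth.Agent.AlgSpQC.PushWeakAss
import Groth.Agent.ASp.CutOut
import Groth.Agent.ASp.EtPushImage
import Groth.Agent.ASp.Morph

/-!
# Sections killed by the ideal of a closed subspace containing an associated point
-/

set_option autoImplicit false
set_option linter.style.haveILetI false
set_option linter.unusedSectionVars false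
set_option backward.isDefEq.respectTransparency false
set_option backward.isDefEq.respectTransparency.types false
set_option maxHeartbeats 800000

universe u

open CategoryTheory Limits AlgebraicGeometry Opposite

noncomputable section

namespace Groth.Agent.AlgSpQC

variable {S : Scheme.{u}} {Z X : AlgSp.Space S} {i : Z ⟶ X} (hi : AlgSp.RepWith @IsClosedImmersion i.hom)

include hi in
theorem isQuasiCompactMor_closedImmersion : AlgSp.IsQuasiCompactMor i.hom :=
  ASp.isQuasiCompactMor_of_repWith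
    (ASp.repWith_mono (fun _ _ g (hg : IsClosedImmersion g) => (inferInstance : QuasiCompact g)) hi)

theorem fg_idealOfRep (hN : AlgSp.IsLocNoethSp X.obj) (E : AlgSp.EtOver X.obj) (hE : IsAffine E.obj.left.left) :
    ((AlgSp.idealOfRep hi.1).ideal E hE).FG := by
  haveI := isNoetherianRing_aff hN hE
  haveI : IsNoetherianRing Γ(E.obj.left.left, ⊤) :=
    isNoetherianRing_of_ringEquiv _ (upEquiv X.obj E).symm
  exact IsNoetherian.noetherian _

theorem killed_of_mem_kernel {M : AlgSp.ModEt X.obj} {E : AlgSp.EtOver X.obj}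
    (hE : IsAffine E.obj.left.left) (m : Sec M E)
    (h : m ∈ killed (AlgSp.idealOfRep hi.1) M E hE) (c : (AlgSp.OEt X.obj).obj.obj (op E))
    (hc : rπ hi.1 E c = 0) : c • m = 0 := by
  obtain ⟨a, rfl⟩ := (upEquiv X.obj E).surjective c
  exact h a ((rπ_eq_zero_iff hi E hE a).1 hc)

/-- An associated point in a closed subspace gives a nonzero section killed by its ideal. -/
theorem exists_killed_ne_zero (hN : AlgSp.IsLocNoethSp X.obj) {M : AlgSp.ModEt X.obj}
    {x : AlgSp.Points X.obj} (hx : x ∈ AlgSp.WeakAssEt M) (hxi : x ∈ Set.range (AlgSp.Points.map i.hom)) :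
    ∃ (E : AlgSp.EtOver X.obj) (hE : IsAffine E.obj.left.left) (m : Sec M E),
      m ≠ 0 ∧ m ∈ killed (AlgSp.idealOfRep hi.1) M E hE := by
  obtain ⟨E, hE, z, rfl, hw⟩ := hx
  haveI := hE
  obtain ⟨w, hwz⟩ := (ASp.mem_range_bcπ_iff (hf := hi.1) E z).1 hxi
  haveI := isNoetherianRing_aff hN hE
  have hQ := (isWeakAssOn_iff (M := M) E z).1 hw
  obtain ⟨hQp, m, hm⟩ := WeakAssLib.mem_ass.1 (WeakAssLib.mem_ass_of_fg hQ (IsNoetherian.noetherian _))
  refine ⟨E, hE, m, fun h0 => hQp.ne_top ((Ideal.eq_top_iff_one _).2 ((hm 1).2 (by rw [h0, smul_zero]))), fun a ha => ?_⟩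
  refine (hm _).1 ?_
  have e : PrimeSpectrum.comap (rπ hi.1 E) (primeO ((AlgSp.EtOver.bc hi.1).obj E) w) = primeO E z :=
    (comap_rπ_primeO hi.1 E w).trans (congrArg (primeO E) hwz)
  rw [← e]
  show rπ hi.1 E (upEquiv X.obj E a) ∈ (primeO ((AlgSp.EtOver.bc hi.1).obj E) w).asIdeal
  rw [(rπ_eq_zero_iff hi E hE a).2 ha]
  exact Ideal.zero_mem _

include hi in
/-- A quasi-coherent module on the closed subspace mapping into `M`. -/
theorem exists_killed_sub (hN : AlgSp.IsLocNoethSp X.obj) {M : AlgSp.ModEt X.obj} (hM : QC M)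
    {x : AlgSp.Points X.obj} (hx : x ∈ AlgSp.WeakAssEt M) (hxi : x ∈ Set.range (AlgSp.Points.map i.hom)) :
    ∃ (G : AlgSp.ModEt Z.obj) (g : (AlgSp.pushModEt hi.1).obj G ⟶ M), Mono g ∧ QC G ∧ ¬ IsZero G := by
  let A : AffSub M := killedSub (AlgSp.idealOfRep hi.1) M (ASp.isQCoh_idealOfRep hi.1 (isQuasiCompactMor_closedImmersion hi))
    hM (fg_idealOfRep hi hN)
  have hA := A.qc hM
  have hk : Killed i hi (A.toMod hM) := fun W hW c hc t => by
    refine injective_app (A.ι hM) W ?_
    refine (map_smul (appS (A.ι hM) W) c t).trans ?_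
    have hmem : appS (A.ι hM) W t ∈ A.N W hW := (Set.ext_iff.1 (A.range_ι hM hW) _).1 ⟨t, rfl⟩
    exact (killed_of_mem_kernel hi hW _ hmem c hc).trans (map_zero (appS (A.ι hM) W)).symm
  obtain ⟨G, hG, ⟨t⟩⟩ := Killed.exists_qc hi hk hA
  refine ⟨G, t.hom ≫ A.ι hM, inferInstance, hG, fun hz => ?_⟩
  obtain ⟨E, hE, m, hm0, hm⟩ := exists_killed_ne_zero hi hN hx hxi
  obtain ⟨w, hw⟩ := (Set.ext_iff.1 (A.range_ι hM hE) m).2 hm
  haveI := subsingleton_sec_of_isZero (((AlgSp.pushModEt hi.1).map_isZero hz).of_iso t.symm) E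
  exact hm0 (hw.symm.trans ((congrArg (appS (A.ι hM) E) (Subsingleton.elim (α := Sec (A.toMod hM) E) w 0)).trans (map_zero _)))

end Groth.Agent.AlgSpQC

end
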