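import Groth.Agent.AlgSpQC.CohOpen
import Groth.Agent.AlgSpQC.CohKilled
import Groth.Agent.AlgSpQC.PushFin
import Groth.Agent.ASp.QSComp
import Groth.Agent.ASp.NoethFibre
import Groth.Agent.ASp.LocP
import Groth.Agent.ASp.Decent
import Groth.Agent.StratX.Dense
import Groth.Agent.StratX.CodimZero
import Groth.Agent.S10192
import Groth.Agent.S10203

/-!
# Every nonzero quasi-coherent module has a nonzero coherent submodule
-/

set_option autoImplicit false
set_option linter.style.haveILetI false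
set_option linter.unusedSectionVars false
set_option backward.isDefEq.respectTransparency false
set_option backward.isDefEq.respectTransparency.types false
set_option maxHeartbeats 800000

universe u

open CategoryTheory Limits AlgebraicGeometry Opposite

noncomputable section

namespace Groth.Agent.AlgSpQC

variable {S : Scheme.{u}}

theorem weakAssEt_nonempty {X : AlgSp.Sp S} {M : AlgSp.ModEt X} (hM : QC M) (h0 : ¬ IsZero M) :
    (AlgSp.WeakAssEt M).Nonempty := by
  by_contra h
  exact h0 (isZero_of_affine M fun E hE => subsingleton_sec hM (Set.not_nonempty_iff_eq_empty.1 h) hE)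

theorem weakAssEt_subset_of_mono {X : AlgSp.Sp S} {M N : AlgSp.ModEt X} (g : M ⟶ N) [Mono g] (hM : QC M) (hN : QC N) :
    AlgSp.WeakAssEt M ⊆ AlgSp.WeakAssEt N :=
  (weakAssEt_of_shortExact (ShortComplex.mk g (cokernel.π g) (cokernel.condition g))
    { exact := ShortComplex.exact_cokernel g } hM hN (qc_cokernel g hM hN)).2

theorem mono_push_map {Y X : AlgSp.Sp S} {f : Y ⟶ X} (hf : AlgSp.Representable f) {G G' : AlgSp.ModEt Y}
    (a : G ⟶ G') [Mono a] : Mono ((AlgSp.pushModEt hf).map a) :=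
  ⟨fun u v e => SheafOfModules.Hom.ext (PresheafOfModules.hom_ext fun U => ModuleCat.hom_ext (LinearMap.ext fun s =>
    injective_app a ((AlgSp.EtOver.bc hf).obj U.unop) (congrArg (fun k => k.val.app U s) e)))⟩

theorem isQuasiSeparatedSp_closed {Z X : AlgSp.Sp S} {i : Z ⟶ X} (hi : AlgSp.RepWith @IsClosedImmersion i)
    (hqs : AlgSp.IsQuasiSeparatedSp X) : AlgSp.IsQuasiSeparatedSp Z := by
  haveI : Mono i := ASp.mono_of_repWith (fun _ (hg : IsClosedImmersion _) => inferInstance) hi
  exact ASp.isQuasiSeparatedSp_of_mor hqs (ASp.repWith_diagonal_of_mono (P := @QuasiCompact) i)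

theorem isLocNoethSp_closed {Z X : AlgSp.Space S} {i : Z ⟶ X} (hi : AlgSp.RepWith @IsClosedImmersion i.hom)
    (hN : AlgSp.IsLocNoethSp X.obj) : AlgSp.IsLocNoethSp Z.obj :=
  ASp.isLocNoethSp_of_lft Z.property (ASp.locP_of_repWith (P := @LocallyOfFiniteType)
    (ASp.repWith_mono (fun _ _ g (hg : IsClosedImmersion g) => (inferInstance : LocallyOfFiniteType g)) hi)) hN

/-- An affine open subspace of a nonempty quasi-separated space. -/
theorem exists_affine_open (Z : AlgSp.Space S) (hqs : AlgSp.IsQuasiSeparatedSp Z.obj) (z₀ : AlgSp.Points Z.obj) :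
    ∃ (V : Over S) (q : (AlgSp.yon S).obj V ⟶ Z.obj), IsAffine V.left ∧ Mono q ∧ AlgSp.RepWith @Etale q ∧
      (Set.range (AlgSp.Points.ofPt q)).Nonempty := by
  obtain ⟨X', j, hj, hrep, hd⟩ := StratX.exists_dense_open_subscheme Z
    (ASp.isDecent_of_qs Z.2 (ASp.isTerminalYonBase.from _) (ASp.isQuasiSeparatedMor_toBase hqs _))
  haveI : Nonempty (AlgSp.Points Z.obj) := ⟨z₀⟩
  obtain ⟨_, ⟨p, rfl⟩⟩ := hd.nonempty
  obtain ⟨U, ⟨e⟩⟩ := hrep
  let e' := AlgSp.isoOfRepresentableBy e
  obtain ⟨v, -⟩ := ASp.surjective_ofPt (ASp.repWith_of_isIso (P := @Surjective) e'.hom) p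
  obtain ⟨W, hW, hvW, -⟩ := exists_isAffineOpen_mem_and_subset (x := v) (U := ⊤) trivial
  let o : Over.mk (W.ι ≫ U.hom) ⟶ U := Over.homMk W.ι rfl
  haveI : Mono o.left := inferInstanceAs (Mono W.ι)
  haveI : Mono o := (Over.forget S).mono_of_mono_map (show Mono ((Over.forget S).map o) from inferInstanceAs (Mono W.ι))
  haveI : Mono j.hom := ASp.mono_of_repWith (fun _ (hg : IsOpenImmersion _) => inferInstance) hj
  refine ⟨Over.mk (W.ι ≫ U.hom), (AlgSp.yon S).map o ≫ e'.hom ≫ j.hom, hW, inferInstance, ?_, _, ⟨v, hvW⟩, rfl⟩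
  exact ASp.repWith_comp (ASp.repWith_yon_map (inferInstanceAs (Etale W.ι)))
    (ASp.repWith_comp (ASp.repWith_of_isIso (P := @Etale) e'.hom)
      (ASp.repWith_mono (fun _ _ g (hg : IsOpenImmersion g) => (inferInstance : Etale g)) hj))

/-- The unit of an open chart meeting every associated point is injective. -/
theorem mono_unit_of_dense {Z : AlgSp.Sp S} (hN : AlgSp.IsLocNoethSp Z) [QuasiSeparatedSpace ↥S]
    (hZ : AlgSp.IsAlgSpace Z) (hqs : AlgSp.IsQuasiSeparatedSp Z) {V : Over S} (hV : IsAffine V.left)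
    {q : (AlgSp.yon S).obj V ⟶ Z} [Mono q] (hq : AlgSp.RepWith @Etale q) {G : AlgSp.ModEt Z} (hG : QC G)
    (hass : AlgSp.WeakAssEt G ⊆ Set.range (AlgSp.Points.ofPt q)) : Mono ((restrAdj hq).unit.app G) := by
  let η := (restrAdj hq).unit.app G
  have hP : QC ((AlgSp.pushModEt hq.1).obj ((restrMod hq).obj G)) := qc_push_chart hZ hqs hN hV hq (qc_restr hq hG)
  have hT : QC (kernel η) := qc_kernel η hG hP
  refine Abelian.mono_of_kernel_ι_eq_zero η ((isZero_of_affine _ fun E hE => ?_).eq_of_src _ _)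
  refine subsingleton_sec hT (Set.eq_empty_iff_forall_notMem.2 fun z hz => ?_) hE
  obtain ⟨v, rfl⟩ := hass (weakAssEt_subset_of_mono (kernel.ι η) hT hG hz)
  let A := (compE hq).obj (Tid V)
  haveI : Mono A.obj.hom := inferInstanceAs (Mono (𝟙 _ ≫ q))
  have hAv : AlgSp.Points.ofPt A.obj.hom v = AlgSp.Points.ofPt q v := by
    show AlgSp.Points.ofPt (𝟙 _ ≫ q) v = _
    rw [Category.id_comp]
  have hsub : Subsingleton (Sec (kernel η) A) := subsingleton_of_forall_eq 0 fun w => by
    refine injective_app (kernel.ι η) A (Eq.trans ?_ (map_zero (appS (kernel.ι η) A)).symm)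
    let y := appS (kernel.ι η) A w
    have h0 : appS η A y = 0 :=
      (appS_comp (kernel.ι η) η A w).symm.trans (congrArg (fun k => appS k A w) (kernel.condition η))
    have h1 := ((fromPush_unit hq G A y).symm.trans ((congrArg (fromPush hq A) h0).trans (fromPush_zero hq A)))
    have e1 : resS G ((compE hq).map ((compAdj hq).unit.app (Tid V))) (resS G ((compAdj hq).counit.app A) y) = y :=
      resS_unit_counit hq y
    have h2 := (toRestr_res hq ((compAdj hq).unit.app (Tid V)) (resS G ((compAdj hq).counit.app A) y)).trans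
      (congrArg (toRestr hq _) e1)
    exact h2.symm.trans ((congrArg (resS _ ((compAdj hq).unit.app (Tid V))) h1).trans (resS_zero _ _))
  haveI := hsub
  haveI : IsAffine A.obj.left.left := hV
  obtain ⟨s, hs⟩ := (mem_weakAssEt_iff hT (E := A) v).1 (hAv ▸ hz)
  rw [Subsingleton.elim s 0, Submodule.span_zero_singleton, Submodule.annihilator_bot, Ideal.minimalPrimes_top] at hs
  exact hs

/-- Nonzero quasi-coherent modules have nonzero coherent submodules. -/
theorem exists_nonzero_fp_sub [QuasiSeparatedSpace ↥S] (X : AlgSp.Space S) (hqc : AlgSp.IsQuasiCompactSp X.obj)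
    (hqs : AlgSp.IsQuasiSeparatedSp X.obj) (hN : AlgSp.IsLocNoethSp X.obj) {M : AlgSp.ModEt X.obj} (hM : QC M)
    (h0 : ¬ IsZero M) :
    ∃ (H : AlgSp.ModEt X.obj) (ι : H ⟶ M), Mono ι ∧ H.IsFinitePresentation ∧ ¬ IsZero H := by
  haveI := Groth.Agent.S10203.result X hqc hN
  obtain ⟨x₁, hx₁⟩ := weakAssEt_nonempty hM h0
  obtain ⟨C, ⟨x, hx, rfl⟩, hmin⟩ := (wellFounded_lt (α := TopologicalSpace.Closeds (AlgSp.Points X.obj))).has_min
    ((fun x => ⟨closure {x}, isClosed_closure⟩) '' AlgSp.WeakAssEt M) ⟨_, x₁, hx₁, rfl⟩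
  obtain ⟨Z, i, hi, hrange, -⟩ := Groth.Agent.S10192.result X (closure {x}) isClosed_closure
  obtain ⟨G, g, hg, hG, hG0⟩ := exists_killed_sub hi hN hM hx (hrange ▸ subset_closure (Set.mem_singleton x))
  haveI := hg
  have hZqs := isQuasiSeparatedSp_closed hi hqs
  have hZN := isLocNoethSp_closed hi hN
  have hp := qc_push_closed hi hG
  have himg : AlgSp.Points.map i.hom '' AlgSp.WeakAssEt G ⊆ AlgSp.WeakAssEt M := fun y hy =>
    weakAssEt_subset_of_mono g hp hM (image_subset_weakAssEt_push hi.1 X.property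
      (isAffineMor_of_isFiniteMor (isFiniteMor_closedImmersion hi)) hG
      (fun E hE => Or.inr (finite_rπ hi.1 (isFiniteMor_closedImmersion hi) hE)) hy)
  have hemb := (ASp.isEmbedding_of_immersion X.property
    (ASp.repWith_mono (fun _ _ f (hf : IsClosedImmersion f) => (inferInstance : IsImmersion f)) hi)).1
  have hgen : ∀ z ∈ AlgSp.WeakAssEt G, ∀ z', z' ∈ closure {z} := fun z hz z' => by
    rw [hemb.isInducing.closure_eq_preimage_closure_image, Set.image_singleton, Set.mem_preimage]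
    have hle : closure {AlgSp.Points.map i.hom z} ⊆ closure {x} :=
      closure_minimal (Set.singleton_subset_iff.2 (hrange ▸ ⟨z, rfl⟩)) isClosed_closure
    have heq : closure {AlgSp.Points.map i.hom z} = closure {x} := by
      by_contra hne
      exact hmin ⟨_, isClosed_closure⟩ ⟨_, himg ⟨z, hz, rfl⟩, rfl⟩
        (lt_of_le_of_ne hle fun e => hne (congrArg SetLike.coe e))
    rw [heq, ← hrange]
    exact ⟨z', rfl⟩
  obtain ⟨z₁, hz₁⟩ := weakAssEt_nonempty hG hG0
  obtain ⟨V, q, hV, hqm, hq, ⟨_, v, rfl⟩⟩ := exists_affine_open Z hZqs z₁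
  haveI := hqm
  have hass : AlgSp.WeakAssEt G ⊆ Set.range (AlgSp.Points.ofPt q) := fun z hz => by
    obtain ⟨z', h1, h2⟩ := mem_closure_iff.1 (hgen z hz (AlgSp.Points.ofPt q v)) _
      (ASp.isOpenMap_ofPt_of_etale hq).isOpen_range ⟨v, rfl⟩
    exact Set.mem_singleton_iff.1 h2 ▸ h1
  haveI := mono_unit_of_dense hZN Z.property hZqs hV hq hG hass
  obtain ⟨H, ι, hι, hH, hH0⟩ := exists_nonzero_fp_of_open hq Z.property hZqs hZN hV hG hG0
  haveI := hι
  haveI := hH
  have hHq := (isQuasicoherent_iff H).1 inferInstance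
  haveI := mono_push_map hi.1 ι
  refine ⟨(AlgSp.pushModEt hi.1).obj H, (AlgSp.pushModEt hi.1).map ι ≫ g, mono_comp _ _, ?_, fun hz => hH0 ?_⟩
  · refine isFinitePresentation_of_finite hN (qc_push_closed hi hHq) fun E hE => ?_
    exact (finite_sec_push_iff hi.1 (isFiniteMor_closedImmersion hi) H hE).2 (finite_sec H hHq
      (aff_bc hi.1 (isAffineMor_of_isFiniteMor (isFiniteMor_closedImmersion hi)) hE))
  · haveI := faithful_pushModEt i hi
    refine (IsZero.iff_id_eq_zero H).2 ((AlgSp.pushModEt hi.1).map_injective ?_)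
    exact hz.eq_of_src _ _

end Groth.Agent.AlgSpQC

end
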