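import Groth.Agent.AlgSpQC.CohExt
import Groth.Agent.AlgSpQC.CohNonzero
import Groth.Agent.AlgSpQC.CohDesc

/-!
# Quasi-coherent modules on Noetherian spaces are unions of coherent submodules
-/

set_option autoImplicit false
set_option linter.style.haveILetI false
set_option linter.unusedSectionVars false
set_option backward.isDefEq.respectTransparency false
set_option backward.isDefEq.respectTransparency.types false
set_option maxHeartbeats 800000

universe u

open CategoryTheory Limits AlgebraicGeometry Opposite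

noncomputable section

namespace Groth.Agent.AlgSpQC

variable {S : Scheme.{u}} [QuasiSeparatedSpace ↥S]

section

variable (X : AlgSp.Space S) (hqc : AlgSp.IsQuasiCompactSp X.obj) (hqs : AlgSp.IsQuasiSeparatedSp X.obj)
  (hN : AlgSp.IsLocNoethSp X.obj) {M : AlgSp.ModEt X.obj} (hM : QC M)

include hqc hqs hN hM in
/-- Every section over an affine lies in the image of a coherent module. -/
theorem inFP_of_aff {E : AlgSp.EtOver X.obj} (hE : Aff X.obj E) (x : Sec M E) : InFP E x := by
  refine (cokernel_fpSub_eq_zero_iff hN hM hE x).1 ?_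
  have hQ : QC (cokernel ((fpSub hN M).ι hM)) := qc_cokernel _ ((fpSub hN M).qc hM) hM
  have hz : IsZero (cokernel ((fpSub hN M).ι hM)) := by
    by_contra h
    obtain ⟨H, ι, hι, hH, hH0⟩ := exists_nonzero_fp_sub X hqc hqs hN hQ h
    haveI := hι
    haveI := hH
    exact hH0 (isZero_of_fp_sub_quotient X.property hqc hqs hN hM ι)
  haveI := subsingleton_sec_of_isZero hz E
  exact Subsingleton.elim (α := Sec (cokernel ((fpSub hN M).ι hM)) E) _ 0

end

section

variable {X : AlgSp.Sp S}

/-- Coherent submodules. -/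
abbrev FPSub (M : AlgSp.ModEt X) :=
  ObjectProperty.FullSubcategory (fun N : MonoOver M => SheafOfModules.IsFinitePresentation N.obj.left)

theorem exists_fpSub_mem (hN : AlgSp.IsLocNoethSp X) {M : AlgSp.ModEt X} (hM : QC M) {E : AlgSp.EtOver X}
    {x : Sec M E} (h : InFP E x) : ∃ (N : FPSub M) (w : Sec N.obj.obj.left E), appS N.obj.obj.hom E w = x := by
  obtain ⟨H, φ, hH, w, hw⟩ := h
  haveI := hH
  have hq := (isQuasicoherent_iff H).1 inferInstance
  obtain ⟨H', ι, hι, hH', -, e, he⟩ := exists_image_fp hN φ hq hM fun E hE => finite_sec H hq hE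
  haveI := hι
  refine ⟨⟨MonoOver.mk ι, hH'⟩, appS e E w, ?_⟩
  exact (appS_comp e ι E w).symm.trans ((congrArg (fun k => appS k E w) he).trans hw)

theorem exists_fpSub_le (hN : AlgSp.IsLocNoethSp X) {M : AlgSp.ModEt X} (hM : QC M) (N₁ N₂ : FPSub M) :
    ∃ N : FPSub M, Nonempty (N₁ ⟶ N) ∧ Nonempty (N₂ ⟶ N) := by
  haveI := N₁.property
  haveI := N₂.property
  haveI := isFinitePresentation_biprod hN N₁.obj.obj.left N₂.obj.obj.left
  have hq := (isQuasicoherent_iff (N₁.obj.obj.left ⊞ N₂.obj.obj.left)).1 inferInstance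
  obtain ⟨H', ι, hι, hH', -, e, he⟩ := exists_image_fp hN (biprod.desc N₁.obj.obj.hom N₂.obj.obj.hom) hq hM
    fun E hE => finite_sec _ hq hE
  haveI := hι
  refine ⟨⟨MonoOver.mk ι, hH'⟩, ⟨ObjectProperty.homMk (MonoOver.homMk (biprod.inl ≫ e) ?_)⟩,
    ⟨ObjectProperty.homMk (MonoOver.homMk (biprod.inr ≫ e) ?_)⟩⟩
  · exact (Category.assoc _ _ _).trans ((congrArg (biprod.inl ≫ ·) he).trans (biprod.inl_desc _ _))
  · exact (Category.assoc _ _ _).trans ((congrArg (biprod.inr ≫ ·) he).trans (biprod.inr_desc _ _))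

theorem fpSub_hom_w {M : AlgSp.ModEt X} {N N' : FPSub M} (g : N ⟶ N') :
    g.hom.hom.left ≫ N'.obj.obj.hom = N.obj.obj.hom :=
  Over.w g.hom.hom

theorem nonempty_fpSub (hN : AlgSp.IsLocNoethSp X) (M : AlgSp.ModEt X) : Nonempty (FPSub M) := by
  obtain ⟨Z₀, hZ₀⟩ := HasZeroObject.zero (C := AlgSp.ModEt X)
  haveI : Mono (hZ₀.to_ M) := hZ₀.mono _
  exact ⟨⟨MonoOver.mk (hZ₀.to_ M), isFinitePresentation_zero hN hZ₀⟩⟩

theorem isFiltered_fpSub (hN : AlgSp.IsLocNoethSp X) {M : AlgSp.ModEt X} (hM : QC M) : IsFiltered (FPSub M) :=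
  { nonempty := nonempty_fpSub hN M
    cocone_objs := fun N₁ N₂ => by
      obtain ⟨N, ⟨g₁⟩, ⟨g₂⟩⟩ := exists_fpSub_le hN hM N₁ N₂
      exact ⟨N, g₁, g₂, trivial⟩
    cocone_maps := fun N₁ N₂ f g => ⟨N₂, 𝟙 _, ObjectProperty.hom_ext _ (Subsingleton.elim _ _)⟩ }

/-- The cocone of coherent submodules. -/
abbrev fpCocone (M : AlgSp.ModEt X) :=
  (Over.forgetCocone M).whisker
    (ObjectProperty.ι (fun N : MonoOver M => SheafOfModules.IsFinitePresentation N.obj.left) ⋙ MonoOver.forget M)

/-- Cocones on the coherent submodules. -/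
abbrev FPCocone (M : AlgSp.ModEt X) :=
  Cocone ((ObjectProperty.ι (fun N : MonoOver M => SheafOfModules.IsFinitePresentation N.obj.left) ⋙
    MonoOver.forget M) ⋙ Over.forget M)

/-- A leg of a cocone. -/
def leg {M : AlgSp.ModEt X} (s : FPCocone M) (N : FPSub M) : N.obj.obj.left ⟶ s.pt := s.ι.app N

theorem leg_w {M : AlgSp.ModEt X} (s : FPCocone M) {N N' : FPSub M} (g : N ⟶ N') :
    g.hom.hom.left ≫ leg s N' = leg s N := s.w g

theorem hom_ext_affine {M P : AlgSp.ModEt X} {a b : M ⟶ P} (h : ∀ E, Aff X E → ∀ x, appS a E x = appS b E x) : a = b :=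
  sub_eq_zero.1 (hom_eq_zero_of_affine _ fun E hE x => by
    show appS (a - b) E x = 0
    exact sub_eq_zero.2 (h E hE x))

theorem leg_comp {M : AlgSp.ModEt X} (s : FPCocone M) {N N' : FPSub M}
    (g : N ⟶ N') {E : AlgSp.EtOver X} (w : Sec N.obj.obj.left E) :
    appS (leg s N') E (appS g.hom.hom.left E w) = appS (leg s N) E w :=
  (appS_comp g.hom.hom.left (leg s N') E w).symm.trans (congrArg (fun k => appS k E w) (leg_w s g))

theorem hom_mem {M : AlgSp.ModEt X} {N N' : FPSub M} (g : N ⟶ N') {E : AlgSp.EtOver X} (w : Sec N.obj.obj.left E) :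
    appS N'.obj.obj.hom E (appS g.hom.hom.left E w) = appS N.obj.obj.hom E w :=
  (appS_comp g.hom.hom.left N'.obj.obj.hom E w).symm.trans (congrArg (fun k => appS k E w) (fpSub_hom_w g))

theorem injective_fpSub {M : AlgSp.ModEt X} (N : FPSub M) (E : AlgSp.EtOver X) :
    Function.Injective (appS N.obj.obj.hom E) := by
  haveI : Mono N.obj.obj.hom := N.obj.property
  exact injective_app _ E

theorem leg_eq (hN : AlgSp.IsLocNoethSp X) {M : AlgSp.ModEt X} (hM : QC M)
    (s : FPCocone M) {N N' : FPSub M}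
    {E : AlgSp.EtOver X} (w : Sec N.obj.obj.left E) (w' : Sec N'.obj.obj.left E)
    (h : appS N.obj.obj.hom E w = appS N'.obj.obj.hom E w') :
    appS (leg s N) E w = appS (leg s N') E w' := by
  obtain ⟨N'', ⟨g⟩, ⟨g'⟩⟩ := exists_fpSub_le hN hM N N'
  refine (leg_comp s g w).symm.trans (Eq.trans ?_ (leg_comp s g' w'))
  refine congrArg (appS (leg s N'') E) (injective_fpSub N'' E ?_)
  exact (hom_mem g w).trans (h.trans (hom_mem g' w').symm)

/-- The coherent submodules have colimit `M` if every section over an affine comes from one of them. -/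
theorem nonempty_isColimit_fpCocone (hN : AlgSp.IsLocNoethSp X) {M : AlgSp.ModEt X} (hM : QC M)
    (hall : ∀ E, Aff X E → ∀ x : Sec M E, InFP E x) : Nonempty (IsColimit (fpCocone M)) := by
  choose N w hw using fun E (hE : Aff X E) (x : Sec M E) => exists_fpSub_mem hN hM (hall E hE x)
  have huniq : ∀ s : FPCocone M,
      ∀ E (hE : Aff X E) (N' : FPSub M) (w' : Sec N'.obj.obj.left E),
        appS (leg s (N E hE (appS N'.obj.obj.hom E w'))) E (w E hE (appS N'.obj.obj.hom E w')) =
          appS (leg s N') E w' :=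
    fun s E hE N' w' => leg_eq hN hM s _ _ (hw E hE _)
  have hdesc : ∀ s : FPCocone M,
      ∃ f : M ⟶ s.pt, ∀ E (hE : Aff X E) (N' : FPSub M) (w' : Sec N'.obj.obj.left E),
        appS f E (appS N'.obj.obj.hom E w') = appS (leg s N') E w' := fun s => by
    let c : ∀ E, Aff X E → Sec M E → Sec s.pt E := fun E hE x => appS (leg s (N E hE x)) E (w E hE x)
    have hc : ∀ E (hE : Aff X E) (x : Sec M E) (N' : FPSub M) (w' : Sec N'.obj.obj.left E),
        appS N'.obj.obj.hom E w' = x → c E hE x = appS (leg s N') E w' :=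
      fun E hE x N' w' e => leg_eq hN hM s _ _ ((hw E hE x).trans e.symm)
    let v : ∀ E, Aff X E → (Sec M E →ₗ[(AlgSp.OEt X).obj.obj (op E)] Sec s.pt E) := fun E hE =>
      { toFun := c E hE
        map_add' := fun x x' => by
          obtain ⟨N', ⟨g⟩, ⟨g'⟩⟩ := exists_fpSub_le hN hM (N E hE x) (N E hE x')
          have e : appS N'.obj.obj.hom E (appS g.hom.hom.left E (w E hE x) + appS g'.hom.hom.left E (w E hE x')) =
              x + x' := by rw [map_add, hom_mem, hom_mem, hw, hw]
          refine (hc E hE _ _ _ e).trans ((map_add (appS (leg s N') E) _ _).trans ?_)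
          exact congrArg₂ (· + ·) (leg_comp s g _) (leg_comp s g' _)
        map_smul' := fun r x => by
          refine (hc E hE _ (N E hE x) (r • w E hE x) ((map_smul _ r _).trans (congrArg (r • ·) (hw E hE x)))).trans ?_
          exact map_smul (appS (leg s (N E hE x)) E) r _ }
    obtain ⟨f, hf⟩ := exists_hom_of_affine v (fun {A B} g hA hB x => by
      refine (hc B hB _ (N A hA x) (resS _ g (w A hA x))
        ((appS_res _ g _).trans (congrArg (resS M g) (hw A hA x)))).trans ?_
      exact appS_res (leg s (N A hA x)) g _)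
    exact ⟨f, fun E hE N' w' => (hf E hE _).trans (huniq s E hE N' w')⟩
  choose f hf using hdesc
  exact ⟨{
    desc := f
    fac := fun s N' => by
      show N'.obj.obj.hom ≫ f s = leg s N'
      refine hom_ext_affine fun E hE w' => ?_
      exact hf s E hE N' w'
    uniq := fun s m hm => by
      refine hom_ext_affine (M := M) fun E hE x => ?_
      rw [← hw E hE x]
      refine Eq.trans ?_ (hf s E hE _ _).symm
      exact (appS_comp (N E hE x).obj.obj.hom m E _).symm.trans
        (congrArg (fun k => appS k E (w E hE x)) (hm (N E hE x))) }⟩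

end

end Groth.Agent.AlgSpQC

end
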