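import Groth.Agent.AlgSpQC.CohExtBase

/-!
# Submodules spanned on a chart
-/

set_option autoImplicit false
set_option linter.style.haveILetI false
set_option linter.unusedSectionVars false
set_option backward.isDefEq.respectTransparency false
set_option backward.isDefEq.respectTransparency.types false
set_option maxHeartbeats 800000

universe u

open CategoryTheory Limits AlgebraicGeometry Opposite

noncomputable section

namespace Groth.Agent.AlgSpQC

variable {S : Scheme.{u}} {X : AlgSp.Sp S}

section Transfer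

variable {Y : AlgSp.Sp S} {p : Y ⟶ X} (hp : AlgSp.RepWith @Etale p)

/-- A section of `M`, read in the restriction. -/
def toRestr₀ {M : AlgSp.ModEt X} (E' : AlgSp.EtOver Y) (x : M.val.obj (op ((compE hp).obj E'))) :
    ((restrMod hp).obj M).val.obj (op E') := x

/-- A section of `M`, read in the restriction. -/
def toRestr {M : AlgSp.ModEt X} (E' : AlgSp.EtOver Y) (x : Sec M ((compE hp).obj E')) :
    Sec ((restrMod hp).obj M) E' := toRestr₀ hp E' x

/-- A section of a push-forward, read upstairs. -/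
def fromPush {C : AlgSp.ModEt Y} (E : AlgSp.EtOver X) (x : Sec ((AlgSp.pushModEt hp.1).obj C) E) :
    Sec C ((AlgSp.EtOver.bc hp.1).obj E) :=
  (show C.val.obj (op ((AlgSp.EtOver.bc hp.1).obj E)) from x)

theorem homEquiv_app_toRestr {M : AlgSp.ModEt X} {C : AlgSp.ModEt Y} (π : (restrMod hp).obj M ⟶ C)
    (E : AlgSp.EtOver X) (x : Sec M E) :
    fromPush hp E (appS ((restrAdj hp).homEquiv M C π) E x) =
      appS π _ (toRestr hp ((AlgSp.EtOver.bc hp.1).obj E) (resS M ((compAdj hp).counit.app E) x)) :=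
  homEquiv_app_eq hp π E x

theorem homEquiv_eq_zero_iff {M : AlgSp.ModEt X} {C : AlgSp.ModEt Y} (π : (restrMod hp).obj M ⟶ C)
    (E : AlgSp.EtOver X) (x : Sec M E) :
    appS ((restrAdj hp).homEquiv M C π) E x = 0 ↔
      appS π _ (toRestr hp ((AlgSp.EtOver.bc hp.1).obj E) (resS M ((compAdj hp).counit.app E) x)) = 0 := by
  rw [← homEquiv_app_toRestr]
  exact ⟨fun h => congrArg (fromPush hp E) h, fun h => h⟩

theorem toRestr_res {M : AlgSp.ModEt X} {A B : AlgSp.EtOver Y} (b : B ⟶ A) (x : Sec M ((compE hp).obj A)) :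
    resS ((restrMod hp).obj M) b (toRestr hp A x) = toRestr hp B (resS M ((compE hp).map b) x) := rfl

theorem toRestr_mem_span_iff {M : AlgSp.ModEt X} (A : AlgSp.EtOver Y) {J : Type (u + 1)}
    (f : J → Sec M ((compE hp).obj A)) (x : Sec M ((compE hp).obj A)) :
    toRestr hp A x ∈ Submodule.span ((AlgSp.OEt Y).obj.obj (op A)) (Set.range fun j => toRestr hp A (f j)) ↔
      x ∈ Submodule.span ((AlgSp.OEt X).obj.obj (op ((compE hp).obj A))) (Set.range f) :=
  Iff.rfl

end Transfer

variable {V : Over S} {q : (AlgSp.yon S).obj V ⟶ X} (hq : AlgSp.RepWith @Etale q)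

/-- Kernels of a map out of the restriction are the spans of given generators. -/
def IsSpanKer {M : AlgSp.ModEt X} {J : Type (u + 1)} (k : J → Sec M ((compE hq).obj (Tid V)))
    {C : AlgSp.ModEt ((AlgSp.yon S).obj V)} (π : (restrMod hq).obj M ⟶ C) : Prop :=
  ∀ A, Aff _ A → ∀ y : Sec M ((compE hq).obj A),
    (appS π A (toRestr hq A y) = 0 ↔ y ∈ Submodule.span ((AlgSp.OEt X).obj.obj (op ((compE hq).obj A)))
      (Set.range fun j => resS M ((compE hq).map ((isTerminalTid V).from A)) (k j)))

theorem exists_isSpanKer {M : AlgSp.ModEt X} (hM : QC M) {J : Type (u + 1)}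
    (k : J → Sec M ((compE hq).obj (Tid V))) :
    ∃ (C : AlgSp.ModEt ((AlgSp.yon S).obj V)) (π : (restrMod hq).obj M ⟶ C), QC C ∧ IsSpanKer hq k π := by
  let N := (restrMod hq).obj M
  let k' : J → Sec N (Tid V) := fun j => toRestr hq (Tid V) (k j)
  let d := N.freeHomEquiv.symm fun j => secOf (O := AlgSp.OEt _) (isTerminalTid V) N (k' j)
  have hN : QC N := qc_restr hq hM
  refine ⟨cokernel d, cokernel.π d, qc_cokernel d (qc_free _) hN, fun A hA y => ?_⟩
  refine ((cokernel_sections d (qc_free _) hN hA).2 (toRestr hq A y)).trans ?_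
  refine (Set.ext_iff.1 (congrArg SetLike.coe (range_desc k' hA)) (toRestr hq A y)).trans ?_
  exact toRestr_mem_span_iff hq A (fun j => resS M ((compE hq).map ((isTerminalTid V).from A)) (k j)) y

theorem resS_unit_counit {M : AlgSp.ModEt X} (x : Sec M ((compE hq).obj (Tid V))) :
    resS M ((compE hq).map ((compAdj hq).unit.app (Tid V)))
      (resS M ((compAdj hq).counit.app ((compE hq).obj (Tid V))) x) = x := by
  rw [resS_comp, (compAdj hq).left_triangle_components (Tid V)]
  exact res_id M.val x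

/-- A section of the chart dying in the quotient lies in the span. -/
theorem mem_span_of_eq_zero (hV : IsAffine V.left) {M : AlgSp.ModEt X} {J : Type (u + 1)}
    {k : J → Sec M ((compE hq).obj (Tid V))} {C : AlgSp.ModEt ((AlgSp.yon S).obj V)}
    {π : (restrMod hq).obj M ⟶ C} (hπ : IsSpanKer hq k π) (x : Sec M ((compE hq).obj (Tid V)))
    (h : appS ((restrAdj hq).homEquiv M C π) ((compE hq).obj (Tid V)) x = 0) :
    x ∈ Submodule.span ((AlgSp.OEt X).obj.obj (op ((compE hq).obj (Tid V)))) (Set.range k) := by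
  have h1 := (homEquiv_eq_zero_iff hq π _ x).1 h
  have e1 := (toRestr_res hq ((compAdj hq).unit.app (Tid V))
    (resS M ((compAdj hq).counit.app ((compE hq).obj (Tid V))) x)).trans
      (congrArg (toRestr hq (Tid V)) (resS_unit_counit hq x))
  have h2 : appS π (Tid V) (toRestr hq (Tid V) x) = 0 :=
    (congrArg (appS π (Tid V)) e1).symm.trans ((appS_res π ((compAdj hq).unit.app (Tid V)) _).trans
      ((congrArg (resS C ((compAdj hq).unit.app (Tid V))) h1).trans (resS_zero C _)))
  have h3 := (hπ (Tid V) hV x).1 h2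
  have e2 : (fun c => resS M ((compE hq).map ((isTerminalTid V).from (Tid V))) (k c)) = k := funext fun c => by
    rw [(isTerminalTid V).hom_ext ((isTerminalTid V).from _) (𝟙 _), CategoryTheory.Functor.map_id]
    exact res_id M.val (k c)
  rw [e2] at h3
  exact h3

/-- A section whose restrictions lie in the spans dies in the quotient. -/
theorem eq_zero_of_cover {M : AlgSp.ModEt X} {J : Type (u + 1)} {k : J → Sec M ((compE hq).obj (Tid V))}
    {C : AlgSp.ModEt ((AlgSp.yon S).obj V)} {π : (restrMod hq).obj M ⟶ C} (hπ : IsSpanKer hq k π)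
    {T : AlgSp.EtOver X} (x : Sec M T) {m : ℕ} (B : Fin m → AlgSp.EtOver ((AlgSp.yon S).obj V))
    (b : ∀ p, B p ⟶ (AlgSp.EtOver.bc hq.1).obj T) (hB : ∀ p, Aff _ (B p))
    (hcov : Sieve.ofArrows B b ∈ AlgSp.etTop _ ((AlgSp.EtOver.bc hq.1).obj T))
    (hx : ∀ p, resS M ((compE hq).map (b p) ≫ (compAdj hq).counit.app T) x ∈
      Submodule.span ((AlgSp.OEt X).obj.obj (op ((compE hq).obj (B p))))
        (resS M ((compE hq).map ((isTerminalTid V).from (B p))) '' Set.range k)) :
    appS ((restrAdj hq).homEquiv M C π) T x = 0 := by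
  refine (homEquiv_eq_zero_iff hq π T x).2 (sep C hcov fun U g hg => ?_)
  obtain ⟨p, a, rfl⟩ := Sieve.mem_ofArrows_iff _ _ _ |>.1 hg
  refine Eq.trans ?_ (resS_zero C (a ≫ b p)).symm
  show resS C (a ≫ b p) (appS π _ _) = 0
  rw [← resS_comp]
  refine (congrArg (resS C a) ?_).trans (resS_zero C a)
  refine (appS_res π (b p) _).symm.trans ?_
  rw [toRestr_res, resS_comp]
  refine (hπ (B p) (hB p) _).2 ?_
  have h := hx p
  rw [← Set.range_comp] at h
  exact h

end Groth.Agent.AlgSpQC

end
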