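import Groth.Agent.AlgSpQC.CohExtGen
import Groth.Agent.AlgSpQC.Largest

/-!
# Coherent submodules from an open affine
-/

set_option autoImplicit false
set_option linter.style.haveILetI false
set_option linter.unusedSectionVars false
set_option backward.isDefEq.respectTransparency false
set_option backward.isDefEq.respectTransparency.types false
set_option maxHeartbeats 800000

universe u

open CategoryTheory Limits AlgebraicGeometry Opposite

noncomputable section

namespace Groth.Agent.AlgSpQC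

variable {S : Scheme.{u}} {X : AlgSp.Sp S}

theorem hom_ext_of_mono {A B : AlgSp.EtOver X} [Mono A.obj.hom] (a a' : B ⟶ A) : a = a' := by
  refine ObjectProperty.hom_ext _ (CostructuredArrow.hom_ext _ _ ?_)
  refine (AlgSp.yon S).map_injective ((cancel_mono A.obj.hom).1 ?_)
  exact (CostructuredArrow.w a.hom).trans (CostructuredArrow.w a'.hom).symm

theorem isFinitePresentation_free (hN : AlgSp.IsLocNoethSp X) (I : Type (u + 1)) [Finite I] :
    (AlgSp.freeModEt X I).IsFinitePresentation :=
  isFinitePresentation_of_finite hN (qc_free I) fun E hE => ⟨by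
    rw [← span_eSec I hE]
    exact Submodule.fg_span (Set.finite_range _)⟩

theorem finite_sec_of_mono (hN : AlgSp.IsLocNoethSp X) {K M : AlgSp.ModEt X} (κ : K ⟶ M) [Mono κ]
    {E : AlgSp.EtOver X} (hE : Aff X E) [Module.Finite ((AlgSp.OEt X).obj.obj (op E)) (Sec M E)] :
    Module.Finite ((AlgSp.OEt X).obj.obj (op E)) (Sec K E) := by
  haveI := isNoetherianRing_aff hN hE
  exact Module.Finite.of_injective (appS κ E) (injective_app κ E)

/-- The image of a coherent module in a quasi-coherent one is coherent. -/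
theorem exists_image_fp (hN : AlgSp.IsLocNoethSp X) {K M : AlgSp.ModEt X} (φ : K ⟶ M) (hK : QC K) (hM : QC M)
    (hfin : ∀ E, Aff X E → Module.Finite ((AlgSp.OEt X).obj.obj (op E)) (Sec K E)) :
    ∃ (H : AlgSp.ModEt X) (ι : H ⟶ M), Mono ι ∧ H.IsFinitePresentation ∧ (IsZero H → φ = 0) ∧
      ∃ e : K ⟶ H, e ≫ ι = φ := by
  refine ⟨Abelian.coimage φ, Abelian.factorThruCoimage φ, inferInstance, ?_, fun h => ?_, _, Abelian.coimage.fac φ⟩
  · have hC : QC (Abelian.coimage φ) := qc_coimage φ hK hM
    refine isFinitePresentation_of_finite hN hC fun E hE => ?_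
    haveI := hfin E hE
    exact Module.Finite.of_surjective (appS (cokernel.π (kernel.ι φ)) E)
      ((cokernel_sections (kernel.ι φ) (qc_kernel φ hK hM) hK hE).1)
  · rw [← Abelian.coimage.fac φ, h.eq_of_src (Abelian.factorThruCoimage φ) 0, comp_zero]

variable [QuasiSeparatedSpace ↥S] {V : Over S} {q : (AlgSp.yon S).obj V ⟶ X} (hq : AlgSp.RepWith @Etale q)

/-- The value of a global section. -/
def secVal {M : AlgSp.ModEt X} (v : M.sections) (E : AlgSp.EtOver X) : Sec M E := v.1 (op E)

/-- A section of the chart as a global section of the direct image. -/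
def pushSec (N : AlgSp.ModEt ((AlgSp.yon S).obj V)) (s : Sec N (Tid V)) :
    ((AlgSp.pushModEt hq.1).obj N).sections :=
  PresheafOfModules.sectionsMk
    (fun Z => (secOf (O := AlgSp.OEt _) (isTerminalTid V) N s).1 (op ((AlgSp.EtOver.bc hq.1).obj Z.unop)))
    fun {Z W} f => (secOf (O := AlgSp.OEt _) (isTerminalTid V) N s).2 ((AlgSp.EtOver.bc hq.1).map f.unop).op

theorem exists_ne_zero_tid (hV : IsAffine V.left) {G : AlgSp.ModEt X} (hG : QC G) (hG0 : ¬ IsZero G)
    [Mono ((restrAdj hq).unit.app G)] : ∃ s : Sec G ((compE hq).obj (Tid V)), s ≠ 0 := by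
  by_contra h
  push Not at h
  refine hG0 (IsZero.of_mono ((restrAdj hq).unit.app G) ?_)
  show IsZero ((AlgSp.pushModEt hq.1).obj ((restrMod hq).obj G))
  refine Functor.map_isZero _ (isZero_of_affine _ fun B hB => ?_)
  refine subsingleton_of_forall_eq 0 fun y => ?_
  have hy := mem_span_res (qc_restr hq hG) ((isTerminalTid V).from B) hV hB (T := Set.univ) (Submodule.span_univ) y
  refine (Submodule.span_eq_bot.2 ?_).le hy
  rintro _ ⟨x, -, rfl⟩
  exact (congrArg (resS _ _) (h x)).trans (resS_zero _ _)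

theorem fromPush_pushSec (N : AlgSp.ModEt ((AlgSp.yon S).obj V)) (s : Sec N (Tid V)) (E : AlgSp.EtOver X) :
    fromPush hq E (secVal (pushSec hq N s) E) = resS N ((isTerminalTid V).from ((AlgSp.EtOver.bc hq.1).obj E)) s := rfl

theorem pushSec_eq_unit [Mono q] {G : AlgSp.ModEt X} (s : Sec G ((compE hq).obj (Tid V))) :
    fromPush hq ((compE hq).obj (Tid V))
        (secVal (pushSec hq ((restrMod hq).obj G) (toRestr hq (Tid V) s)) ((compE hq).obj (Tid V))) =
      toRestr hq _ (resS G ((compAdj hq).counit.app ((compE hq).obj (Tid V))) s) := by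
  haveI : Mono ((compE hq).obj (Tid V)).obj.hom := inferInstanceAs (Mono (𝟙 _ ≫ q))
  rw [fromPush_pushSec]
  refine (toRestr_res hq _ s).trans (congrArg (toRestr hq _) ?_)
  exact congrArg (fun g => resS G g s) (hom_ext_of_mono _ _)

theorem fromPush_zero {Y : AlgSp.Sp S} {p : Y ⟶ X} (hp : AlgSp.RepWith @Etale p) {C : AlgSp.ModEt Y}
    (E : AlgSp.EtOver X) : fromPush hp (C := C) E 0 = 0 := rfl

theorem fromPush_injective {Y : AlgSp.Sp S} {p : Y ⟶ X} (hp : AlgSp.RepWith @Etale p) {C : AlgSp.ModEt Y}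
    (E : AlgSp.EtOver X) : Function.Injective (fromPush hp (C := C) E) := fun _ _ h => h

theorem fromPush_unit {Y : AlgSp.Sp S} {p : Y ⟶ X} (hp : AlgSp.RepWith @Etale p) (M : AlgSp.ModEt X)
    (E : AlgSp.EtOver X) (x : Sec M E) :
    fromPush hp (C := (restrMod hp).obj M) E (appS ((restrAdj hp).unit.app M) E x) =
      toRestr hp ((AlgSp.EtOver.bc hp.1).obj E) (resS M ((compAdj hp).counit.app E) x) :=
  unit_app_eq hp M E x

theorem pushSec_value_eq [Mono q] {G : AlgSp.ModEt X} (s : Sec G ((compE hq).obj (Tid V))) :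
    secVal (pushSec hq ((restrMod hq).obj G) (toRestr hq (Tid V) s)) ((compE hq).obj (Tid V)) =
      appS ((restrAdj hq).unit.app G) ((compE hq).obj (Tid V)) s :=
  fromPush_injective hq _ ((pushSec_eq_unit hq s).trans (fromPush_unit hq G _ s).symm)

theorem app_freeHom_eSec {M : AlgSp.ModEt X} (v : M.sections) (E : AlgSp.EtOver X) :
    appS (M.freeHomEquiv.symm fun _ : PUnit.{u + 2} => v) E (eSec PUnit.{u + 2} E PUnit.unit) = secVal v E := by
  refine (app_eSec _ _ E PUnit.unit).trans ?_
  rw [Equiv.apply_symm_apply]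
  rfl

/-- If the unit of an open affine chart is injective there are nonzero coherent submodules. -/
theorem exists_nonzero_fp_of_open (hX : AlgSp.IsAlgSpace X) (hqs : AlgSp.IsQuasiSeparatedSp X)
    (hN : AlgSp.IsLocNoethSp X) (hV : IsAffine V.left) [Mono q] {G : AlgSp.ModEt X} (hG : QC G)
    [Mono ((restrAdj hq).unit.app G)] (hG0 : ¬ IsZero G) :
    ∃ (H : AlgSp.ModEt X) (ι : H ⟶ G), Mono ι ∧ H.IsFinitePresentation ∧ ¬ IsZero H := by
  obtain ⟨s, hs⟩ := exists_ne_zero_tid hq hV hG hG0
  let η := (restrAdj hq).unit.app G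
  let P := (AlgSp.pushModEt hq.1).obj ((restrMod hq).obj G)
  have hP : QC P := qc_push_chart hX hqs hN hV hq (qc_restr hq hG)
  let F := AlgSp.freeModEt X PUnit.{u + 2}
  haveI := isFinitePresentation_free (X := X) hN PUnit.{u + 2}
  let σ : F ⟶ P := P.freeHomEquiv.symm fun _ => pushSec hq ((restrMod hq).obj G) (toRestr hq (Tid V) s)
  obtain ⟨K, κ, hκ, hK, hmem⟩ := exists_kernel_family (qc_free (X := X) PUnit.{u + 2}) (fun _ : Unit => cokernel η)
    (fun _ => qc_cokernel η hG hP) (fun _ => σ ≫ cokernel.π η)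
  haveI := hκ
  have hκ0 : (κ ≫ σ) ≫ cokernel.π η = 0 := by
    refine hom_eq_zero_of_affine _ fun E hE x => ?_
    exact (hmem E hE _).1 ⟨x, rfl⟩ ()
  let φ : K ⟶ G := Abelian.monoLift η (κ ≫ σ) hκ0
  obtain ⟨H, ι, hι, hH, hH0, -⟩ := exists_image_fp hN φ hK hG fun E hE => by
    haveI := finite_sec F (qc_free (X := X) PUnit.{u + 2}) hE
    exact finite_sec_of_mono hN κ hE
  refine ⟨H, ι, hι, hH, fun hz => ?_⟩
  let A := (compE hq).obj (Tid V)
  let e : Sec F A := eSec PUnit.{u + 2} A PUnit.unit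
  have he : appS σ A e = appS η A s := (app_freeHom_eSec _ A).trans (pushSec_value_eq hq s)
  obtain ⟨w, hw⟩ := (hmem A hV e).2 fun _ => by
    refine (appS_comp σ (cokernel.π η) A e).trans ((congrArg (appS (cokernel.π η) A) he).trans ?_)
    exact (appS_comp η (cokernel.π η) A s).symm.trans
      (congrArg (fun k : G ⟶ cokernel η => appS k A s) (cokernel.condition η))
  have h0 : κ ≫ σ = 0 := (Abelian.monoLift_comp η (κ ≫ σ) hκ0).symm.trans
    ((congrArg (· ≫ η) (hH0 hz)).trans zero_comp)
  refine hs (injective_app η A (Eq.trans ?_ (map_zero (appS η A)).symm))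
  exact he.symm.trans ((congrArg (appS σ A) hw.symm).trans
    ((appS_comp κ σ A w).symm.trans (congrArg (fun k : K ⟶ P => appS k A w) h0)))

end Groth.Agent.AlgSpQC

end
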