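import Groth.Agent.AlgSpQC.Local

/-!
# Generators and presentations on an affine base
-/

set_option autoImplicit false
set_option linter.style.haveILetI false
set_option linter.unusedSectionVars false
set_option backward.isDefEq.respectTransparency false
set_option backward.isDefEq.respectTransparency.types false
set_option maxHeartbeats 800000

universe u

open CategoryTheory Limits Opposite TensorProduct

noncomputable section

namespace Groth.Agent.AlgSpQC

variable {C : Type (u + 1)} [Category.{u} C] {J : GrothendieckTopology C} {O : Sheaf J CommRingCat.{u + 1}}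
  {Aff : C → Prop} (H : AffSite J O.obj Aff)
  [HasSheafify J AddCommGrpCat.{u + 1}] [J.WEqualsLocallyBijective AddCommGrpCat.{u + 1}]

include H in
theorem bijective_shfUnit {P : PresheafOfModules.{u + 1} (RS O).obj} (hP : IsBC (O := O.obj) Aff P) {X : C}
    (hX : Aff X) : Function.Bijective ((evalC O.obj X).map (shfUnit P)) :=
  @IsBC.bijective_app _ _ O.obj J Aff H P hP ((shf (O := O)).obj P).val ((shf (O := O)).obj P).isSheaf (shfUnit P)
    (inferInstanceAs (Presheaf.IsLocallyInjective J (CategoryTheory.toSheafify J P.presheaf)))
    (inferInstanceAs (Presheaf.IsLocallySurjective J (CategoryTheory.toSheafify J P.presheaf))) _ hX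

include H in
/-- Epimorphisms of modules determined by base change are surjective on affines. -/
theorem surjective_of_epi {M N : SheafOfModules.{u + 1} (RS O)} (g : M ⟶ N) [Epi g] (hM : BC Aff M)
    (hN : BC Aff N) {X : C} (hX : Aff X) : Function.Surjective (g.val.app (op X)) := by
  let g' := (SheafOfModules.forget (RS O)).map g
  let P := cokernel g'
  have hP : IsBC (O := O.obj) Aff P := by
    intro A B f hA hB
    let D := parallelPair g' 0
    haveI : ∀ j, IsIso ((θ O.obj f).app (D.obj j)) := by
      rintro (_ | _)
      · exact hM f hA hB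
      · exact hN f hA hB
    haveI : PreservesColimit D (evalC O.obj A ⋙ ModuleCat.extendScalars (rh O.obj f)) := by
      haveI : PreservesColimit D (evalC O.obj A) :=
        inferInstanceAs (PreservesColimit D (PresheafOfModules.evaluation (RS O).obj (op A)))
      haveI : PreservesColimit (D ⋙ evalC O.obj A) (ModuleCat.extendScalars.{u + 1, u + 1, u + 1} (rh O.obj f)) :=
        (ModuleCat.extendRestrictScalarsAdj.{u + 1} (rh O.obj f)).leftAdjoint_preservesColimits.preservesColimitsOfShape.preservesColimit
      exact comp_preservesColimit _ _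
    haveI : PreservesColimit D (evalC O.obj B) :=
      inferInstanceAs (PreservesColimit D (PresheafOfModules.evaluation (RS O).obj (op B)))
    exact isIso_app_colimit (θ O.obj f) D
  have hz : IsZero ((shf (O := O)).obj P) := by
    haveI : Epi ((shf (O := O)).map g') := by
      have e := (PresheafOfModules.sheafificationAdjunction (𝟙 (RS O).obj)).counit.naturality g
      haveI : Epi (((SheafOfModules.forget (RS O) ⋙ PresheafOfModules.restrictScalars (𝟙 (RS O).obj)) ⋙ shf (O := O)).map g) := by
        have : ((SheafOfModules.forget (RS O) ⋙ PresheafOfModules.restrictScalars (𝟙 (RS O).obj)) ⋙ shf (O := O)).map g =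
            (PresheafOfModules.sheafificationAdjunction (𝟙 (RS O).obj)).counit.app M ≫ g ≫
              inv ((PresheafOfModules.sheafificationAdjunction (𝟙 (RS O).obj)).counit.app N) := by
          rw [← Category.assoc, IsIso.eq_comp_inv]
          exact e
        rw [this]
        infer_instance
      exact this
    exact IsZero.of_iso (isZero_cokernel_of_epi _) (PreservesCokernel.iso (shf (O := O)) g')
  have hb := bijective_shfUnit H hP hX
  have hc : ∀ y : N.val.obj (op X), (cokernel.π g').app (op X) y = 0 := fun y => hb.1 (by
    refine Eq.trans ?_ (map_zero ((shfUnit P).app (op X)).hom).symm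
    have h0 : 𝟙 ((shf (O := O)).obj P) = 0 := hz.eq_of_src _ _
    have := congrArg (fun (φ : (shf (O := O)).obj P ⟶ (shf (O := O)).obj P) =>
      φ.val.app (op X) ((shfUnit P).app (op X) ((cokernel.π g').app (op X) y))) h0
    exact this)
  let E := PresheafOfModules.evaluation.{u + 1} (RS O).obj (op X)
  haveI : Epi (E.map g') := by
    refine Abelian.epi_of_cokernel_π_eq_zero _ ?_
    rw [← PreservesCokernel.π_iso_hom E g', (ModuleCat.hom_ext (LinearMap.ext hc) : E.map (cokernel.π g') = 0),
      zero_comp]
  exact (ModuleCat.epi_iff_surjective (E.map g')).1 ‹_›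

variable {T : C} (hT : IsTerminal T)

/-- The section determined by an element over the final object. -/
def secOf (M : SheafOfModules.{u + 1} (RS O)) (x : M.val.obj (op T)) : M.sections :=
  PresheafOfModules.sectionsMk (fun Z => M.val.presheaf.map (hT.from Z.unop).op x) fun {Z W} f => by
    show M.val.presheaf.map f (M.val.presheaf.map (hT.from Z.unop).op x) = _
    rw [← ConcreteCategory.comp_apply, ← Functor.map_comp]
    exact congrArg (fun a : op T ⟶ W => M.val.presheaf.map a x) (Quiver.Hom.unop_inj (hT.hom_ext _ _))

include H in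
/-- Elements spanning the sections over the final affine object generate. -/
theorem epi_of_span {M : SheafOfModules.{u + 1} (RS O)} (hM : BC Aff M) (hTA : Aff T) {I : Type (u + 1)}
    (x : I → (evalC O.obj T).obj M.val) (hx : Submodule.span (O.obj.obj (op T)) (Set.range x) = ⊤) :
    Epi (M.freeHomEquiv.symm fun i => secOf hT M (x i)) := by
  let π := M.freeHomEquiv.symm fun i => secOf hT M (x i)
  suffices Epi ((SheafOfModules.toSheaf (RS O)).map π) from (SheafOfModules.toSheaf (RS O)).epi_of_epi_map this
  suffices Sheaf.IsLocallySurjective ((SheafOfModules.toSheaf (RS O)).map π) from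
    (Sheaf.isLocallySurjective_iff_epi' AddCommGrpCat.{u + 1} _).1 this
  refine ⟨fun {U} y => ?_⟩
  obtain ⟨R, hR, hRA⟩ := H.exists_affine U
  refine J.superset_covering ?_ hR
  intro V v hv
  obtain ⟨Z, h, k, hZ, e⟩ := hRA v hv
  have hmem : ∀ z : M.val.obj (op Z), z ∈ Set.range (π.val.app (op Z)) := by
    intro z
    obtain ⟨w, rfl⟩ := (hM.bijective (hT.from Z) hTA hZ).2 z
    induction w using TensorProduct.induction_on with
    | zero => exact ⟨0, (map_zero (π.val.app (op Z)).hom).trans (map_zero ((θ O.obj (hT.from Z)).app M.val).hom).symm⟩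
    | tmul s m =>
      obtain ⟨a, ha⟩ : res (O := O.obj) M.val (hT.from Z) m ∈ Set.range (π.val.app (op Z)) := by
        have hm : m ∈ Submodule.span (O.obj.obj (op T)) (Set.range x) := hx ▸ Submodule.mem_top
        induction hm using Submodule.span_induction with
        | mem m hm =>
          obtain ⟨i, rfl⟩ := hm
          exact ⟨(SheafOfModules.freeSection i).val (op Z), congrArg (fun s : M.sections => s.val (op Z))
            (SheafOfModules.sectionsMap_freeHomEquiv_symm_freeSection (fun i => secOf hT M (x i)) i)⟩
        | zero => exact ⟨0, (map_zero _).trans (map_zero (M.val.presheaf.map (hT.from Z).op).hom).symm⟩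
        | add a b _ _ ha hb =>
          obtain ⟨p, hp⟩ := ha
          obtain ⟨q, hq⟩ := hb
          exact ⟨p + q, ((map_add _ p q).trans (congrArg₂ (· + ·) hp hq)).trans
            (map_add (M.val.presheaf.map (hT.from Z).op).hom a b).symm⟩
        | smul r a _ ha =>
          obtain ⟨p, hp⟩ := ha
          exact ⟨(show (RS O).obj.obj (op Z) from rh O.obj (hT.from Z) r) • p,
            ((map_smul _ _ p).trans (congrArg _ hp)).trans (M.val.map_smul (hT.from Z).op r a).symm⟩
      refine ⟨(show (RS O).obj.obj (op Z) from s) • a, ?_⟩
      rw [map_smul, ha]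
      exact (θ_tmul M.val (hT.from Z) s m).symm
    | add a b ha hb =>
      obtain ⟨p, hp⟩ := ha
      obtain ⟨q, hq⟩ := hb
      exact ⟨p + q, ((map_add _ p q).trans (congrArg₂ (· + ·) hp hq)).trans
        (map_add ((θ O.obj (hT.from Z)).app M.val).hom a b).symm⟩
  obtain ⟨p, hp⟩ := hmem (M.val.presheaf.map k.op y)
  refine ⟨(SheafOfModules.free (R := RS O) I).val.presheaf.map h.op p, ?_⟩
  refine (NatTrans.naturality_apply ((PresheafOfModules.toPresheaf _).map π.val) h.op p).trans ?_
  refine (congrArg _ hp).trans ?_
  show M.val.presheaf.map h.op (M.val.presheaf.map k.op y) = M.val.presheaf.map v.op y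
  rw [← ConcreteCategory.comp_apply, ← Functor.map_comp, ← op_comp, e]

/-- Generators from a spanning family. -/
def genOf {M : SheafOfModules.{u + 1} (RS O)} (hM : BC Aff M) (hTA : Aff T) {I : Type (u + 1)}
    (x : I → (evalC O.obj T).obj M.val) (hx : Submodule.span (O.obj.obj (op T)) (Set.range x) = ⊤) :
    M.GeneratingSections where
  I := I
  s i := secOf hT M (x i)
  epi := epi_of_span H hT hM hTA x hx

include H in
/-- Free modules of finite rank have finitely generated sections. -/
theorem finite_free (I : Type (u + 1)) [Finite I] (X : C) :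
    Module.Finite (O.obj.obj (op X)) ((evalC O.obj X).obj (SheafOfModules.free (R := RS O) I).val) := by
  classical
  haveI := Fintype.ofFinite I
  let e : I → (evalC O.obj X).obj (SheafOfModules.free (R := RS O) I).val := fun i =>
    (SheafOfModules.freeSection (R := RS O) i).val (op X)
  let p : I → (SheafOfModules.free (R := RS O) I ⟶ SheafOfModules.unit (RS O)) := fun i =>
    Sigma.desc fun j => if j = i then 𝟙 _ else 0
  have hid : 𝟙 (SheafOfModules.free (R := RS O) I) = ∑ i, p i ≫ SheafOfModules.ιFree i := by
    refine Cofan.IsColimit.hom_ext (SheafOfModules.isColimitFreeCofan I) _ _ fun j => ?_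
    refine (Category.comp_id _).trans ?_
    rw [SheafOfModules.freeCofan_inj]
    refine Eq.trans ?_ (Preadditive.comp_sum _ (SheafOfModules.ιFree (R := RS O) j) _).symm
    rw [Finset.sum_eq_single j]
    · rw [← Category.assoc]
      show SheafOfModules.ιFree j = (Sigma.ι (fun _ : I => SheafOfModules.unit (RS O)) j ≫ Sigma.desc _) ≫ _
      rw [Sigma.ι_desc, if_pos rfl, Category.id_comp]
    · intro i _ hij
      rw [← Category.assoc]
      show (Sigma.ι (fun _ : I => SheafOfModules.unit (RS O)) j ≫ Sigma.desc _) ≫ _ = 0
      rw [Sigma.ι_desc, if_neg (Ne.symm hij), zero_comp]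
    · simp
  refine ⟨⟨Finset.univ.image e, top_le_iff.1 fun w _ => ?_⟩⟩
  have hw : w = ∑ i, (show O.obj.obj (op X) from (p i).val.app (op X) w) • e i := by
    have := congrArg (fun φ : SheafOfModules.free (R := RS O) I ⟶ SheafOfModules.free (R := RS O) I =>
      φ.val.app (op X) w) hid
    refine this.trans ?_
    refine (map_sum (AddMonoidHom.mk' (fun φ : SheafOfModules.free (R := RS O) I ⟶ SheafOfModules.free (R := RS O) I =>
      (show (evalC O.obj X).obj (SheafOfModules.free (R := RS O) I).val from φ.val.app (op X) w))
      (fun _ _ => rfl)) (fun i => p i ≫ SheafOfModules.ιFree i) Finset.univ).trans ?_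
    refine Finset.sum_congr rfl fun i _ => ?_
    let a : (RS O).obj.obj (op X) := (p i).val.app (op X) w
    show (SheafOfModules.ιFree (R := RS O) i).val.app (op X) a = a • e i
    refine Eq.trans ?_ (((SheafOfModules.ιFree (R := RS O) i).val.app (op X)).hom.map_smul a
      (show (SheafOfModules.unit (RS O)).val.obj (op X) from (1 : (RS O).obj.obj (op X))) |>.trans ?_)
    · exact congrArg _ (mul_one a).symm
    · rfl
  rw [hw]
  exact Submodule.sum_mem _ fun i _ => Submodule.smul_mem _ _ (Submodule.subset_span
    (Finset.mem_coe.2 (Finset.mem_image.2 ⟨i, Finset.mem_univ _, rfl⟩)))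

include H hT in
/-- Modules determined by base change over an affine final object are presentable. -/
theorem nonempty_presentation {M : SheafOfModules.{u + 1} (RS O)} (hM : BC Aff M) (hTA : Aff T) :
    Nonempty M.Presentation := by
  let g := genOf H hT hM hTA (I := ((evalC O.obj T).obj M.val : Type (u + 1))) id (by simp)
  exact ⟨⟨g, genOf H hT (bc_kernel H g.π (bc_free H _) hM) hTA
    (I := ((evalC O.obj T).obj (kernel g.π).val : Type (u + 1))) id (by simp)⟩⟩

include H hT in
/-- Over a Noetherian affine final object, finitely generated modules are finitely presented. -/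
theorem exists_finite_presentation {M : SheafOfModules.{u + 1} (RS O)} (hM : BC Aff M) (hTA : Aff T)
    [IsNoetherianRing (O.obj.obj (op T))] [Module.Finite (O.obj.obj (op T)) ((evalC O.obj T).obj M.val)] :
    ∃ p : M.Presentation, p.IsFinite := by
  obtain ⟨m, s, hs⟩ := Module.Finite.exists_fin (R := O.obj.obj (op T)) (M := (evalC O.obj T).obj M.val)
  let g := genOf H hT hM hTA (I := ULift.{u + 1} (Fin m)) (fun i => s i.down)
    (by rwa [show (fun i : ULift.{u + 1} (Fin m) => s i.down) = s ∘ ULift.down from rfl,
      Function.Surjective.range_comp ULift.down_surjective])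
  have hK := bc_kernel H g.π (bc_free H _) hM
  haveI := finite_free H (ULift.{u + 1} (Fin m)) T
  haveI : IsNoetherian (O.obj.obj (op T)) ((evalC O.obj T).obj (SheafOfModules.free (R := RS O) (ULift.{u + 1} (Fin m))).val) :=
    isNoetherian_of_isNoetherianRing_of_finite _ _
  let ι := (evalC O.obj T).map ((SheafOfModules.forget (RS O)).map (kernel.ι g.π))
  have hι : Function.Injective ι := by
    refine (ModuleCat.mono_iff_injective _).1 ?_
    haveI : PreservesLimitsOfShape WalkingCospan (evalC O.obj T) :=
      inferInstanceAs (PreservesLimitsOfShape WalkingCospan (PresheafOfModules.evaluation (RS O).obj (op T)))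
    haveI : Mono ((SheafOfModules.forget (RS O)).map (kernel.ι g.π)) := by
      haveI : PreservesLimitsOfShape WalkingCospan (SheafOfModules.forget.{u + 1} (RS O)) := inferInstance
      exact (SheafOfModules.forget (RS O)).map_mono _
    exact (evalC O.obj T).map_mono _
  haveI : IsNoetherian (O.obj.obj (op T)) ((evalC O.obj T).obj
      ((SheafOfModules.forget (RS O)).obj (SheafOfModules.free (R := RS O) g.I))) := ‹IsNoetherian (O.obj.obj (op T)) _›
  haveI : Module.Finite (O.obj.obj (op T)) ((evalC O.obj T).obj (kernel g.π).val) :=
    Module.Finite.of_injective ι.hom hι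
  obtain ⟨l, t, ht⟩ := Module.Finite.exists_fin (R := O.obj.obj (op T)) (M := (evalC O.obj T).obj (kernel g.π).val)
  let r := genOf H hT hK hTA (I := ULift.{u + 1} (Fin l)) (fun i => t i.down)
    (by rwa [show (fun i : ULift.{u + 1} (Fin l) => t i.down) = t ∘ ULift.down from rfl,
      Function.Surjective.range_comp ULift.down_surjective])
  exact ⟨⟨g, r⟩, ⟨⟨inferInstanceAs (Finite (ULift.{u + 1} (Fin m)))⟩,
    ⟨inferInstanceAs (Finite (ULift.{u + 1} (Fin l)))⟩⟩⟩

end Groth.Agent.AlgSpQC

end
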