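import Groth.Agent.AlgSpQC.SubMod
import Groth.Agent.AlgSpQC.MainExt
import Groth.Agent.AlgSpQC.Gen

/-!
# Sections of free modules over affine objects
-/

set_option autoImplicit false
set_option linter.style.haveILetI false
set_option linter.unusedSectionVars false
set_option backward.isDefEq.respectTransparency false
set_option backward.isDefEq.respectTransparency.types false
set_option maxHeartbeats 1600000

universe u

open CategoryTheory Limits AlgebraicGeometry Opposite

noncomputable section

namespace Groth.Agent.AlgSpQC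

variable {S : Scheme.{u}} {X : AlgSp.Sp S} (I : Type (u + 1))

/-- The tautological sections of a free module. -/
def eSec (E : AlgSp.EtOver X) (i : I) : Sec (AlgSp.freeModEt X I) E :=
  (SheafOfModules.freeSection (R := AlgSp.OEtRing X) i).1 (op E)

theorem res_eSec {E E' : AlgSp.EtOver X} (g : E' ⟶ E) (i : I) :
    (show Sec (AlgSp.freeModEt X I) E' from res (O := (AlgSp.OEt X).obj) (AlgSp.freeModEt X I).val g (eSec I E i)) =
      eSec I E' i :=
  (SheafOfModules.freeSection (R := AlgSp.OEtRing X) i).2 g.op

/-- The value of a morphism out of a free module on the tautological sections. -/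
theorem app_eSec {M : AlgSp.ModEt X} (φ : AlgSp.freeModEt X I ⟶ M) (E : AlgSp.EtOver X) (i : I) :
    ((evalC (AlgSp.OEt X).obj E).map φ.val) (eSec I E i) = (M.freeHomEquiv φ i).1 (op E) := rfl

/-- The submodule spanned by the tautological sections. -/
def freeSub : AffSub (AlgSp.freeModEt X I) where
  N E _ := Submodule.span ((AlgSp.OEt X).obj.obj (op E)) (Set.range (eSec I E))
  mem_res {E E'} g hE hE' x hx := by
    induction hx using Submodule.span_induction with
    | mem y hy =>
      obtain ⟨i, rfl⟩ := hy
      rw [res_eSec]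
      exact Submodule.subset_span ⟨i, rfl⟩
    | zero =>
      rw [show res (O := (AlgSp.OEt X).obj) (AlgSp.freeModEt X I).val g (0 : Sec (AlgSp.freeModEt X I) E) =
        (0 : Sec (AlgSp.freeModEt X I) E') from map_zero ((AlgSp.freeModEt X I).val.presheaf.map g.op).hom]
      exact Submodule.zero_mem _
    | add a b _ _ ha hb =>
      rw [show res (O := (AlgSp.OEt X).obj) (AlgSp.freeModEt X I).val g (a + b) =
        (show Sec (AlgSp.freeModEt X I) E' from res (O := (AlgSp.OEt X).obj) (AlgSp.freeModEt X I).val g a) +
          (show Sec (AlgSp.freeModEt X I) E' from res (O := (AlgSp.OEt X).obj) (AlgSp.freeModEt X I).val g b)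
        from map_add ((AlgSp.freeModEt X I).val.presheaf.map g.op).hom a b]
      exact Submodule.add_mem _ ha hb
    | smul r a _ ha =>
      rw [show res (O := (AlgSp.OEt X).obj) (AlgSp.freeModEt X I).val g (r • a) =
        rh (AlgSp.OEt X).obj g r •
          (show Sec (AlgSp.freeModEt X I) E' from res (O := (AlgSp.OEt X).obj) (AlgSp.freeModEt X I).val g a)
        from (AlgSp.freeModEt X I).val.map_smul g.op r a]
      exact Submodule.smul_mem _ _ ha
  gen {E E'} g hE hE' := Submodule.span_le.2 (by
    rintro _ ⟨i, rfl⟩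
    exact Submodule.subset_span ⟨eSec I E i, Submodule.subset_span ⟨i, rfl⟩, res_eSec I g i⟩)

/-- Free modules are quasi-coherent. -/
theorem qc_free : QC (AlgSp.freeModEt X I) := bc_free (O := AlgSp.OEt X) (affSite X) I

theorem span_eSec {E : AlgSp.EtOver X} (hE : Aff X E) :
    Submodule.span ((AlgSp.OEt X).obj.obj (op E)) (Set.range (eSec I E)) = ⊤ := by
  have hM := qc_free (X := X) I
  let A := freeSub (X := X) I
  have hmem : ∀ (U : AlgSp.EtOver X) (i : I), A.Mem U (eSec I U i) := fun U i Z k hZ =>
    (show eSec I Z i = _ from (res_eSec I k i).symm) ▸ Submodule.subset_span ⟨i, rfl⟩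
  let σ : I → (A.toMod hM).sections := fun i =>
    PresheafOfModules.sectionsMk (fun U => (⟨eSec I U.unop i, hmem U.unop i⟩ : A.memSub U))
      fun {U V} g => Subtype.ext (res_eSec I g.unop i)
  have hs : (A.toMod hM).freeHomEquiv.symm σ ≫ A.ι hM = 𝟙 _ := by
    refine (AlgSp.freeModEt X I).freeHomEquiv.injective (funext fun i => Subtype.ext (funext fun U => ?_))
    rw [SheafOfModules.freeHomEquiv_comp_apply, Equiv.apply_symm_apply]
    rfl
  refine top_le_iff.1 fun x _ => ?_
  have hx := ConcreteCategory.congr_hom (congrArg (fun f => (evalC (AlgSp.OEt X).obj E).map f.val) hs) x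
  have hr : x ∈ Set.range ((A.ι hM).val.app (op E)).hom :=
    ⟨((evalC (AlgSp.OEt X).obj E).map ((A.toMod hM).freeHomEquiv.symm σ).val) x, hx⟩
  rw [A.range_ι hM hE] at hr
  exact hr

variable {I}

/-- Coordinate projection of a free module. -/
def projFree (i : I) : AlgSp.freeModEt X I ⟶ AlgSp.unitModEt X :=
  open scoped Classical in Sigma.desc fun j => if j = i then 𝟙 _ else 0

open scoped Classical in
theorem projFree_eSec (i j : I) (E : AlgSp.EtOver X) :
    (show (AlgSp.OEt X).obj.obj (op E) from ((evalC (AlgSp.OEt X).obj E).map (projFree i).val) (eSec I E j)) =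
      if j = i then 1 else 0 := by
  rw [app_eSec]
  have h : (AlgSp.unitModEt X).freeHomEquiv (projFree i) j =
      (AlgSp.unitModEt X).unitHomEquiv (if j = i then 𝟙 _ else 0) :=
    congrArg (AlgSp.unitModEt X).unitHomEquiv (Sigma.ι_desc _ j)
  rw [h]
  split_ifs <;> rfl

theorem linearIndependent_eSec (E : AlgSp.EtOver X) :
    LinearIndependent ((AlgSp.OEt X).obj.obj (op E)) (eSec I E) := by
  classical
  rw [linearIndependent_iff']
  intro s c hc i hi
  let L : Sec (AlgSp.freeModEt X I) E →ₗ[(AlgSp.OEt X).obj.obj (op E)] Sec (AlgSp.unitModEt X) E :=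
    ((evalC (AlgSp.OEt X).obj E).map (projFree i).val).hom
  have h : L (∑ j ∈ s, c j • eSec I E j) = 0 := (congrArg L hc).trans (map_zero L)
  rw [map_sum] at h
  have e : ∀ j, L (c j • eSec I E j) = (show Sec (AlgSp.unitModEt X) E from if j = i then c j else 0) := fun j => by
    refine (map_smul L (c j) _).trans ?_
    show c j * _ = _
    refine (congrArg (c j * ·) (projFree_eSec i j E)).trans ?_
    split_ifs <;> simp
  simp only [e] at h
  exact (show (∑ j ∈ s, (if j = i then c j else 0 : (AlgSp.OEt X).obj.obj (op E))) = c i by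
    rw [Finset.sum_ite_eq']; simp [hi]).symm.trans h

variable (I) in
/-- The basis of sections of a free module over an affine. -/
def freeBasis {E : AlgSp.EtOver X} (hE : Aff X E) :
    Module.Basis I ((AlgSp.OEt X).obj.obj (op E)) (Sec (AlgSp.freeModEt X I) E) :=
  Module.Basis.mk (linearIndependent_eSec E) (span_eSec I hE).ge

theorem freeBasis_apply {E : AlgSp.EtOver X} (hE : Aff X E) (i : I) : freeBasis I hE i = eSec I E i :=
  Module.Basis.mk_apply _ _ i

end Groth.Agent.AlgSpQC

end
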