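import Groth.Agent.AlgSpQC.Main
import Groth.Prelude.Def_AlgSpOX2
import Groth.Prelude.Def_AlgSp3

/-!
# Direct images of quasi-coherent modules along affine morphisms of algebraic spaces
-/

set_option autoImplicit false
set_option linter.style.haveILetI false
set_option linter.unusedSectionVars false
set_option backward.isDefEq.respectTransparency false
set_option backward.isDefEq.respectTransparency.types false
set_option maxHeartbeats 800000

universe u

open CategoryTheory Limits AlgebraicGeometry Opposite TensorProduct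

noncomputable section

namespace Groth.Agent.AlgSpQC

variable {S : Scheme.{u}} {X Y : AlgSp.Sp S} {f : X ⟶ Y} (hf : AlgSp.Representable f)

/-- Base change of an object along an affine morphism is affine. -/
theorem aff_bc (haff : AlgSp.IsAffineMor f) {E : AlgSp.EtOver Y} (hE : Aff Y E) :
    Aff X ((AlgSp.EtOver.bc hf).obj E) := by
  obtain ⟨W, i, fst, h, hW⟩ := haff hE E.obj.hom
  let e : ((AlgSp.EtOver.bc hf).obj E).obj.left ≅ W :=
    Functor.FullyFaithful.preimageIso (Functor.FullyFaithful.ofFullyFaithful (AlgSp.yon S))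
      ((hf.isPullback E.obj.hom).isoIsPullback _ _ h)
  haveI := hW
  haveI : IsIso e.hom.left := inferInstanceAs (IsIso ((Over.forget S).map e.hom))
  exact IsAffine.of_isIso e.hom.left

/-- The comparison map of rings of functions along the projection. -/
def rπ (E : AlgSp.EtOver Y) :
    (AlgSp.OEt Y).obj.obj (op E) →+* (AlgSp.OEt X).obj.obj (op ((AlgSp.EtOver.bc hf).obj E)) :=
  ((AlgSp.bcRingHom hf).hom.app (op E)).hom

theorem rπ_upEquiv (E : AlgSp.EtOver Y) (a : Γ(E.obj.left.left, ⊤)) :
    rπ hf E (upEquiv Y E a) = upEquiv X _ ((hf.snd E.obj.hom).left.appTop a) := rfl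

theorem isPushout_bc {E E' : AlgSp.EtOver Y} (g : E' ⟶ E) (hE : Aff Y E) (hE' : Aff Y E')
    (hW : Aff X ((AlgSp.EtOver.bc hf).obj E)) :
    IsPushout ((AlgSp.OEt Y).obj.map g.op) (CommRingCat.ofHom (rπ hf E)) (CommRingCat.ofHom (rπ hf E'))
      ((AlgSp.OEt X).obj.map ((AlgSp.EtOver.bc hf).map g).op) := by
  haveI : IsAffine E.obj.left.left := hE
  haveI : IsAffine E'.obj.left.left := hE'
  haveI : IsAffine ((AlgSp.EtOver.bc hf).obj E).obj.left.left := hW
  haveI : IsAffine (AlgSp.EtOver.bcObj hf E).obj.left.left := hW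
  exact isPushout_ulift (isPushout_appTop_of_isPullback (AlgSp.EtOver.isPullback_bcMap_left hf g)).flip
    (upEquiv Y E) (upEquiv Y E') (upEquiv X _) (upEquiv X _) (fun _ => rfl) (fun _ => rfl) (fun _ => rfl) (fun _ => rfl)

theorem θ_push_tmul (M : AlgSp.ModEt X) {E E' : AlgSp.EtOver Y} (g : E' ⟶ E)
    (s : (AlgSp.OEt Y).obj.obj (op E')) (x : ((AlgSp.pushModEt hf).obj M).val.obj (op E)) :
    (show M.val.obj (op ((AlgSp.EtOver.bc hf).obj E')) from
      (θ (AlgSp.OEt Y).obj g).app ((AlgSp.pushModEt hf).obj M).val (s ⊗ₜ x)) =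
    (show (evalC (AlgSp.OEt X).obj ((AlgSp.EtOver.bc hf).obj E')).obj M.val from
      rπ hf E' s • (show (evalC (AlgSp.OEt X).obj ((AlgSp.EtOver.bc hf).obj E')).obj M.val from
        res (O := (AlgSp.OEt X).obj) M.val ((AlgSp.EtOver.bc hf).map g) x)) :=
  rfl

/-- Direct image along an affine morphism preserves base change on affines. -/
theorem qc_push (haff : AlgSp.IsAffineMor f) {M : AlgSp.ModEt X} (hM : QC M) : QC ((AlgSp.pushModEt hf).obj M) := by
  intro E E' g hE hE'
  have hW := aff_bc hf haff hE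
  have hW' := aff_bc hf haff hE'
  have hpo := isPushout_bc hf g hE hE' hW
  let W := (AlgSp.EtOver.bc hf).obj E
  let W' := (AlgSp.EtOver.bc hf).obj E'
  let R := (AlgSp.OEt Y).obj.obj (op E)
  let R' := (AlgSp.OEt Y).obj.obj (op E')
  let A := (AlgSp.OEt X).obj.obj (op W)
  let A' := (AlgSp.OEt X).obj.obj (op W')
  let bg := (AlgSp.EtOver.bc hf).map g
  letI : Algebra R R' := (rh (AlgSp.OEt Y).obj g).toAlgebra
  letI : Algebra R A := (rπ hf E).toAlgebra
  letI : Algebra R' A' := (rπ hf E').toAlgebra
  letI : Algebra A A' := (rh (AlgSp.OEt X).obj bg).toAlgebra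
  letI : Algebra R A' := ((rπ hf E').comp (rh (AlgSp.OEt Y).obj g)).toAlgebra
  haveI : IsScalarTower R R' A' := IsScalarTower.of_algebraMap_eq fun _ => rfl
  haveI : IsScalarTower R A A' := IsScalarTower.of_algebraMap_eq fun r => ConcreteCategory.congr_hom hpo.w r
  haveI : Algebra.IsPushout R R' A A' := CommRingCat.isPushout_iff_isPushout.1 hpo
  let N : ModuleCat.{u + 1} A := (evalC (AlgSp.OEt X).obj W).obj M.val
  letI : Module R N := Module.compHom N (rπ hf E)
  haveI : IsScalarTower R A N := IsScalarTower.of_algebraMap_smul fun _ _ => rfl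
  let e := (Algebra.IsPushout.cancelBaseChange R R' A A' N).symm
  have hb := hM.bijective bg hW hW'
  rw [ConcreteCategory.isIso_iff_bijective]
  suffices h : ∀ w : R' ⊗[R] N, (show M.val.obj (op W') from (θ (AlgSp.OEt Y).obj g).app ((AlgSp.pushModEt hf).obj M).val w) =
      (show M.val.obj (op W') from (θ (AlgSp.OEt X).obj bg).app M.val (e w)) by
    exact (congrArg Function.Bijective (funext h)).mpr (hb.comp e.bijective)
  intro w
  induction w using TensorProduct.induction_on with
  | zero =>
    exact (map_zero ((θ (AlgSp.OEt Y).obj g).app ((AlgSp.pushModEt hf).obj M).val).hom).trans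
      ((congrArg _ (map_zero e)).trans (map_zero ((θ (AlgSp.OEt X).obj bg).app M.val).hom)).symm
  | tmul s x =>
    refine (θ_push_tmul hf M g s x).trans ?_
    refine Eq.trans ?_ (congrArg ((θ (AlgSp.OEt X).obj bg).app M.val)
      (Algebra.IsPushout.cancelBaseChange_symm_tmul R R' A A' N s x)).symm
    exact (θ_tmul (O := (AlgSp.OEt X).obj) M.val bg (rπ hf E' s) x).symm
  | add a b ha hb =>
    exact ((map_add ((θ (AlgSp.OEt Y).obj g).app ((AlgSp.pushModEt hf).obj M).val).hom a b).trans
      (congrArg₂ (· + ·) ha hb)).trans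
      ((congrArg _ (map_add e a b)).trans (map_add ((θ (AlgSp.OEt X).obj bg).app M.val).hom _ _)).symm

/-- Direct image along an affine morphism preserves quasi-coherence. -/
theorem isQuasicoherent_push (haff : AlgSp.IsAffineMor f) (M : AlgSp.ModEt X) [M.IsQuasicoherent] :
    ((AlgSp.pushModEt hf).obj M).IsQuasicoherent :=
  (isQuasicoherent_iff _).2 (qc_push hf haff ((isQuasicoherent_iff M).1 inferInstance))

end Groth.Agent.AlgSpQC

end
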