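import Groth.Agent.AlgSpQC.PullRep
import Groth.Agent.AlgSpQC.FreeSec
import Groth.Agent.AlgSpQC.Push

/-!
# Sections of inverse images over affine base changes
-/

set_option autoImplicit false
set_option linter.style.haveILetI false
set_option linter.unusedSectionVars false
set_option backward.isDefEq.respectTransparency false
set_option backward.isDefEq.respectTransparency.types false
set_option maxHeartbeats 1600000

universe u

open CategoryTheory Limits AlgebraicGeometry Opposite TensorProduct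

noncomputable section

namespace Groth.Agent.AlgSpQC

/-- Comparing two cokernel presentations by base change. -/
theorem nonempty_equiv_of_presentations {R A F₁ F₀ C F₁' F₀' C' : Type (u + 1)} [CommRing R] [CommRing A]
    [Algebra R A] [AddCommGroup F₁] [Module R F₁] [AddCommGroup F₀] [Module R F₀] [AddCommGroup C] [Module R C]
    [AddCommGroup F₁'] [Module A F₁'] [AddCommGroup F₀'] [Module A F₀'] [AddCommGroup C'] [Module A C']
    (r : F₁ →ₗ[R] F₀) (π : F₀ →ₗ[R] C) (hπ : Function.Surjective π) (he : Function.Exact r π)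
    (r' : F₁' →ₗ[A] F₀') (π' : F₀' →ₗ[A] C') (hπ' : Function.Surjective π') (he' : Function.Exact r' π')
    (G₁ : A ⊗[R] F₁ ≃ₗ[A] F₁') (G₀ : A ⊗[R] F₀ ≃ₗ[A] F₀')
    (hc : G₀.toLinearMap ∘ₗ r.baseChange A = r' ∘ₗ G₁.toLinearMap) :
    Nonempty (A ⊗[R] C ≃ₗ[A] C') := by
  let Ψ := π' ∘ₗ G₀.toLinearMap
  let Φ := π.baseChange A
  have hΦ : Function.Surjective Φ := LinearMap.lTensor_surjective A hπ
  have hΨ : Function.Surjective Ψ := hπ'.comp G₀.surjective
  have hker : LinearMap.ker Φ = LinearMap.ker Ψ := by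
    ext x
    have h1 : Φ x = 0 ↔ x ∈ Set.range (r.baseChange A) := lTensor_exact A he hπ x
    have h2 : Ψ x = 0 ↔ G₀ x ∈ Set.range r' := he' (G₀ x)
    rw [LinearMap.mem_ker, LinearMap.mem_ker, h1, h2]
    constructor
    · rintro ⟨y, rfl⟩
      exact ⟨G₁ y, (LinearMap.congr_fun hc y).symm⟩
    · rintro ⟨z, hz⟩
      exact ⟨G₁.symm z, G₀.injective ((LinearMap.congr_fun hc _).trans (by
        show r' (G₁ (G₁.symm z)) = _
        rw [G₁.apply_symm_apply, hz]))⟩
  exact ⟨(Φ.quotKerEquivOfSurjective hΦ).symm ≪≫ₗ Submodule.quotEquivOfEq _ _ hker ≪≫ₗ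
    Ψ.quotKerEquivOfSurjective hΨ⟩

variable {S : Scheme.{u}}

/-- Cokernels on sections over affines. -/
theorem cokernel_sections {X : AlgSp.Sp S} {M N : AlgSp.ModEt X} (g : M ⟶ N) (hM : QC M) (hN : QC N)
    {E : AlgSp.EtOver X} (hE : Aff X E) :
    Function.Surjective ((evalC (AlgSp.OEt X).obj E).map (cokernel.π g).val) ∧
      Function.Exact ((evalC (AlgSp.OEt X).obj E).map g.val) ((evalC (AlgSp.OEt X).obj E).map (cokernel.π g).val) := by
  have hk : QC (kernel (cokernel.π g)) := qc_kernel _ hN (qc_cokernel g hM hN)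
  obtain ⟨-, hex, hsurj⟩ := shortExact_sections
    (ShortComplex.mk (kernel.ι (cokernel.π g)) (cokernel.π g) (kernel.condition _))
    { exact := ShortComplex.exact_kernel _ } hk hE
  refine ⟨hsurj, fun y => ⟨fun hy => ?_, ?_⟩⟩
  · obtain ⟨w, rfl⟩ := (hex y).1 hy
    obtain ⟨v, hv⟩ := surjective_of_epi (O := AlgSp.OEt X) (affSite X) (Abelian.factorThruImage g) hM hk hE w
    refine ⟨v, (ConcreteCategory.congr_hom (congrArg (fun k => (evalC (AlgSp.OEt X).obj E).map k.val)
      (Abelian.image.fac g)).symm v).trans ?_⟩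
    exact congrArg ((evalC (AlgSp.OEt X).obj E).map (Abelian.image.ι g).val) hv
  · rintro ⟨x, rfl⟩
    exact congrArg (fun k => ((evalC (AlgSp.OEt X).obj E).map k.val) x) (cokernel.condition g)

section Term

variable {W V : Over S} {g : (AlgSp.yon S).obj W ⟶ (AlgSp.yon S).obj V} (hg : AlgSp.Representable g)

/-- The comparison of free modules under base change. -/
def etaFree (J : Type (u + 1)) :
    AlgSp.freeModEt ((AlgSp.yon S).obj V) J ⟶
      (AlgSp.pushModEt hg).obj (AlgSp.freeModEt ((AlgSp.yon S).obj W) J) :=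
  freePushEquiv hg J _ (𝟙 _)

theorem app_freePushEquiv (J : Type (u + 1)) {N : AlgSp.ModEt ((AlgSp.yon S).obj W)}
    (φ : AlgSp.freeModEt ((AlgSp.yon S).obj W) J ⟶ N) (j : J) :
    (show N.val.obj (op ((AlgSp.EtOver.bc hg).obj (Tid V))) from
      ((evalC (AlgSp.OEt ((AlgSp.yon S).obj V)).obj (Tid V)).map (freePushEquiv hg J N φ).val) (eSec J (Tid V) j)) =
    ((evalC (AlgSp.OEt ((AlgSp.yon S).obj W)).obj ((AlgSp.EtOver.bc hg).obj (Tid V))).map φ.val)
      (eSec J ((AlgSp.EtOver.bc hg).obj (Tid V)) j) := by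
  let N' := (AlgSp.pushModEt hg).obj N
  show (N'.freeHomEquiv (N'.freeHomEquiv.symm (fun a => (sectionsEquiv (isTerminalTid V) N').symm
    (sectionsEquiv (isTerminalBcTid hg) N (N.freeHomEquiv φ a)))) j).1 (op (Tid V)) =
      (N.freeHomEquiv φ j).1 (op ((AlgSp.EtOver.bc hg).obj (Tid V)))
  rw [Equiv.apply_symm_apply]
  exact (sectionsEquiv (isTerminalTid V) N').apply_symm_apply _

set_option maxHeartbeats 6400000 in
/-- The inverse image of a cokernel of free modules, with its sections. -/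
theorem exists_pull_coker_sec {I J : Type (u + 1)}
    (r : AlgSp.freeModEt ((AlgSp.yon S).obj V) I ⟶ AlgSp.freeModEt ((AlgSp.yon S).obj V) J)
    (hV : Aff _ (Tid V)) (hT : Aff _ ((AlgSp.EtOver.bc hg).obj (Tid V))) :
    letI := (rπ hg (Tid V)).toAlgebra
    ∃ Q : AlgSp.ModEt ((AlgSp.yon S).obj W), QC Q ∧
      Nonempty ((AlgSp.OEt ((AlgSp.yon S).obj W)).obj.obj (op ((AlgSp.EtOver.bc hg).obj (Tid V)))
          ⊗[(AlgSp.OEt ((AlgSp.yon S).obj V)).obj.obj (op (Tid V))] Sec (cokernel r) (Tid V)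
        ≃ₗ[(AlgSp.OEt ((AlgSp.yon S).obj W)).obj.obj (op ((AlgSp.EtOver.bc hg).obj (Tid V)))]
          Sec Q ((AlgSp.EtOver.bc hg).obj (Tid V))) ∧
      ∃ e : ∀ N, (Q ⟶ N) ≃ (cokernel r ⟶ (AlgSp.pushModEt hg).obj N),
        ∀ {N N'} (φ : Q ⟶ N) (k : N ⟶ N'), e N' (φ ≫ k) = e N φ ≫ (AlgSp.pushModEt hg).map k := by
  let η := etaFree hg J
  let r' := (freePushEquiv hg I (AlgSp.freeModEt ((AlgSp.yon S).obj W) J)).symm (r ≫ η)
  have hI' := qc_free (X := (AlgSp.yon S).obj W) I
  have hJ' := qc_free (X := (AlgSp.yon S).obj W) J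
  refine ⟨cokernel r', qc_cokernel r' hI' hJ', ?_, ?_⟩
  · let T := Tid V
    let T' := (AlgSp.EtOver.bc hg).obj (Tid V)
    letI := (rπ hg (Tid V)).toAlgebra
    let R := (AlgSp.OEt ((AlgSp.yon S).obj V)).obj.obj (op T)
    let A := (AlgSp.OEt ((AlgSp.yon S).obj W)).obj.obj (op T')
    let bI := freeBasis I hV
    let bJ := freeBasis J hV
    let bI' := freeBasis I hT
    let bJ' := freeBasis J hT
    let G₁ := (bI.baseChange A).equiv bI' (Equiv.refl _)
    let G₀ := (bJ.baseChange A).equiv bJ' (Equiv.refl _)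
    obtain ⟨hπs, hπe⟩ := cokernel_sections r (qc_free I) (qc_free J) hV
    obtain ⟨hπs', hπe'⟩ := cokernel_sections r' hI' hJ' hT
    let rT : Sec (AlgSp.freeModEt _ I) T →ₗ[R] Sec (AlgSp.freeModEt _ J) T :=
      ((evalC (AlgSp.OEt ((AlgSp.yon S).obj V)).obj T).map r.val).hom
    let rT' : Sec (AlgSp.freeModEt _ I) T' →ₗ[A] Sec (AlgSp.freeModEt _ J) T' :=
      ((evalC (AlgSp.OEt ((AlgSp.yon S).obj W)).obj T').map r'.val).hom
    letI : Module R (Sec (AlgSp.freeModEt ((AlgSp.yon S).obj W) J) T') := Module.compHom _ (rπ hg (Tid V))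
    haveI : IsScalarTower R A (Sec (AlgSp.freeModEt ((AlgSp.yon S).obj W) J) T') :=
      IsScalarTower.of_algebraMap_smul fun _ _ => rfl
    let ηT : Sec (AlgSp.freeModEt ((AlgSp.yon S).obj V) J) T →ₗ[R] Sec (AlgSp.freeModEt ((AlgSp.yon S).obj W) J) T' :=
      { toFun := fun x => ((evalC (AlgSp.OEt ((AlgSp.yon S).obj V)).obj T).map η.val) x
        map_add' := fun a b => map_add ((evalC (AlgSp.OEt ((AlgSp.yon S).obj V)).obj T).map η.val).hom a b
        map_smul' := fun c a => map_smul ((evalC (AlgSp.OEt ((AlgSp.yon S).obj V)).obj T).map η.val).hom c a }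
    have hη : ∀ j, ηT (eSec J T j) = eSec J T' j := fun j => app_freePushEquiv hg J (𝟙 _) j
    have hG : ∀ x, G₀ ((1 : A) ⊗ₜ[R] x) = ηT x := by
      intro x
      refine LinearMap.congr_fun (f := (G₀.toLinearMap.restrictScalars R) ∘ₗ TensorProduct.mk R A _ 1) (g := ηT) ?_ x
      refine bJ.ext fun j => ?_
      show G₀ ((1 : A) ⊗ₜ[R] bJ j) = ηT (bJ j)
      rw [← Module.Basis.baseChange_apply, Module.Basis.equiv_apply, Equiv.refl_apply, freeBasis_apply,
        freeBasis_apply, hη]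
    refine nonempty_equiv_of_presentations rT _ hπs hπe rT' _ hπs' hπe' G₁ G₀ ((bI.baseChange A).ext fun i => ?_)
    show G₀ (rT.baseChange A (bI.baseChange A i)) = rT' (G₁ (bI.baseChange A i))
    rw [Module.Basis.equiv_apply, Equiv.refl_apply, Module.Basis.baseChange_apply, LinearMap.baseChange_tmul, hG,
      freeBasis_apply, freeBasis_apply]
    have h : freePushEquiv hg I _ r' = r ≫ η := Equiv.apply_symm_apply _ _
    refine Eq.trans ?_ (app_freePushEquiv hg I r' i)
    rw [h]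
    rfl
  · have key : ∀ {N} (φ : AlgSp.freeModEt ((AlgSp.yon S).obj W) J ⟶ N),
        freePushEquiv hg I N (r' ≫ φ) = r ≫ freePushEquiv hg J N φ := fun {N} φ => by
      rw [freePushEquiv_comp, Equiv.apply_symm_apply, Category.assoc]
      exact congrArg (r ≫ ·) ((freePushEquiv_comp hg J (𝟙 _) φ).symm.trans (by rw [Category.id_comp]))
    have hz : ∀ N, freePushEquiv hg I N 0 = 0 := fun N => by
      have := freePushEquiv_comp hg I (0 : AlgSp.freeModEt ((AlgSp.yon S).obj W) I ⟶ N) (0 : N ⟶ N)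
      rwa [comp_zero, Functor.map_zero, comp_zero] at this
    refine ⟨fun N =>
      { toFun := fun φ => cokernel.desc r (freePushEquiv hg J N (cokernel.π r' ≫ φ)) (by
          rw [← key, ← Category.assoc, cokernel.condition, zero_comp, hz])
        invFun := fun ψ => cokernel.desc r' ((freePushEquiv hg J N).symm (cokernel.π r ≫ ψ)) (by
          apply (freePushEquiv hg I N).injective
          rw [key, Equiv.apply_symm_apply, ← Category.assoc, cokernel.condition, zero_comp, hz])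
        left_inv := fun φ => coequalizer.hom_ext (by
          rw [cokernel.π_desc, cokernel.π_desc, Equiv.symm_apply_apply])
        right_inv := fun ψ => coequalizer.hom_ext (by
          rw [cokernel.π_desc, cokernel.π_desc, Equiv.apply_symm_apply]) }, fun {N N'} φ k => ?_⟩
    refine coequalizer.hom_ext ?_
    show cokernel.π r ≫ cokernel.desc r _ _ = cokernel.π r ≫ cokernel.desc r _ _ ≫ _
    rw [cokernel.π_desc, cokernel.π_desc_assoc, ← Category.assoc, freePushEquiv_comp]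

end Term

section Main

variable {X Y : AlgSp.Sp S} {f : X ⟶ Y} (hf : AlgSp.Representable f)
  [(SheafOfModules.pushforward.{u + 1} (AlgSp.bcRingHom hf)).IsRightAdjoint]

set_option maxHeartbeats 6400000 in
/-- Sections of inverse images over affine base changes are base changes of sections. -/
theorem exists_pull_sections {G : AlgSp.ModEt Y} (hG : QC G) {E : AlgSp.EtOver Y} (hE : Aff Y E)
    (hW : Aff X ((AlgSp.EtOver.bc hf).obj E)) :
    ∃ (T : AlgSp.EtOver X) (j : T ⟶ (AlgSp.EtOver.bc hf).obj E), IsIso j.hom.left.left ∧ Aff X T ∧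
      letI := ((rh (AlgSp.OEt X).obj j).comp (rπ hf E)).toAlgebra
      Nonempty ((AlgSp.OEt X).obj.obj (op T) ⊗[(AlgSp.OEt Y).obj.obj (op E)] Sec G E
        ≃ₗ[(AlgSp.OEt X).obj.obj (op T)] Sec ((AlgSp.pullModEt hf).obj G) T) := by
  let V := E.obj.left
  let q : (AlgSp.yon S).obj V ⟶ Y := E.obj.hom
  have hq : AlgSp.RepWith @AlgebraicGeometry.Etale q := E.property
  let W := (AlgSp.EtOver.bcObj hf E).obj.left
  let p : (AlgSp.yon S).obj W ⟶ X := (AlgSp.EtOver.bcObj hf E).obj.hom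
  have hp : AlgSp.RepWith @AlgebraicGeometry.Etale p := (AlgSp.EtOver.bcObj hf E).property
  let g : (AlgSp.yon S).obj W ⟶ (AlgSp.yon S).obj V := (AlgSp.yon S).map (hf.snd E.obj.hom)
  have hg : AlgSp.Representable g := AlgSp.representable_yon_map _
  have hsq : p ≫ f = g ≫ q := hf.w E.obj.hom
  have he : AlgSp.Representable (p ≫ f) := MorphismProperty.IsStableUnderComposition.comp_mem _ _ hp.1 hf
  obtain ⟨P⟩ := nonempty_presentation (O := AlgSp.OEt ((AlgSp.yon S).obj V)) (affSite _) (isTerminalTid V)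
    (qc_restr hq hG) (show Aff _ (Tid V) from hE)
  let r : AlgSp.freeModEt ((AlgSp.yon S).obj V) P.relations.I ⟶ AlgSp.freeModEt ((AlgSp.yon S).obj V) P.generators.I :=
    P.relations.π ≫ kernel.ι P.generators.π
  let i : cokernel r ≅ (restrMod hq).obj G := (colimit.isColimit _).coconePointUniqueUpToIso P.isColimit
  let T₀ := (AlgSp.EtOver.bc hg).obj (Tid V)
  let ι₀ : T₀ ≅ Tid W := (isTerminalBcTid hg).uniqueUpToIso (isTerminalTid W)
  have hT₀ : Aff _ T₀ := by
    haveI : IsAffine ((AlgSp.EtOver.toScheme ((AlgSp.yon S).obj W)).obj (Tid W)) := hW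
    exact IsAffine.of_isIso ((AlgSp.EtOver.toScheme _).mapIso ι₀).hom
  let T : AlgSp.EtOver X := (compE hp).obj T₀
  let j₀ := (AlgSp.yon S).preimage T₀.obj.hom
  let j : T ⟶ (AlgSp.EtOver.bc hf).obj E := AlgSp.EtOver.homMk j₀ (by
    show (AlgSp.yon S).map j₀ ≫ p = T₀.obj.hom ≫ p
    rw [(AlgSp.yon S).map_preimage])
  have hj₀ : j₀ = ι₀.hom.hom.left := (AlgSp.yon S).map_injective (by
    rw [(AlgSp.yon S).map_preimage]
    exact ((Category.comp_id _).symm.trans (AlgSp.EtOver.w ι₀.hom)).symm)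
  have hjiso : IsIso j.hom.left.left := by
    show IsIso j₀.left
    rw [hj₀]
    exact inferInstanceAs (IsIso ((AlgSp.EtOver.toScheme _).mapIso ι₀).hom)
  have hsnd : hg.snd (Tid V).obj.hom = j₀ ≫ hf.snd E.obj.hom := (AlgSp.yon S).map_injective (by
    rw [Functor.map_comp, (AlgSp.yon S).map_preimage]
    exact (Category.comp_id _).symm.trans (hg.w (Tid V).obj.hom).symm)
  refine ⟨T, j, hjiso, hT₀, ?_⟩
  obtain ⟨Q, hQ, ⟨ψ⟩, e, he'⟩ := exists_pull_coker_sec hg r hE hT₀
  let c : AlgSp.pushModEt hg ⋙ AlgSp.pushModEt hq.1 ≅ AlgSp.pushModEt hp.1 ⋙ AlgSp.pushModEt hf :=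
    pushCompIso hg hq.1 he hsq.symm ≪≫ (pushCompIso hp.1 hf he rfl).symm
  let k := isoOfCorep ((AlgSp.pullPushAdjModEt hf).comp (restrAdj hp)) (restrAdj hq) c G i e he'
  have hρ : (rπ hg (Tid V) : _ →+* _) = (rh (AlgSp.OEt X).obj j).comp (rπ hf E) := by
    refine RingHom.ext fun a => ?_
    obtain ⟨a, rfl⟩ := (upEquiv Y E).surjective a
    refine congrArg (upEquiv X T) ?_
    show (hg.snd (Tid V).obj.hom).left.appTop a = j₀.left.appTop ((hf.snd E.obj.hom).left.appTop a)
    rw [hsnd, Over.comp_left, Scheme.Hom.comp_appTop]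
    rfl
  let idE : E ⟶ (compE hq).obj (Tid V) := AlgSp.EtOver.homMk (𝟙 _) (by
    show (AlgSp.yon S).map (𝟙 _) ≫ (𝟙 _ ≫ q) = q
    simp)
  haveI : IsIso idE := by
    refine ⟨AlgSp.EtOver.homMk (𝟙 _) ?_, AlgSp.EtOver.hom_ext _ _ (Category.id_comp _),
      AlgSp.EtOver.hom_ext _ _ (Category.id_comp _)⟩
    show (AlgSp.yon S).map (𝟙 _) ≫ q = 𝟙 _ ≫ q
    simp
  let iV : Sec (cokernel r) (Tid V) ≃ₗ[(AlgSp.OEt ((AlgSp.yon S).obj V)).obj.obj (op (Tid V))]
      Sec ((restrMod hq).obj G) (Tid V) :=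
    ((evalC (AlgSp.OEt ((AlgSp.yon S).obj V)).obj (Tid V)).mapIso ((SheafOfModules.forget _).mapIso i)).toLinearEquiv
  have hidb : Function.Bijective (fun x : Sec G ((compE hq).obj (Tid V)) =>
      (show Sec G E from res (O := (AlgSp.OEt Y).obj) G.val idE x)) :=
    ConcreteCategory.bijective_of_isIso (G.val.presheaf.map idE.op)
  letI : Module ((AlgSp.OEt ((AlgSp.yon S).obj V)).obj.obj (op (Tid V))) (Sec G E) :=
    inferInstanceAs (Module ((AlgSp.OEt Y).obj.obj (op E)) (Sec G E))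
  let iE : Sec ((restrMod hq).obj G) (Tid V) ≃ₗ[(AlgSp.OEt ((AlgSp.yon S).obj V)).obj.obj (op (Tid V))] Sec G E :=
    LinearEquiv.ofBijective
      (show Sec ((restrMod hq).obj G) (Tid V) →ₗ[(AlgSp.OEt ((AlgSp.yon S).obj V)).obj.obj (op (Tid V))] Sec G E from
      { toFun := fun x => (show Sec G E from res (O := (AlgSp.OEt Y).obj) G.val idE x)
        map_add' := fun x y => map_add (G.val.presheaf.map idE.op).hom x y
        map_smul' := fun c x => (G.val.map_smul idE.op c x).trans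
          (congrArg (fun d : (AlgSp.OEt Y).obj.obj (op E) => d • (show Sec G E from res (O := (AlgSp.OEt Y).obj) G.val idE x)) (by
          obtain ⟨c, rfl⟩ := (upEquiv Y E).surjective c
          show (upEquiv Y E) ((𝟙 V : V ⟶ V).left.appTop c) = upEquiv Y E c
          rw [Over.id_left, Scheme.Hom.id_appTop]
          rfl)) }) hidb
  let iW : Sec Q T₀ ≃ₗ[(AlgSp.OEt ((AlgSp.yon S).obj W)).obj.obj (op T₀)]
      Sec ((restrMod hp).obj ((AlgSp.pullModEt hf).obj G)) T₀ :=
    ((evalC (AlgSp.OEt ((AlgSp.yon S).obj W)).obj T₀).mapIso ((SheafOfModules.forget _).mapIso k)).toLinearEquiv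
  rw [← hρ]
  letI := (rπ hg (Tid V)).toAlgebra
  exact ⟨(LinearEquiv.baseChange ((AlgSp.OEt ((AlgSp.yon S).obj V)).obj.obj (op (Tid V)))
    ((AlgSp.OEt ((AlgSp.yon S).obj W)).obj.obj (op T₀)) _ _ (iV ≪≫ₗ iE)).symm ≪≫ₗ (ψ ≪≫ₗ iW)⟩

end Main

end Groth.Agent.AlgSpQC

end
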