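import Groth.Agent.AlgSpQC.Pull
import Groth.Agent.ASp.LocP

/-!
# Quasi-coherence along étale charts
-/

set_option autoImplicit false
set_option linter.style.haveILetI false
set_option linter.unusedSectionVars false
set_option backward.isDefEq.respectTransparency false
set_option backward.isDefEq.respectTransparency.types false
set_option maxHeartbeats 800000

universe u

open CategoryTheory Limits AlgebraicGeometry Opposite

noncomputable section

namespace Groth.Agent.AlgSpQC

variable {S : Scheme.{u}} {X Y : AlgSp.Sp S} {p : Y ⟶ X} (hp : AlgSp.RepWith @AlgebraicGeometry.Etale p)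

theorem qc_of_restr (hs : AlgSp.RepWith @Surjective p) {M : AlgSp.ModEt X} (h : QC ((restrMod hp).obj M)) : QC M := by
  refine isBC_of_local (O := (AlgSp.OEt X).obj) (affSite X) M.val M.isSheaf fun E _ => ?_
  let W := (compE hp).obj ((AlgSp.EtOver.bc hp.1).obj E)
  let c : W ⟶ E := (compAdj hp).counit.app E
  refine ⟨Sieve.ofArrows (fun _ : PUnit.{1} => W) (fun _ => c), AlgSp.ofArrows_mem_etTop _ _ fun x => ?_,
    fun Z g hg hZ => ?_⟩
  · haveI : Surjective (hp.1.snd E.obj.hom).left := hs.2 _ _ _ (hp.1.isPullback E.obj.hom)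
    obtain ⟨y, hy⟩ := (hp.1.snd E.obj.hom).left.surjective x
    exact ⟨PUnit.unit, y, (congrArg (fun k : W.obj.left ⟶ E.obj.left => k.left y) (compAdj_counit_left hp E)).trans hy⟩
  · obtain ⟨i, a, -⟩ := Sieve.mem_ofArrows_iff _ _ _ |>.1 hg
    exact fun A B f b hA hB => isBCUnder_of_restr hp h ((AlgSp.EtOver.bc hp.1).obj E) f (b ≫ a) hA hB

theorem isQuasicoherent_pullModEt [(SheafOfModules.pushforward.{u + 1} (AlgSp.bcRingHom hp.1)).IsRightAdjoint]
    (M : AlgSp.ModEt X) [M.IsQuasicoherent] : ((AlgSp.pullModEt hp.1).obj M).IsQuasicoherent := by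
  rw [isQuasicoherent_iff]
  exact BC.of_iso (O := AlgSp.OEt Y) ((pullIso hp).app M).symm (qc_restr hp ((isQuasicoherent_iff M).1 inferInstance))

theorem isQuasicoherent_of_pullModEt [(SheafOfModules.pushforward.{u + 1} (AlgSp.bcRingHom hp.1)).IsRightAdjoint]
    (hs : AlgSp.RepWith @Surjective p) (M : AlgSp.ModEt X) (h : ((AlgSp.pullModEt hp.1).obj M).IsQuasicoherent) :
    M.IsQuasicoherent := by
  rw [isQuasicoherent_iff] at h ⊢
  exact qc_of_restr hp hs (BC.of_iso (O := AlgSp.OEt Y) ((pullIso hp).app M) h)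

theorem repWith_etale_of_isEtaleMor {X Y : AlgSp.Sp S} {f : X ⟶ Y} (hY : AlgSp.IsAlgSpace Y)
    (hrep : AlgSp.Representable f) (hf : AlgSp.IsEtaleMor f) : AlgSp.RepWith @AlgebraicGeometry.Etale f :=
  ASp.repWith_of_locP (P := @AlgebraicGeometry.Etale) hY hrep fun _ _ a b h ha hb e => ASp.etale_of_comp_eq (hf a ha) hb e.symm

theorem preservesFiniteLimits_pullModEt [(SheafOfModules.pushforward.{u + 1} (AlgSp.bcRingHom hp.1)).IsRightAdjoint] :
    PreservesFiniteLimits (AlgSp.pullModEt hp.1) := by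
  haveI : PreservesFiniteLimits (restrMod hp) := by
    haveI : PreservesFiniteLimits (restrMod hp ⋙ AlgSp.toAbEt Y) :=
      inferInstanceAs (PreservesFiniteLimits (AlgSp.toAbEt X ⋙
        (compE hp).sheafPushforwardContinuous AddCommGrpCat.{u + 1} (AlgSp.etTop Y) (AlgSp.etTop X)))
    exact preservesFiniteLimits_of_reflects_of_preserves (restrMod hp) (AlgSp.toAbEt Y)
  exact preservesFiniteLimits_of_natIso (pullIso hp).symm

end Groth.Agent.AlgSpQC

end
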