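import Groth.Agent.AlgSpQC.CohExtGen

/-!
# No coherent submodules in the quotient by the union of coherent submodules
-/

set_option autoImplicit false
set_option linter.style.haveILetI false
set_option linter.unusedSectionVars false
set_option backward.isDefEq.respectTransparency false
set_option backward.isDefEq.respectTransparency.types false
set_option maxHeartbeats 800000

universe u

open CategoryTheory Limits AlgebraicGeometry Opposite

noncomputable section

namespace Groth.Agent.AlgSpQC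

variable {S : Scheme.{u}} [QuasiSeparatedSpace ↥S] {X : AlgSp.Sp S}

theorem cokernel_fpSub_surjective (hN : AlgSp.IsLocNoethSp X) {M : AlgSp.ModEt X} (hM : QC M) {E : AlgSp.EtOver X}
    (hE : Aff X E) : Function.Surjective (appS (cokernel.π ((fpSub hN M).ι hM)) E) :=
  (cokernel_sections ((fpSub hN M).ι hM) ((fpSub hN M).qc hM) hM hE).1

theorem cokernel_fpSub_eq_zero_iff (hN : AlgSp.IsLocNoethSp X) {M : AlgSp.ModEt X} (hM : QC M) {E : AlgSp.EtOver X}
    (hE : Aff X E) (x : Sec M E) : appS (cokernel.π ((fpSub hN M).ι hM)) E x = 0 ↔ InFP E x :=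
  ((cokernel_sections ((fpSub hN M).ι hM) ((fpSub hN M).qc hM) hM hE).2 x).trans
    (Set.ext_iff.1 ((fpSub hN M).range_ι hM hE) x)

/-- Defects of lifts of generators. -/
theorem exists_defect (hN : AlgSp.IsLocNoethSp X) {M L : AlgSp.ModEt X} (hM : QC M) (hL : QC L)
    (ι : L ⟶ cokernel ((fpSub hN M).ι hM)) {T T' A : AlgSp.EtOver X} (gl : A ⟶ T) (gr : A ⟶ T') (hT' : Aff X T')
    (hA : Aff X A) {n : ℕ} {l : Fin n → Sec L T'} (hl : Submodule.span ((AlgSp.OEt X).obj.obj (op T')) (Set.range l) = ⊤)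
    {k : Fin n → Sec M T'} (hk : ∀ c, appS (cokernel.π ((fpSub hN M).ι hM)) T' (k c) = appS ι T' (l c))
    (x : Sec L T) (y : Sec M T) (hy : appS (cokernel.π ((fpSub hN M).ι hM)) T y = appS ι T x) :
    ∃ z ∈ Submodule.span ((AlgSp.OEt X).obj.obj (op A)) (resS M gr '' Set.range k), InFP A (resS M gl y - z) := by
  let pr := cokernel.π ((fpSub hN M).ι hM)
  have h := Submodule.mem_map_of_mem (f := appS ι A) (mem_span_res hL gr hT' hA hl (resS L gl x))
  rw [Submodule.map_span] at h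
  have e : appS ι A '' (resS L gr '' Set.range l) = appS pr A '' (resS M gr '' Set.range k) := by
    rw [← Set.range_comp, ← Set.range_comp, ← Set.range_comp, ← Set.range_comp]
    refine congrArg Set.range (funext fun c => ?_)
    exact (appS_res ι gr (l c)).trans ((congrArg (resS _ gr) (hk c).symm).trans (appS_res pr gr (k c)).symm)
  have e' : appS ι A (resS L gl x) = appS pr A (resS M gl y) :=
    (appS_res ι gl x).trans ((congrArg (resS _ gl) hy.symm).trans (appS_res pr gl y).symm)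
  rw [e, ← Submodule.map_span, e'] at h
  obtain ⟨z, hz, hze⟩ := h
  exact ⟨z, hz, (cokernel_fpSub_eq_zero_iff hN hM hA _).1 (by rw [map_sub, hze, sub_self])⟩

/-- Compatibility of the enlarged family of generators. -/
theorem mem_span_of_defect {H M : AlgSp.ModEt X} (hH : QC H) (φ : H ⟶ M) {T T' A : AlgSp.EtOver X} (gl : A ⟶ T)
    (gr : A ⟶ T') (hT' : Aff X T') (hA : Aff X A) {n' : ℕ} {v : Fin n' → Sec H T'}
    (hv : Submodule.span ((AlgSp.OEt X).obj.obj (op T')) (Set.range v) = ⊤) {P : Set (Sec M T')}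
    (hP : ∀ c, appS φ T' (v c) ∈ P) (w : Sec H A) :
    appS φ A w ∈ Submodule.span ((AlgSp.OEt X).obj.obj (op A)) (resS M gr '' P) := by
  have h := Submodule.mem_map_of_mem (f := appS φ A) (mem_span_res hH gr hT' hA hv w)
  rw [Submodule.map_span] at h
  refine Submodule.span_mono ?_ h
  rintro _ ⟨_, ⟨_, ⟨c, rfl⟩, rfl⟩, rfl⟩
  exact ⟨_, hP c, (appS_res φ gr (v c)).symm⟩

theorem mem_span_of_sub {M : AlgSp.ModEt X} {T' A : AlgSp.EtOver X} {gr : A ⟶ T'} {P₀ P : Set (Sec M T')}
    (hsub : P₀ ⊆ P) {u z e : Sec M A} (he : e = u - z)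
    (he' : e ∈ Submodule.span ((AlgSp.OEt X).obj.obj (op A)) (resS M gr '' P))
    (hz : z ∈ Submodule.span ((AlgSp.OEt X).obj.obj (op A)) (resS M gr '' P₀)) :
    u ∈ Submodule.span ((AlgSp.OEt X).obj.obj (op A)) (resS M gr '' P) := by
  have h := Submodule.add_mem _ he' (Submodule.span_mono (Set.image_mono hsub) hz)
  rw [he, sub_add_cancel] at h
  exact h

theorem exists_chart_family (hX : AlgSp.IsAlgSpace X) (hqc : AlgSp.IsQuasiCompactSp X) :
    ∃ (n : ℕ) (V : Fin n → Over S) (q : ∀ i, (AlgSp.yon S).obj (V i) ⟶ X) (hq : ∀ i, AlgSp.RepWith @Etale (q i)),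
      (∀ i, IsAffine (V i).left) ∧ ∀ x, ∃ i, x ∈ Set.range (AlgSp.Points.ofPt ((compE (hq i)).obj (Tid (V i))).obj.hom) := by
  haveI := ASp.compactSpace_of_isQuasiCompactSp hqc
  choose E₀ z₀ hE₀ hz₀ using exists_affine_chart hX
  obtain ⟨t, ht⟩ := isCompact_univ.elim_finite_subcover (fun x => Set.range (AlgSp.Points.ofPt (E₀ x).obj.hom))
    (fun x => (ASp.isOpenMap_ofPt_of_etale (E₀ x).property).isOpen_range)
    (fun x _ => Set.mem_iUnion.2 ⟨x, z₀ x, hz₀ x⟩)
  refine ⟨t.card, fun i => (E₀ (t.equivFin.symm i).1).obj.left, fun i => (E₀ (t.equivFin.symm i).1).obj.hom,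
    fun i => (E₀ (t.equivFin.symm i).1).property, fun i => hE₀ _, fun x => ?_⟩
  obtain ⟨i, hi, hx⟩ := Set.mem_iUnion₂.1 (ht (Set.mem_univ x))
  refine ⟨t.equivFin ⟨i, hi⟩, ?_⟩
  show x ∈ Set.range (AlgSp.Points.ofPt (𝟙 _ ≫ (E₀ (t.equivFin.symm (t.equivFin ⟨i, hi⟩)).1).obj.hom))
  rw [Category.id_comp, Equiv.symm_apply_apply]
  exact hx

theorem exists_finite_cover_chart (hX : AlgSp.IsAlgSpace X) (hqs : AlgSp.IsQuasiSeparatedSp X) (hN : AlgSp.IsLocNoethSp X)
    {V : Over S} (hV : IsAffine V.left) {q : (AlgSp.yon S).obj V ⟶ X} (hq : AlgSp.RepWith @Etale q)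
    (T : AlgSp.EtOver X) (hT : Aff X T) :
    ∃ (m : ℕ) (B : Fin m → AlgSp.EtOver ((AlgSp.yon S).obj V)) (b : ∀ p, B p ⟶ (AlgSp.EtOver.bc hq.1).obj T),
      (∀ p, Aff _ (B p)) ∧ Sieve.ofArrows B b ∈ AlgSp.etTop _ ((AlgSp.EtOver.bc hq.1).obj T) := by
  haveI := (qcqs_chart hX hqs hN hV hq T hT).1
  exact exists_finite_affine _

set_option maxHeartbeats 1600000 in
/-- Coherent submodules of the quotient by the union of coherent submodules vanish. -/
theorem isZero_of_fp_sub_quotient (hX : AlgSp.IsAlgSpace X) (hqc : AlgSp.IsQuasiCompactSp X)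
    (hqs : AlgSp.IsQuasiSeparatedSp X) (hN : AlgSp.IsLocNoethSp X) {M : AlgSp.ModEt X} (hM : QC M)
    {L : AlgSp.ModEt X} [L.IsFinitePresentation] (ι : L ⟶ cokernel ((fpSub hN M).ι hM)) [Mono ι] : IsZero L := by
  classical
  have hL := (isQuasicoherent_iff L).1 inferInstance
  obtain ⟨N, V, q, hq, hV, hcov⟩ := exists_chart_family hX hqc
  let T : Fin N → AlgSp.EtOver X := fun i => (compE (hq i)).obj (Tid (V i))
  have hT : ∀ i, Aff X (T i) := hV
  choose n l hl using fun i => (finite_sec L hL (hT i)).exists_fin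
  choose k hk using fun i (a : Fin (n i)) => cokernel_fpSub_surjective hN hM (hT i) (appS ι (T i) (l i a))
  choose m B b hBa hBcov using fun i j : Fin N =>
    exists_finite_cover_chart hX hqs hN (hV j) (hq j) (T i) (hT i)
  choose y hy hyd using fun (i j : Fin N) (p : Fin (m i j)) (c : Fin (n i)) =>
    exists_defect hN hM hL ι
      ((compE (hq j)).map (b i j p) ≫ (compAdj (hq j)).counit.app (T i))
      ((compE (hq j)).map ((isTerminalTid (V j)).from (B i j p)))
      (hT j) (hBa i j p) (hl j) (hk j) (l i c) (k i c) (hk i c)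
  obtain ⟨H, φ, hH, hHd⟩ := exists_common_fp hN M _ _
    (fun (a : Σ ij : Fin N × Fin N, Fin (m ij.1 ij.2) × Fin (n ij.1)) => hyd a.1.1 a.1.2 a.2.1 a.2.2)
  have hHq := (haveI := hH; (isQuasicoherent_iff H).1 inferInstance)
  choose n' v hv using fun i => (haveI := hH; finite_sec H hHq (hT i)).exists_fin
  let gens : ∀ i, ULift.{u + 1} (Fin (n i) ⊕ Fin (n' i)) → Sec M (T i) := fun i c =>
    Sum.elim (k i) (fun c => appS φ (T i) (v i c)) c.down
  obtain ⟨K, κ, hκ, hKfp, hin⟩ := exists_fp_of_gens hX hqs hN hM V hV q hq hcov _ gens m B b hBa hBcov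
    (fun i j p c => by
      have hφ := mem_span_of_defect hHq φ
        ((compE (hq j)).map (b i j p) ≫ (compAdj (hq j)).counit.app (T i))
        ((compE (hq j)).map ((isTerminalTid (V j)).from (B i j p))) (hT j) (hBa i j p) (hv j)
        (P := Set.range (gens j)) (fun c' => ⟨⟨Sum.inr c'⟩, rfl⟩)
      obtain ⟨c | c⟩ := c
      · obtain ⟨w, hw⟩ := hHd ⟨(i, j), p, c⟩
        have hsub : Set.range (k j) ⊆ Set.range (gens j) := by rintro _ ⟨a, rfl⟩; exact ⟨⟨Sum.inl a⟩, rfl⟩
        refine Set.mem_of_eq_of_mem (congrArg (resS M _) (show gens i ⟨Sum.inl c⟩ = k i c from rfl)) ?_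
        refine mem_span_of_sub (z := y i j p c) (e := appS φ ((compE (hq j)).obj (B i j p)) w) hsub ?_ (hφ w)
          (hy i j p c)
        dsimp only at hw
        exact hw
      · refine Set.mem_of_eq_of_mem (congrArg (resS M _) (show gens i ⟨Sum.inr c⟩ = appS φ (T i) (v i c) from rfl)) ?_
        exact Set.mem_of_eq_of_mem (appS_res φ _ (v i c)).symm (hφ _))
  have hl0 : ∀ i a, l i a = 0 := fun i a => by
    obtain ⟨w, hw⟩ := hin i ⟨Sum.inl a⟩
    refine injective_app ι (T i) ((hk i a).symm.trans ?_)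
    exact ((cokernel_fpSub_eq_zero_iff hN hM (hT i) _).2 ⟨K, κ, hKfp, w, hw⟩).trans (map_zero (appS ι (T i))).symm
  have hsub : ∀ i, Subsingleton (Sec L (T i)) := fun i => by
    refine subsingleton_of_forall_eq 0 fun a => ?_
    have h1 : a ∈ Submodule.span ((AlgSp.OEt X).obj.obj (op (T i))) (Set.range (l i)) := (hl i).symm ▸ Submodule.mem_top
    rw [Submodule.span_eq_bot.2 (by rintro _ ⟨c, rfl⟩; exact hl0 i c)] at h1
    exact h1
  obtain ⟨Z₀, hZ₀⟩ := HasZeroObject.zero (C := AlgSp.ModEt X)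
  haveI : Mono (hZ₀.to_ L) := hZ₀.mono _
  haveI := isIso_of_surjective_on_cover (hZ₀.to_ L)
    ((isQuasicoherent_iff _).1 (haveI := isFinitePresentation_zero hN hZ₀; inferInstance))
    hL T hT hcov fun i a => ⟨0, (hsub i).elim _ _⟩
  exact hZ₀.of_iso (asIso (hZ₀.to_ L)).symm

end Groth.Agent.AlgSpQC

end
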