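import Groth.Agent.AlgSpQC.CohExtSpan

/-!
# Coherent submodules with prescribed sections on a finite family of charts
-/

set_option autoImplicit false
set_option linter.style.haveILetI false
set_option linter.unusedSectionVars false
set_option backward.isDefEq.respectTransparency false
set_option backward.isDefEq.respectTransparency.types false
set_option maxHeartbeats 800000

universe u

open CategoryTheory Limits AlgebraicGeometry Opposite

noncomputable section

namespace Groth.Agent.AlgSpQC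

variable {S : Scheme.{u}} [QuasiSeparatedSpace ↥S] {X : AlgSp.Sp S}

theorem qc_push_chart (hX : AlgSp.IsAlgSpace X) (hqs : AlgSp.IsQuasiSeparatedSp X) (hN : AlgSp.IsLocNoethSp X)
    {V : Over S} (hV : IsAffine V.left) {q : (AlgSp.yon S).obj V ⟶ X} (hq : AlgSp.RepWith @Etale q)
    {C : AlgSp.ModEt ((AlgSp.yon S).obj V)} (hC : QC C) : QC ((AlgSp.pushModEt hq.1).obj C) :=
  qc_push_qcqs hq.1 (fun E hE => (qcqs_chart hX hqs hN hV hq E hE).1)
    (fun E hE => (qcqs_chart hX hqs hN hV hq E hE).2) hC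

theorem finite_of_range_subset (hN : AlgSp.IsLocNoethSp X) {M K : AlgSp.ModEt X} (κ : K ⟶ M) [Mono κ]
    {T : AlgSp.EtOver X} (hT : Aff X T) {J : Type (u + 1)} [Finite J] (g : J → Sec M T)
    (h : ∀ w, appS κ T w ∈ Submodule.span ((AlgSp.OEt X).obj.obj (op T)) (Set.range g)) :
    Module.Finite ((AlgSp.OEt X).obj.obj (op T)) (Sec K T) := by
  haveI := isNoetherianRing_aff hN hT
  haveI : Module.Finite ((AlgSp.OEt X).obj.obj (op T))
      ↥(Submodule.span ((AlgSp.OEt X).obj.obj (op T)) (Set.range g)) :=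
    Module.Finite.span_of_finite ((AlgSp.OEt X).obj.obj (op T)) (Set.finite_range g)
  exact Module.Finite.of_injective ((appS κ T).codRestrict _ h)
    fun a a' e => injective_app κ T (congrArg Subtype.val e)

theorem isFinitePresentation_of_finite_cover (hN : AlgSp.IsLocNoethSp X) {K : AlgSp.ModEt X} (hK : QC K)
    {I : Type*} (T : I → AlgSp.EtOver X) (hT : ∀ i, Aff X (T i))
    (hcov : ∀ x, ∃ i, x ∈ Set.range (AlgSp.Points.ofPt (T i).obj.hom))
    (hfin : ∀ i, Module.Finite ((AlgSp.OEt X).obj.obj (op (T i))) (Sec K (T i))) : K.IsFinitePresentation :=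
  isFinitePresentation_of_finite hN hK fun W hW => finite_sec_local hK hW fun w => by
    obtain ⟨i, e, he⟩ := hcov (AlgSp.Points.ofPt W.obj.hom w)
    obtain ⟨U, g, g', u', hU, h1, -⟩ := exists_common_affine he.symm
    haveI := hfin i
    exact ⟨U, g, hU, ⟨u', h1⟩, finite_sec_map hK g' (hT i) hU⟩

/-- Compatible finite sets of sections on a finite family of charts lie in one coherent submodule. -/
theorem exists_fp_of_gens (hX : AlgSp.IsAlgSpace X) (hqs : AlgSp.IsQuasiSeparatedSp X) (hN : AlgSp.IsLocNoethSp X)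
    {M : AlgSp.ModEt X} (hM : QC M) {t : Type} [Finite t] (V : t → Over S) (hV : ∀ i, IsAffine (V i).left)
    (q : ∀ i, (AlgSp.yon S).obj (V i) ⟶ X) (hq : ∀ i, AlgSp.RepWith @Etale (q i))
    (hcov : ∀ x, ∃ i, x ∈ Set.range (AlgSp.Points.ofPt ((compE (hq i)).obj (Tid (V i))).obj.hom))
    (J : t → Type (u + 1)) [∀ i, Finite (J i)] (g : ∀ i, J i → Sec M ((compE (hq i)).obj (Tid (V i))))
    (m : t → t → ℕ) (B : ∀ i j, Fin (m i j) → AlgSp.EtOver ((AlgSp.yon S).obj (V j)))
    (b : ∀ i j p, B i j p ⟶ (AlgSp.EtOver.bc (hq j).1).obj ((compE (hq i)).obj (Tid (V i))))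
    (hB : ∀ i j p, Aff _ (B i j p))
    (hBcov : ∀ i j, Sieve.ofArrows (B i j) (b i j) ∈
      AlgSp.etTop _ ((AlgSp.EtOver.bc (hq j).1).obj ((compE (hq i)).obj (Tid (V i)))))
    (hcomp : ∀ i j p c, resS M ((compE (hq j)).map (b i j p) ≫
        (compAdj (hq j)).counit.app ((compE (hq i)).obj (Tid (V i)))) (g i c) ∈
      Submodule.span ((AlgSp.OEt X).obj.obj (op ((compE (hq j)).obj (B i j p))))
        (resS M ((compE (hq j)).map ((isTerminalTid (V j)).from (B i j p))) '' Set.range (g j))) :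
    ∃ (K : AlgSp.ModEt X) (κ : K ⟶ M), Mono κ ∧ K.IsFinitePresentation ∧
      ∀ i c, g i c ∈ Set.range (appS κ ((compE (hq i)).obj (Tid (V i)))) := by
  choose C π hC hπ using fun j => exists_isSpanKer (hq j) hM (g j)
  obtain ⟨K, κ, hκ, hK, hmem⟩ := exists_kernel_family hM (fun j => (AlgSp.pushModEt (hq j).1).obj (C j))
    (fun j => qc_push_chart hX hqs hN (hV j) (hq j) (hC j))
    (fun j => (restrAdj (hq j)).homEquiv M (C j) (π j))
  haveI := hκ
  have hT : ∀ i, Aff X ((compE (hq i)).obj (Tid (V i))) := hV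
  refine ⟨K, κ, hκ, isFinitePresentation_of_finite_cover hN hK _ hT hcov fun i => ?_, fun i c => ?_⟩
  · exact finite_of_range_subset hN κ (hT i) (g i) fun w =>
      mem_span_of_eq_zero (hq i) (hV i) (hπ i) _ ((hmem _ (hT i) _).1 ⟨w, rfl⟩ i)
  · exact (hmem _ (hT i) _).2 fun j =>
      eq_zero_of_cover (hq j) (hπ j) (g i c) (B i j) (b i j) (hB i j) (hBcov i j) fun p => hcomp i j p c

end Groth.Agent.AlgSpQC

end
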