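import Groth.Agent.AlgSpQC.Site

/-!
# Closure properties of sheaves of modules determined by base change
-/

set_option autoImplicit false
set_option linter.style.haveILetI false
set_option linter.unusedSectionVars false
set_option backward.isDefEq.respectTransparency false
set_option backward.isDefEq.respectTransparency.types false
set_option maxHeartbeats 800000

universe w' w v v' u

open CategoryTheory Limits Opposite

noncomputable section

namespace Groth.Agent.AlgSpQC

section Abstract

variable {A : Type*} [Category A] {B : Type*} [Category B] {F G : A ⥤ B} (τ : F ⟶ G) {K : Type*} [Category K]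
  (D : K ⥤ A) [∀ j, IsIso (τ.app (D.obj j))]

theorem isIso_app_colimit [PreservesColimit D F] [PreservesColimit D G] [HasColimit D] :
    IsIso (τ.app (colimit D)) := by
  let e : D ⋙ F ≅ D ⋙ G := NatIso.ofComponents (fun j => asIso (τ.app (D.obj j))) (fun f => τ.naturality _)
  let hF := isColimitOfPreserves F (colimit.isColimit D)
  let hG := isColimitOfPreserves G (colimit.isColimit D)
  let i := hF.coconePointsIsoOfNatIso hG e
  have h : τ.app (colimit D) = i.hom := hF.hom_ext fun j => by
    refine (τ.naturality (colimit.ι D j)).trans ?_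
    exact (hF.comp_coconePointsIsoOfNatIso_hom hG e j).symm
  rw [h]
  infer_instance

theorem isIso_app_limit [PreservesLimit D F] [PreservesLimit D G] [HasLimit D] :
    IsIso (τ.app (limit D)) := by
  let e : D ⋙ F ≅ D ⋙ G := NatIso.ofComponents (fun j => asIso (τ.app (D.obj j))) (fun f => τ.naturality _)
  let hF := isLimitOfPreserves F (limit.isLimit D)
  let hG := isLimitOfPreserves G (limit.isLimit D)
  let i := hF.conePointsIsoOfNatIso hG e
  have h : τ.app (limit D) = i.hom := hG.hom_ext fun j => by
    refine (τ.naturality (limit.π D j)).symm.trans ?_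
    exact (hF.conePointsIsoOfNatIso_hom_comp hG e j).symm
  rw [h]
  infer_instance

end Abstract

variable {C : Type (u + 1)} [Category.{u} C] {J : GrothendieckTopology C} {O : Sheaf J CommRingCat.{u + 1}}
  {Aff : C → Prop}

/-- The sheaf of rings underlying `O`. -/
abbrev RS (O : Sheaf J CommRingCat.{u + 1}) : Sheaf J RingCat.{u + 1} :=
  (sheafCompose J (forget₂ CommRingCat.{u + 1} RingCat.{u + 1})).obj O

/-- Modules determined on affine objects by base change. -/
def BC (Aff : C → Prop) (M : SheafOfModules.{u + 1} (RS O)) : Prop := IsBC (O := O.obj) Aff M.val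

theorem BC.of_iso {M N : SheafOfModules.{u + 1} (RS O)} (e : M ≅ N) (hM : BC Aff M) : BC Aff N :=
  isBC_of_iso ((SheafOfModules.forget _).mapIso e) hM

theorem bc_unit (O : Sheaf J CommRingCat.{u + 1}) (Aff : C → Prop) : BC Aff (SheafOfModules.unit (RS O)) := by
  intro X Y f _ _
  rw [ConcreteCategory.isIso_iff_bijective]
  let _ := (rh O.obj f).toAlgebra
  have h : ⇑((θ O.obj f).app (SheafOfModules.unit (RS O)).val) =
      ⇑(TensorProduct.AlgebraTensorModule.rid (O.obj.obj (op X)) (O.obj.obj (op Y)) (O.obj.obj (op Y))) := by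
    funext w
    induction w using TensorProduct.induction_on with
    | zero => simp
    | tmul s x =>
      refine (θ_tmul (SheafOfModules.unit (RS O)).val f s x).trans ?_
      let a : O.obj.obj (op Y) := s
      let b : O.obj.obj (op X) := x
      show a * rh O.obj f b = b • a
      rw [mul_comm]
      rfl
    | add a b ha hb =>
      rw [map_add]
      exact (congrArg₂ (· + ·) ha hb).trans (map_add _ a b).symm
  rw [h]
  exact LinearEquiv.bijective _

variable (H : AffSite J O.obj Aff)

include H in
theorem bc_kernel {M N : SheafOfModules.{u + 1} (RS O)} (g : M ⟶ N) (hM : BC Aff M) (hN : BC Aff N) :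
    BC Aff (kernel g) := by
  refine isBC_of_iso (PreservesKernel.iso (SheafOfModules.forget (RS O)) g).symm ?_
  intro X Y f hX hY
  haveI := ModuleCat.preservesFiniteLimits_extendScalars_of_flat.{u + 1} (H.flat f hX hY)
  let D := parallelPair ((SheafOfModules.forget (RS O)).map g) 0
  haveI : ∀ j, IsIso ((θ O.obj f).app (D.obj j)) := by
    rintro (_ | _)
    · exact hM f hX hY
    · exact hN f hX hY
  haveI : PreservesLimit D (evalC O.obj X) :=
    inferInstanceAs (PreservesLimit D (PresheafOfModules.evaluation (RS O).obj (op X)))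
  haveI : PreservesLimit D (evalC O.obj Y) :=
    inferInstanceAs (PreservesLimit D (PresheafOfModules.evaluation (RS O).obj (op Y)))
  exact isIso_app_limit (θ O.obj f) D

variable [HasSheafify J AddCommGrpCat.{u + 1}] [J.WEqualsLocallyBijective AddCommGrpCat.{u + 1}]

/-- Sheafification. -/
abbrev shf : PresheafOfModules.{u + 1} (RS O).obj ⥤ SheafOfModules.{u + 1} (RS O) :=
  PresheafOfModules.sheafification (𝟙 (RS O).obj)

/-- The unit of sheafification. -/
def shfUnit (P : PresheafOfModules.{u + 1} (RS O).obj) : P ⟶ ((shf (O := O)).obj P).val :=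
  (PresheafOfModules.sheafificationAdjunction (𝟙 (RS O).obj)).unit.app P

instance (P : PresheafOfModules.{u + 1} (RS O).obj) :
    Presheaf.IsLocallyInjective J ((PresheafOfModules.toPresheaf _).map (shfUnit P)) :=
  inferInstanceAs (Presheaf.IsLocallyInjective J (CategoryTheory.toSheafify J P.presheaf))

instance (P : PresheafOfModules.{u + 1} (RS O).obj) :
    Presheaf.IsLocallySurjective J ((PresheafOfModules.toPresheaf _).map (shfUnit P)) :=
  inferInstanceAs (Presheaf.IsLocallySurjective J (CategoryTheory.toSheafify J P.presheaf))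

include H in
theorem bc_shf {P : PresheafOfModules.{u + 1} (RS O).obj} (hP : IsBC (O := O.obj) Aff P) :
    BC Aff ((shf (O := O)).obj P) := by
  intro X Y f hX hY
  have hb : ∀ {Z : C}, Aff Z → IsIso ((evalC O.obj Z).map (shfUnit P)) := fun hZ =>
    (ConcreteCategory.isIso_iff_bijective _).2 (@IsBC.bijective_app _ _ O.obj J Aff H P hP ((shf (O := O)).obj P).val ((shf (O := O)).obj P).isSheaf (shfUnit P) (inferInstanceAs (Presheaf.IsLocallyInjective J (CategoryTheory.toSheafify J P.presheaf))) (inferInstanceAs (Presheaf.IsLocallySurjective J (CategoryTheory.toSheafify J P.presheaf))) _ hZ)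
  haveI := hb hX; haveI := hb hY; haveI := hP f hX hY
  have e := (θ O.obj f).naturality (shfUnit P)
  haveI : IsIso ((evalC O.obj X ⋙ ModuleCat.extendScalars (rh O.obj f)).map (shfUnit P)) := by
    rw [Functor.comp_map]; infer_instance
  haveI : IsIso ((evalC O.obj X ⋙ ModuleCat.extendScalars (rh O.obj f)).map (shfUnit P) ≫
      (θ O.obj f).app ((shf (O := O)).obj P).val) := by
    rw [e]; infer_instance
  exact IsIso.of_isIso_comp_left ((evalC O.obj X ⋙ ModuleCat.extendScalars (rh O.obj f)).map (shfUnit P)) _

include H in
theorem bc_colimit {K : Type w} [Category.{w'} K] [HasColimitsOfShape K AddCommGrpCat.{u + 1}]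
    (D : K ⥤ SheafOfModules.{u + 1} (RS O)) (hD : ∀ j, BC Aff (D.obj j)) : BC Aff (colimit D) := by
  let D' := D ⋙ SheafOfModules.forget (RS O)
  haveI : PreservesColimit D' (shf (O := O)) :=
    ((PresheafOfModules.sheafificationAdjunction (𝟙 (RS O).obj)).leftAdjoint_preservesColimits.{w', w}).preservesColimitsOfShape.preservesColimit
  let e : D' ⋙ shf (O := O) ≅ D :=
    Functor.associator _ _ _ ≪≫ Functor.isoWhiskerLeft D
      (asIso (PresheafOfModules.sheafificationAdjunction (𝟙 (RS O).obj)).counit) ≪≫ D.rightUnitor
  refine BC.of_iso (preservesColimitIso (shf (O := O)) D' ≪≫ HasColimit.isoOfNatIso e) (bc_shf H ?_)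
  intro X Y f hX hY
  haveI : PreservesColimit D' (evalC O.obj X ⋙ ModuleCat.extendScalars (rh O.obj f)) := by
    haveI : PreservesColimit D' (evalC O.obj X) :=
      inferInstanceAs (PreservesColimit D' (PresheafOfModules.evaluation (RS O).obj (op X)))
    haveI : PreservesColimit (D' ⋙ evalC O.obj X) (ModuleCat.extendScalars.{u + 1, u + 1, u + 1} (rh O.obj f)) :=
      (ModuleCat.extendRestrictScalarsAdj.{u + 1} (rh O.obj f)).leftAdjoint_preservesColimits.preservesColimitsOfShape.preservesColimit
    exact comp_preservesColimit _ _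
  haveI : PreservesColimit D' (evalC O.obj Y) :=
    inferInstanceAs (PreservesColimit D' (PresheafOfModules.evaluation (RS O).obj (op Y)))
  haveI : ∀ j, IsIso ((θ O.obj f).app (D'.obj j)) := fun j => hD j f hX hY
  exact isIso_app_colimit (θ O.obj f) D'

include H in
theorem bc_cokernel {M N : SheafOfModules.{u + 1} (RS O)} (g : M ⟶ N) (hM : BC Aff M) (hN : BC Aff N) :
    BC Aff (cokernel g) :=
  bc_colimit H (parallelPair g 0) (by rintro (_ | _); exacts [hM, hN])

include H in
theorem bc_free (I : Type (u + 1)) : BC Aff (SheafOfModules.free (R := RS O) I) :=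
  bc_colimit.{u + 1, u + 1} H (Discrete.functor fun _ : I => SheafOfModules.unit (RS O)) fun _ => bc_unit O Aff

include H in
theorem bc_of_presentation {M : SheafOfModules.{u + 1} (RS O)} (p : M.Presentation) : BC Aff M :=
  BC.of_iso ((colimit.isColimit _).coconePointUniqueUpToIso p.isColimit)
    (bc_cokernel H _ (bc_free H _) (bc_free H _))

end Groth.Agent.AlgSpQC

end
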