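import Groth.Agent.AlgSpQC.Local
import Groth.Prelude.Def_AlgSpOX
import Groth.Prelude.Def_AlgSpD

/-!
# The small étale site of an algebraic space as a site with affine objects
-/

set_option autoImplicit false
set_option linter.style.haveILetI false
set_option linter.unusedSectionVars false
set_option backward.isDefEq.respectTransparency false
set_option backward.isDefEq.respectTransparency.types false
set_option maxHeartbeats 800000

universe u

open CategoryTheory Limits AlgebraicGeometry Opposite TensorProduct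

noncomputable section

namespace Groth.Agent.AlgSpQC

/-- Lifting the universe of rings preserves pushouts. -/
theorem isPushout_ulift {A B C P : CommRingCat.{u}} {f : A ⟶ B} {g : A ⟶ C} {inl : B ⟶ P} {inr : C ⟶ P}
    (h : IsPushout f g inl inr) {A' B' C' P' : CommRingCat.{u + 1}} {f' : A' ⟶ B'} {g' : A' ⟶ C'} {inl' : B' ⟶ P'}
    {inr' : C' ⟶ P'} (eA : A ≃+* A') (eB : B ≃+* B') (eC : C ≃+* C') (eP : P ≃+* P')
    (hf : ∀ a, f' (eA a) = eB (f a)) (hg : ∀ a, g' (eA a) = eC (g a))
    (hl : ∀ b, inl' (eB b) = eP (inl b)) (hr : ∀ c, inr' (eC c) = eP (inr c)) :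
    IsPushout f' g' inl' inr' := by
  letI := f.hom.toAlgebra
  letI := g.hom.toAlgebra
  letI := inl.hom.toAlgebra
  letI := inr.hom.toAlgebra
  letI : Algebra A P := (f ≫ inl).hom.toAlgebra
  haveI : IsScalarTower A B P := IsScalarTower.of_algebraMap_eq fun _ => rfl
  haveI : IsScalarTower A C P := IsScalarTower.of_algebraMap_eq fun r => ConcreteCategory.congr_hom h.w r
  haveI : Algebra.IsPushout A B C P := CommRingCat.isPushout_iff_isPushout.1 h
  have w : f' ≫ inl' = g' ≫ inr' := by
    ext a'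
    obtain ⟨a, rfl⟩ := eA.surjective a'
    show inl' (f' (eA a)) = inr' (g' (eA a))
    rw [hf, hg, hl, hr]
    exact congrArg eP (ConcreteCategory.congr_hom h.w a)
  refine IsPushout.of_isColimit' ⟨w⟩ (PushoutCocone.isColimitAux' _ fun s => ?_)
  letI : Algebra A s.pt := ((f' ≫ s.inl).hom.comp eA.toRingHom).toAlgebra
  let φ : B →ₐ[A] s.pt :=
    { s.inl.hom.comp eB.toRingHom with
      commutes' := fun r => show s.inl (eB (f r)) = s.inl (f' (eA r)) by rw [hf] }
  let ψ : C →ₐ[A] s.pt :=
    { s.inr.hom.comp eC.toRingHom with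
      commutes' := fun r => show s.inr (eC (g r)) = s.inl (f' (eA r)) by
        rw [← hg]; exact (ConcreteCategory.congr_hom s.condition (eA r)).symm }
  let e := Algebra.IsPushout.equiv A B C P
  let d : P →+* s.pt := ((Algebra.TensorProduct.productMap φ ψ).toRingHom).comp e.symm.toRingEquiv.toRingHom
  have hd : ∀ b c, d (e (b ⊗ₜ c)) = φ b * ψ c := fun b c => by
    show Algebra.TensorProduct.productMap φ ψ (e.symm (e (b ⊗ₜ c))) = _
    rw [AlgEquiv.symm_apply_apply, Algebra.TensorProduct.productMap_apply_tmul]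
  refine ⟨CommRingCat.ofHom (d.comp eP.symm.toRingHom), ?_, ?_, fun {m} h₁ h₂ => ?_⟩
  · ext b'
    obtain ⟨b, rfl⟩ := eB.surjective b'
    show d (eP.symm (inl' (eB b))) = s.inl (eB b)
    rw [hl, RingEquiv.symm_apply_apply]
    have : e (b ⊗ₜ (1 : C)) = inl b := by
      rw [Algebra.IsPushout.equiv_tmul, map_one, mul_one]; rfl
    rw [← this, hd, map_one, mul_one]
    rfl
  · ext c'
    obtain ⟨c, rfl⟩ := eC.surjective c'
    show d (eP.symm (inr' (eC c))) = s.inr (eC c)
    rw [hr, RingEquiv.symm_apply_apply]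
    have : e ((1 : B) ⊗ₜ c) = inr c := by
      rw [Algebra.IsPushout.equiv_tmul, map_one, one_mul]; rfl
    rw [← this, hd, map_one, one_mul]
    rfl
  · ext p'
    obtain ⟨p, rfl⟩ := eP.surjective p'
    obtain ⟨t, rfl⟩ := e.surjective p
    show m (eP (e t)) = d (eP.symm (eP (e t)))
    rw [RingEquiv.symm_apply_apply]
    induction t using TensorProduct.induction_on with
    | zero => simp
    | tmul b c =>
      rw [hd, Algebra.IsPushout.equiv_tmul, map_mul, map_mul]
      refine congrArg₂ (· * ·) ?_ ?_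
      · refine (congrArg m (hl b).symm).trans ?_
        exact ConcreteCategory.congr_hom h₁ (eB b)
      · refine (congrArg m (hr c).symm).trans ?_
        exact ConcreteCategory.congr_hom h₂ (eC c)
    | add a b ha hb => simp only [map_add, ha, hb]

variable {S : Scheme.{u}} (X : AlgSp.Sp S)

/-- The affine objects of the small étale site. -/
def Aff (E : AlgSp.EtOver X) : Prop := IsAffine E.obj.left.left

/-- The functions on an object as the lifted functions on the scheme. -/
def upEquiv (E : AlgSp.EtOver X) : Γ(E.obj.left.left, ⊤) ≃+* (AlgSp.OEt X).obj.obj (op E) :=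
  ULift.ringEquiv.symm

variable {X}

theorem rh_upEquiv {E E' : AlgSp.EtOver X} (g : E' ⟶ E) (a : Γ(E.obj.left.left, ⊤)) :
    rh (AlgSp.OEt X).obj g (upEquiv X E a) = upEquiv X E' (g.hom.left.left.appTop a) := rfl

theorem comap_rh_upEquiv {E E' : AlgSp.EtOver X} (g : E' ⟶ E) (q : PrimeSpectrum Γ(E'.obj.left.left, ⊤)) :
    PrimeSpectrum.comap (rh (AlgSp.OEt X).obj g) (PrimeSpectrum.comap (upEquiv X E').symm.toRingHom q) =
      PrimeSpectrum.comap (upEquiv X E).symm.toRingHom (PrimeSpectrum.comap g.hom.left.left.appTop.hom q) := by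
  rw [← PrimeSpectrum.comap_comp_apply, ← PrimeSpectrum.comap_comp_apply]
  rfl

/-- Comparison of points and primes. -/
theorem toSpecΓ_comp {U V : Scheme.{u}} (g : V ⟶ U) (v : V) :
    PrimeSpectrum.comap g.appTop.hom (V.toSpecΓ v) = U.toSpecΓ (g v) := by
  show (Spec.map g.appTop) (V.toSpecΓ v) = _
  rw [← Scheme.Hom.comp_apply, ← Scheme.toSpecΓ_naturality, Scheme.Hom.comp_apply]

theorem affSite (X : AlgSp.Sp S) : AffSite (AlgSp.etTop X) (AlgSp.OEt X).obj (Aff X) where
  flat {E E'} g hE hE' := by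
    haveI : IsAffine E.obj.left.left := hE
    haveI : IsAffine E'.obj.left.left := hE'
    haveI : AlgebraicGeometry.Etale g.hom.left.left := AlgSp.EtOver.etale_left g
    have h := HasRingHomProperty.appTop (P := @AlgebraicGeometry.Flat) g.hom.left.left inferInstance
    show ((upEquiv X E').toRingHom.comp
      (g.hom.left.left.appTop.hom.comp (upEquiv X E).symm.toRingHom)).Flat
    exact RingHom.Flat.comp (RingHom.Flat.comp
      (RingHom.Flat.of_bijective (f := (upEquiv X E).symm.toRingHom) (upEquiv X E).symm.bijective) h)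
      (RingHom.Flat.of_bijective (f := (upEquiv X E').toRingHom) (upEquiv X E').bijective)
  exists_affine U := by
    let 𝒰 := U.obj.left.left.affineCover
    let Z₀ : 𝒰.I₀ → Over S := fun i => Over.mk (𝒰.f i ≫ U.obj.left.hom)
    let z : ∀ i, Z₀ i ⟶ U.obj.left := fun i => Over.homMk (𝒰.f i) rfl
    haveI : ∀ i, IsOpenImmersion (z i).left := fun i => inferInstanceAs (IsOpenImmersion (𝒰.f i))
    let Z : 𝒰.I₀ → AlgSp.EtOver X := fun i => AlgSp.EtOver.mk ((AlgSp.yon S).map (z i) ≫ U.obj.hom)
      ((AlgSp.repWith_isMultiplicative (S := S) @AlgebraicGeometry.Etale).comp_mem _ _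
        ((AlgSp.repWith_yon_map_iff _ _).2 (inferInstance : AlgebraicGeometry.Etale (z i).left)) U.property)
    let f : ∀ i, Z i ⟶ U := fun i => AlgSp.EtOver.homMk (z i) rfl
    refine ⟨_, AlgSp.ofArrows_mem_etTop Z f fun x => ⟨𝒰.idx x, 𝒰.covers x⟩, fun Y g hg => ?_⟩
    obtain ⟨i, a, e⟩ := Sieve.mem_ofArrows_iff _ _ _ |>.1 hg
    exact ⟨Z i, a, f i, inferInstanceAs (IsAffine (𝒰.X i)), e.symm⟩
  refine_cover {E} hE R hR := by
    haveI : IsAffine E.obj.left.left := hE
    obtain ⟨T, hT, hle⟩ :=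
      (Precoverage.mem_toGrothendieck_iff_of_isStableUnderComposition (J := AlgSp.etPre X)).1 hR
    obtain ⟨ι, Y, g, rfl⟩ := T.exists_eq_ofArrows
    have h : ∀ w : E.obj.left.left, ∃ (V : AlgSp.EtOver X) (a : V ⟶ E),
        Aff X V ∧ R a ∧ w ∈ Set.range a.hom.left.left := by
      intro w
      obtain ⟨i, v, hv⟩ := (AlgSp.ofArrows_mem_etPre_iff Y g).1 hT w
      obtain ⟨W, hW, hvW, -⟩ := exists_isAffineOpen_mem_and_subset (x := v) (U := ⊤) trivial
      let zi : Over.mk (W.ι ≫ (Y i).obj.left.hom) ⟶ (Y i).obj.left := Over.homMk W.ι rfl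
      haveI : IsOpenImmersion zi.left := inferInstanceAs (IsOpenImmersion W.ι)
      let V : AlgSp.EtOver X := AlgSp.EtOver.mk ((AlgSp.yon S).map zi ≫ (Y i).obj.hom)
        ((AlgSp.repWith_isMultiplicative (S := S) @AlgebraicGeometry.Etale).comp_mem _ _
          ((AlgSp.repWith_yon_map_iff _ _).2 (inferInstance : AlgebraicGeometry.Etale zi.left)) (Y i).property)
      refine ⟨V, AlgSp.EtOver.homMk zi rfl ≫ g i, hW, R.downward_closed (hle _ _ ⟨i⟩) _, ⟨v, hvW⟩, ?_⟩
      show (W.ι ≫ (g i).hom.left.left) ⟨v, hvW⟩ = w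
      exact hv
    choose V a hV ha hw using h
    obtain ⟨t, ht⟩ := isCompact_univ.elim_finite_subcover (fun w => Set.range (a w).hom.left.left)
      (fun w => haveI := AlgSp.EtOver.etale_left (a w); (a w).hom.left.left.isOpenMap.isOpen_range)
      (fun w _ => Set.mem_iUnion.2 ⟨w, hw w⟩)
    refine ⟨t.card, fun k => V (t.equivFin.symm k), fun k => a _, fun k => hV _, fun k => ha _, fun p => ?_⟩
    let p₀ : Spec Γ(E.obj.left.left, ⊤) := PrimeSpectrum.comap (upEquiv X E).toRingHom p
    let x := E.obj.left.left.isoSpec.inv p₀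
    obtain ⟨w, hwt, v, hv⟩ := Set.mem_iUnion₂.1 (ht (Set.mem_univ x))
    obtain ⟨k, rfl⟩ : ∃ k, (t.equivFin.symm k : E.obj.left.left) = w :=
      ⟨t.equivFin ⟨w, hwt⟩, by rw [Equiv.symm_apply_apply]⟩
    refine ⟨k, PrimeSpectrum.comap (upEquiv X _).symm.toRingHom ((V _).obj.left.left.toSpecΓ v), ?_⟩
    rw [comap_rh_upEquiv, toSpecΓ_comp, hv]
    have : E.obj.left.left.toSpecΓ x = p₀ := by
      rw [← Scheme.Hom.comp_apply, Scheme.isoSpec_inv_toSpecΓ]
      rfl
    rw [this, ← PrimeSpectrum.comap_comp_apply,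
      show (upEquiv X E).toRingHom.comp (upEquiv X E).symm.toRingHom = RingHom.id _ from
        RingHom.ext fun r => (upEquiv X E).apply_symm_apply r, PrimeSpectrum.comap_id]
  covers {E} hE {n} {Z} f hZ hs := AlgSp.ofArrows_mem_etTop Z f fun x => by
    obtain ⟨i, q, hq⟩ := hs (PrimeSpectrum.comap (upEquiv X E).symm.toRingHom (E.obj.left.left.toSpecΓ x))
    haveI : IsAffine (Z i).obj.left.left := hZ i
    haveI : IsAffine E.obj.left.left := hE
    let q₀ : Spec Γ((Z i).obj.left.left, ⊤) := PrimeSpectrum.comap (upEquiv X (Z i)).toRingHom q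
    refine ⟨i, (Z i).obj.left.left.isoSpec.inv q₀, ?_⟩
    apply (asIso E.obj.left.left.toSpecΓ).hom.homeomorph.injective
    show E.obj.left.left.toSpecΓ ((f i).hom.left.left _) = E.obj.left.left.toSpecΓ x
    rw [← toSpecΓ_comp]
    have : (Z i).obj.left.left.toSpecΓ ((Z i).obj.left.left.isoSpec.inv q₀) = q₀ := by
      rw [← Scheme.Hom.comp_apply, Scheme.isoSpec_inv_toSpecΓ]
      rfl
    rw [this]
    apply PrimeSpectrum.comap_injective_of_surjective (upEquiv X E).symm.toRingHom (upEquiv X E).symm.surjective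
    rw [← comap_rh_upEquiv, ← hq]
    refine congrArg _ ?_
    rw [← PrimeSpectrum.comap_comp_apply,
      show (upEquiv X (Z i)).toRingHom.comp (upEquiv X (Z i)).symm.toRingHom = RingHom.id _ from
        RingHom.ext fun r => (upEquiv X (Z i)).apply_symm_apply r, PrimeSpectrum.comap_id]
  exists_fibre {E Y Z} f g hE hY hZ := by
    haveI : IsAffine E.obj.left.left := hE
    haveI : IsAffine Y.obj.left.left := hY
    haveI : IsAffine Z.obj.left.left := hZ
    have hpb : IsPullback (AlgSp.EtOver.pullbackFst f g).hom.left.left (AlgSp.EtOver.pullbackSnd f g).hom.left.left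
        f.hom.left.left g.hom.left.left :=
      (AlgSp.EtOver.isPullback f g).map (AlgSp.EtOver.toScheme X)
    refine ⟨_, AlgSp.EtOver.pullbackFst f g, AlgSp.EtOver.pullbackSnd f g,
      IsAffine.of_isPullback hpb, AlgSp.EtOver.pullback_condition f g, AlgSp.EtOver.isPullback f g, ?_⟩
    exact isPushout_ulift (isPushout_appTop_of_isPullback hpb) (upEquiv X E) (upEquiv X Y) (upEquiv X Z)
      (upEquiv X _) (fun _ => rfl) (fun _ => rfl) (fun _ => rfl) (fun _ => rfl)

end Groth.Agent.AlgSpQC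

end
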