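import Groth.Agent.AlgSpQC.Colim

/-!
# Base change is local on the site
-/

set_option autoImplicit false
set_option linter.style.haveILetI false
set_option linter.unusedSectionVars false
set_option backward.isDefEq.respectTransparency false
set_option backward.isDefEq.respectTransparency.types false
set_option maxHeartbeats 800000

universe u v

open CategoryTheory Limits Opposite TensorProduct
open scoped ChangeOfRings

noncomputable section

namespace Groth.Agent.AlgSpQC

/-- Tensoring an equalizer of finite products with a flat algebra. -/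
theorem flat_equalizer {R : Type v} [CommRing R] {S : Type v} [AddCommGroup S] [Module R S] [Module.Flat R S]
    {N : Type v} [AddCommGroup N] [Module R N] {ι κ : Type} [Fintype ι] [Fintype κ] [DecidableEq ι] [DecidableEq κ]
    (Ni : ι → Type v) [∀ i, AddCommGroup (Ni i)] [∀ i, Module R (Ni i)]
    (Lk : κ → Type v) [∀ k, AddCommGroup (Lk k)] [∀ k, Module R (Lk k)]
    (α : ∀ i, N →ₗ[R] Ni i) (s t : κ → ι) (β : ∀ k, Ni (s k) →ₗ[R] Lk k) (γ : ∀ k, Ni (t k) →ₗ[R] Lk k)
    (hc : ∀ k x, β k (α (s k) x) = γ k (α (t k) x)) (hsep : ∀ x, (∀ i, α i x = 0) → x = 0)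
    (hglue : ∀ y : ∀ i, Ni i, (∀ k, β k (y (s k)) = γ k (y (t k))) → ∃ x, ∀ i, α i x = y i) :
    (∀ w : S ⊗[R] N, (∀ i, (α i).lTensor S w = 0) → w = 0) ∧
      ∀ y : ∀ i, S ⊗[R] Ni i, (∀ k, (β k).lTensor S (y (s k)) = (γ k).lTensor S (y (t k))) →
        ∃ w, ∀ i, (α i).lTensor S w = y i := by
  let a : N →ₗ[R] (∀ i, Ni i) := LinearMap.pi α
  let d : (∀ i, Ni i) →ₗ[R] (∀ k, Lk k) :=
    LinearMap.pi fun k => β k ∘ₗ LinearMap.proj (s k) - γ k ∘ₗ LinearMap.proj (t k)
  let eN := TensorProduct.piRight R R S Ni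
  let eL := TensorProduct.piRight R R S Lk
  have ha : Function.Injective a := (injective_iff_map_eq_zero a).2 fun x hx => hsep x fun i => congrFun hx i
  have hex : Function.Exact a d := fun y => ⟨fun hy => by
    obtain ⟨x, hx⟩ := hglue y fun k => sub_eq_zero.1 (congrFun hy k)
    exact ⟨x, funext hx⟩, by
    rintro ⟨x, rfl⟩
    exact funext fun k => sub_eq_zero.2 (hc k x)⟩
  have h1 : ∀ w i, eN (a.lTensor S w) i = (α i).lTensor S w := by
    intro w i
    induction w using TensorProduct.induction_on with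
    | zero => simp
    | tmul x n => simp [eN, a]
    | add w w' hw hw' => simp only [map_add, Pi.add_apply, hw, hw']
  have h2 : ∀ w k, eL (d.lTensor S w) k = (β k).lTensor S (eN w (s k)) - (γ k).lTensor S (eN w (t k)) := by
    intro w k
    induction w using TensorProduct.induction_on with
    | zero => simp
    | tmul x y => simp [eN, eL, d, TensorProduct.tmul_sub]
    | add w w' hw hw' => simp only [map_add, Pi.add_apply, hw, hw']; abel
  refine ⟨fun w hw => Module.Flat.lTensor_preserves_injective_linearMap (M := S) a ha ?_, fun y hy => ?_⟩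
  · rw [map_zero]
    exact eN.injective (funext fun i => by rw [h1, hw, map_zero]; rfl)
  · obtain ⟨z, rfl⟩ := eN.surjective y
    obtain ⟨w, rfl⟩ := ((Module.Flat.lTensor_exact S hex) z).1 (eL.injective (funext fun k => by
      rw [h2, hy, sub_self, map_zero]; rfl))
    exact ⟨w, fun i => (h1 w i).symm⟩

variable {C : Type (u + 1)} [Category.{u} C] {O : Cᵒᵖ ⥤ CommRingCat.{u + 1}}

/-- Sections over `Z`, as a module over the functions of `X`. -/
abbrev Nmod (P : PresheafOfModules.{u + 1} (Rg O)) {X Z : C} (f : Z ⟶ X) : ModuleCat.{u + 1} (O.obj (op X)) :=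
  (ModuleCat.restrictScalars (rh O f)).obj ((evalC O Z).obj P)

/-- Restriction as a linear map. -/
def resL (P : PresheafOfModules.{u + 1} (Rg O)) {X Z : C} (f : Z ⟶ X) :
    (evalC O X).obj P →ₗ[O.obj (op X)] Nmod P f := ((resC O f).app P).hom

theorem resL_apply (P : PresheafOfModules.{u + 1} (Rg O)) {X Z : C} (f : Z ⟶ X) (x : P.obj (op X)) :
    resL P f x = res P f x := rfl

/-- Restriction between modules over the functions of a base. -/
def resN (P : PresheafOfModules.{u + 1} (Rg O)) {X Z W : C} (f : Z ⟶ X) (g : W ⟶ Z) (f' : W ⟶ X) (h : g ≫ f = f') :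
    Nmod P f →ₗ[O.obj (op X)] Nmod P f' where
  toFun x := res P g x
  map_add' x y := map_add (P.presheaf.map g.op).hom x y
  map_smul' r x := by
    refine (P.map_smul g.op (rh O f r) x).trans ?_
    show rh O g (rh O f r) • (show (evalC O W).obj P from res P g x) = rh O f' r • res P g x
    subst h
    exact congrArg (· • (show (evalC O W).obj P from res P g x))
      (ConcreteCategory.congr_hom (O.map_comp f.op g.op) r).symm

/-- Sections over a fibre product as a base change. -/
theorem exists_base_iso (P : PresheafOfModules.{u + 1} (Rg O)) {X Y Z W : C} {f : Y ⟶ X} {g : Z ⟶ X} {h : W ⟶ Y}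
    {k : W ⟶ Z} (hpo : IsPushout (O.map f.op) (O.map g.op) (O.map h.op) (O.map k.op))
    (hk : IsIso ((θ O k).app P)) :
    letI := (rh O f).toAlgebra
    ∃ ψ : O.obj (op Y) ⊗[O.obj (op X)] Nmod P g →+ P.obj (op W), Function.Bijective ψ ∧
      ∀ (s : O.obj (op Y)) (x : P.obj (op Z)),
        ψ (s ⊗ₜ[O.obj (op X)] (show Nmod P g from x)) = rh O h s • (show (evalC O W).obj P from res P k x) := by
  letI := (rh O f).toAlgebra
  letI := (rh O g).toAlgebra
  letI := (rh O h).toAlgebra
  letI := (rh O k).toAlgebra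
  letI : Algebra (O.obj (op X)) (O.obj (op W)) := ((rh O h).comp (rh O f)).toAlgebra
  haveI : IsScalarTower (O.obj (op X)) (O.obj (op Y)) (O.obj (op W)) := IsScalarTower.of_algebraMap_eq fun _ => rfl
  haveI : IsScalarTower (O.obj (op X)) (O.obj (op Z)) (O.obj (op W)) := IsScalarTower.of_algebraMap_eq fun r =>
    ConcreteCategory.congr_hom hpo.w r
  haveI : Algebra.IsPushout (O.obj (op X)) (O.obj (op Y)) (O.obj (op Z)) (O.obj (op W)) :=
    CommRingCat.isPushout_iff_isPushout.1 hpo
  letI : Module (O.obj (op X)) ((evalC O Z).obj P) := Module.compHom _ (rh O g)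
  haveI : IsScalarTower (O.obj (op X)) (O.obj (op Z)) ((evalC O Z).obj P) := ⟨fun r z x => mul_smul (rh O g r) z x⟩
  let e := Algebra.IsPushout.cancelBaseChange (O.obj (op X)) (O.obj (op Y)) (O.obj (op Z)) (O.obj (op W))
    ((evalC O Z).obj P)
  refine ⟨((θ O k).app P).hom.toAddMonoidHom.comp e.symm.toAddMonoidHom, ?_, fun s x => ?_⟩
  · exact (ConcreteCategory.bijective_of_isIso ((θ O k).app P)).comp e.symm.bijective
  · show (θ O k).app P (e.symm (s ⊗ₜ x)) = _
    rw [Algebra.IsPushout.cancelBaseChange_symm_tmul]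
    exact θ_tmul P k _ x

variable {J : GrothendieckTopology C} {Aff : C → Prop}

/-- Base change below an object. -/
def IsBCUnder (Aff : C → Prop) (P : PresheafOfModules.{u + 1} (Rg O)) (E : C) : Prop :=
  ∀ ⦃X Y : C⦄ (f : Y ⟶ X), (X ⟶ E) → Aff X → Aff Y → IsIso ((θ O f).app P)

theorem existsUnique_glue {M : Cᵒᵖ ⥤ AddCommGrpCat.{u + 1}} (hM : Presheaf.IsSheaf J M) {X : C} {ι : Type}
    {Z : ι → C} (f : ∀ i, Z i ⟶ X) (hf : Sieve.ofArrows Z f ∈ J X) (x : ∀ i, M.obj (op (Z i)))
    (hx : ∀ i j W (g : W ⟶ Z i) (h : W ⟶ Z j), g ≫ f i = h ≫ f j → M.map g.op (x i) = M.map h.op (x j)) :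
    ∃! t : M.obj (op X), ∀ i, M.map (f i).op t = x i := by
  have h1 : Presieve.IsSheaf J (M ⋙ forget Ab) := (isSheaf_iff_isSheaf_of_type J _).1
    ((Presheaf.isSheaf_iff_isSheaf_forget J M (forget Ab)).1 hM)
  have h2 := (Presieve.isSheafFor_arrows_iff (M ⋙ forget Ab) f).1
    ((Presieve.isSheafFor_iff_generate _).2 (h1 _ hf))
  exact h2 x hx

/-- Base change holds if it holds locally. -/
theorem isBC_of_local (H : AffSite J O Aff) (P : PresheafOfModules.{u + 1} (Rg O))
    (hP : Presheaf.IsSheaf J P.presheaf)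
    (hloc : ∀ X : C, Aff X → ∃ S ∈ J X, ∀ ⦃Y : C⦄ (g : Y ⟶ X), S.arrows g → Aff Y → IsBCUnder Aff P Y) :
    IsBC Aff P := by
  intro X Y f hX hY
  rw [ConcreteCategory.isIso_iff_bijective]
  letI := (rh O f).toAlgebra
  haveI : Module.Flat (O.obj (op X)) (O.obj (op Y)) := H.flat f hX hY
  obtain ⟨S, hS, hSB⟩ := hloc X hX
  obtain ⟨n, Z, z, hZ, hzS, hzs⟩ := H.refine_cover hX S hS
  have hcovZ := H.covers hX z hZ hzs
  choose W wY wZ hW hw hpb hpo using fun i => H.exists_fibre f (z i) hX hY (hZ i)
  choose V vi vj hV hv hvpb hvpo using fun k : Fin n × Fin n => H.exists_fibre (z k.1) (z k.2) hX (hZ _) (hZ _)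
  choose U uY uV hU hu hupb hupo using fun k : Fin n × Fin n => H.exists_fibre f (vi k ≫ z k.1) hX hY (hV k)
  have hcovW : Sieve.ofArrows W wY ∈ J Y := by
    refine J.superset_covering ?_ (J.pullback_stable f hcovZ)
    intro T g hg
    obtain ⟨i, a, e⟩ := Sieve.mem_ofArrows_iff _ _ _ |>.1 hg
    exact Sieve.mem_ofArrows_iff _ _ _ |>.2 ⟨i, (hpb i).lift g a e, ((hpb i).lift_fst g a e).symm⟩
  have hψ := fun i => exists_base_iso P (hpo i) (hSB _ (hzS i) (hZ i) (wZ i) (𝟙 _) (hZ i) (hW i))
  choose ψ hψb hψe using hψ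
  have hχ := fun k : Fin n × Fin n => exists_base_iso P (hupo k)
    (hSB _ (hzS k.1) (hZ k.1) (uV k) (vi k) (hV k) (hU k))
  choose χ hχb hχe using hχ
  let β := fun k : Fin n × Fin n => resN P (z k.1) (vi k) (vi k ≫ z k.1) rfl
  let γ := fun k : Fin n × Fin n => resN P (z k.2) (vj k) (vi k ≫ z k.1) (hv k).symm
  obtain ⟨hsep, hglue⟩ := flat_equalizer (R := O.obj (op X)) (S := O.obj (op Y)) (N := (evalC O X).obj P)
    (fun i : Fin n => Nmod P (z i)) (fun k : Fin n × Fin n => Nmod P (vi k ≫ z k.1))
    (fun i => resL P (z i)) Prod.fst Prod.snd β γ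
    (fun k x => by
      show res P (vi k) (res P (z k.1) x) = res P (vj k) (res P (z k.2) x)
      rw [← res_comp, ← res_comp, hv k])
    (fun x hx => (existsUnique_glue hP z hcovZ (fun _ => 0) fun i j W g h _ =>
      (map_zero (P.presheaf.map g.op).hom).trans (map_zero (P.presheaf.map h.op).hom).symm).unique hx
        fun i => map_zero (P.presheaf.map (z i).op).hom)
    (fun y hy => (existsUnique_glue hP z hcovZ y fun i j W g h e => by
      refine ((congrArg (fun a => res (X := Z i) P a (y i)) ((hvpb (i, j)).lift_fst g h e).symm).trans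
        (res_comp P (vi (i, j)) _ _)).trans ?_
      refine Eq.trans ?_ (congrArg (fun a => res (X := Z j) P a (y j)) ((hvpb (i, j)).lift_snd g h e))
      exact (congrArg _ (hy (i, j))).trans (res_comp P (vj (i, j)) _ _).symm).exists)
  have hψα : ∀ i (w : O.obj (op Y) ⊗[O.obj (op X)] (evalC O X).obj P),
      ψ i ((resL P (z i)).lTensor _ w) = res P (wY i) ((θ O f).app P w) := by
    intro i w
    induction w using TensorProduct.induction_on with
    | zero =>
      rw [map_zero, map_zero]
      exact (map_zero (P.presheaf.map (wY i).op).hom).symm.trans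
        (congrArg _ (map_zero ((θ O f).app P).hom).symm)
    | tmul s x =>
      refine (hψe i s (res P (z i) x)).trans ?_
      rw [← res_comp, ← hw i, res_comp]
      exact (P.map_smul (wY i).op s _).symm.trans (congrArg _ (θ_tmul P f s x).symm)
    | add a b ha hb =>
      rw [map_add, map_add, ha, hb]
      exact (map_add (P.presheaf.map (wY i).op).hom _ _).symm.trans
        (congrArg _ (map_add ((θ O f).app P).hom a b).symm)
  refine ⟨(injective_iff_map_eq_zero ((θ O f).app P).hom).2 fun w hw0 => hsep w fun i => ?_, fun y => ?_⟩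
  · refine (hψb i).1 ?_
    rw [hψα, map_zero]
    exact (congrArg _ hw0).trans (map_zero (P.presheaf.map (wY i).op).hom)
  choose w₀ hw₀ using fun i => (hψb i).2 (res P (wY i) y)
  obtain ⟨w, hwe⟩ := hglue w₀ fun k => (hχb k).1 (by
    have e₁ : ∀ w, χ k ((β k).lTensor _ w) =
        res P ((hpb k.1).lift (uY k) (uV k ≫ vi k) ((hu k).trans (Category.assoc _ _ _).symm)) (ψ k.1 w) := by
      intro w
      induction w using TensorProduct.induction_on with
      | zero => rw [map_zero, map_zero, map_zero]; exact (map_zero (P.presheaf.map _).hom).symm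
      | tmul s x =>
        rw [LinearMap.lTensor_tmul, hψe k.1 s x]
        refine (hχe k s (res P (vi k) x)).trans ?_
        refine Eq.trans ?_ (P.map_smul ((hpb k.1).lift (uY k) (uV k ≫ vi k) ((hu k).trans
          (Category.assoc _ _ _).symm)).op (rh O (wY k.1) s) (res P (wZ k.1) x)).symm
        refine congrArg₂ (fun (a : O.obj (op (U k))) b => a • (show (evalC O (U k)).obj P from b)) ?_ (Eq.trans ?_ (res_comp P _ _ _))
        · conv_lhs => rw [← (hpb k.1).lift_fst (uY k) (uV k ≫ vi k) ((hu k).trans (Category.assoc _ _ _).symm)]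
          exact ConcreteCategory.congr_hom (O.map_comp (wY k.1).op _) s
        · exact (res_comp P (vi k) (uV k) x).symm.trans (congrArg (fun a => res (X := Z k.1) P a x)
            ((hpb k.1).lift_snd (uY k) (uV k ≫ vi k) ((hu k).trans (Category.assoc _ _ _).symm)).symm)
      | add a b ha hb =>
        rw [map_add, map_add, ha, hb, map_add]
        exact (map_add (P.presheaf.map _).hom _ _).symm
    have h2 : uY k ≫ f = (uV k ≫ vj k) ≫ z k.2 := by rw [hu k, Category.assoc, hv k]
    have e₂ : ∀ w, χ k ((γ k).lTensor _ w) = res P ((hpb k.2).lift (uY k) (uV k ≫ vj k) h2) (ψ k.2 w) := by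
      intro w
      induction w using TensorProduct.induction_on with
      | zero => rw [map_zero, map_zero, map_zero]; exact (map_zero (P.presheaf.map _).hom).symm
      | tmul s x =>
        rw [LinearMap.lTensor_tmul, hψe k.2 s x]
        refine (hχe k s (res P (vj k) x)).trans ?_
        refine Eq.trans ?_ (P.map_smul ((hpb k.2).lift (uY k) (uV k ≫ vj k) h2).op (rh O (wY k.2) s)
          (res P (wZ k.2) x)).symm
        refine congrArg₂ (fun (a : O.obj (op (U k))) b => a • (show (evalC O (U k)).obj P from b)) ?_ (Eq.trans ?_ (res_comp P _ _ _))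
        · conv_lhs => rw [← (hpb k.2).lift_fst (uY k) (uV k ≫ vj k) h2]
          exact ConcreteCategory.congr_hom (O.map_comp (wY k.2).op _) s
        · exact (res_comp P (vj k) (uV k) x).symm.trans (congrArg (fun a => res (X := Z k.2) P a x)
            ((hpb k.2).lift_snd (uY k) (uV k ≫ vj k) h2).symm)
      | add a b ha hb =>
        rw [map_add, map_add, ha, hb, map_add]
        exact (map_add (P.presheaf.map _).hom _ _).symm
    rw [e₁, e₂, hw₀, hw₀, ← res_comp, ← res_comp, (hpb k.1).lift_fst, (hpb k.2).lift_fst])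
  refine ⟨w, ?_⟩
  refine ((existsUnique_glue hP wY hcovW (fun i => res P (wY i) y) fun i j T g h e => ?_).unique
    (fun i => ?_) (fun i => rfl))
  · show res P g (res P (wY i) y) = res P h (res P (wY j) y)
    rw [← res_comp, ← res_comp, e]
  · show res P (wY i) ((θ O f).app P w) = _
    rw [← hψα, hwe, hw₀]

end Groth.Agent.AlgSpQC

end
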