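import Mathlib.Algebra.Category.ModuleCat.Sheaf.PushforwardContinuous
/-!
Sections of direct images of sheaves of modules, kept syntactic.
-/

set_option autoImplicit false

universe v v₁ v₂ u₁ u₂ u

open CategoryTheory Opposite

noncomputable section

namespace Groth.Agent.AlgSpQC

variable {C : Type u₁} [Category.{v₁} C] {D : Type u₂} [Category.{v₂} D] {J : GrothendieckTopology C}
  {K : GrothendieckTopology D} {F : C ⥤ D} [F.IsContinuous J K] {R : Sheaf J RingCat.{u}} {R' : Sheaf K RingCat.{u}}
  (φ : R ⟶ (F.sheafPushforwardContinuous RingCat.{u} J K).obj R') (N : SheafOfModules.{v} R')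

/-- Sections of a direct image. -/
def pushSec (X : C) : ((SheafOfModules.pushforward.{v} φ).obj N).val.obj (op X) ≃+ N.val.obj (op (F.obj X)) :=
  AddEquiv.refl _

theorem pushSec_smul (X : C) (r : R.obj.obj (op X)) (x : ((SheafOfModules.pushforward.{v} φ).obj N).val.obj (op X)) :
    pushSec φ N X (r • x) = (show R'.obj.obj (op (F.obj X)) from φ.hom.app (op X) r) • pushSec φ N X x := rfl

theorem pushSec_res {X X' : C} (g : X' ⟶ X) (x : ((SheafOfModules.pushforward.{v} φ).obj N).val.obj (op X)) :
    pushSec φ N X' (((SheafOfModules.pushforward.{v} φ).obj N).val.presheaf.map g.op x) =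
      N.val.presheaf.map (F.map g).op (pushSec φ N X x) := rfl

end Groth.Agent.AlgSpQC
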