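import Groth.Agent.AlgSpQC.ProjMain
import Groth.Agent.AlgSpQC.PushSecs
/-!
Quasi-coherent modules with small sections have quasi-coherent Zariski companions on charts.
-/

set_option autoImplicit false
set_option linter.style.haveILetI false
set_option backward.isDefEq.respectTransparency false
set_option backward.isDefEq.respectTransparency.types false
set_option maxHeartbeats 3200000

universe u

open CategoryTheory Limits AlgebraicGeometry Opposite TopologicalSpace TensorProduct

noncomputable section

namespace Groth.Agent.AlgSpQC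

variable {S : Scheme.{u}} {Y : AlgSp.Sp S} {V : Over S} {q : (AlgSp.yon S).obj V ⟶ Y}
  (hq : AlgSp.RepWith @AlgebraicGeometry.Etale q) {G : AlgSp.ModEt Y}

/-- Sections of the chart module. -/
def secCh (W : V.left.Opens) (x : SecOp (chartMod hq G) W) : Sec G (chartOpen hq W) :=
  pushSec (compRingHom hq) G ((AlgSp.EtOver.ofScheme V).obj (AlgSp.etaleOfOpen V.left W))
    (pushSec (AlgSp.resSchRingHom V) ((restrMod hq).obj G) (AlgSp.etaleOfOpen V.left W) x)

theorem secCh_bijective (W : V.left.Opens) : Function.Bijective (secCh hq (G := G) W) :=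
  (pushSec (compRingHom hq) G _).bijective.comp (pushSec (AlgSp.resSchRingHom V) ((restrMod hq).obj G) _).bijective

theorem secCh_smul (W : V.left.Opens) (r : Γ(V.left, W)) (x : SecOp (chartMod hq G) W) :
    secCh hq W (χop W r • x) = (show (AlgSp.OEt Y).obj.obj (op (chartOpen hq W)) from χop W r) • secCh hq W x :=
  (congrArg _ (pushSec_smul (AlgSp.resSchRingHom V) ((restrMod hq).obj G) _ (χop W r) x)).trans
    (pushSec_smul (compRingHom hq) G _ _ _)

theorem secCh_res {W W' : V.left.Opens} (h : W' ≤ W) (x : SecOp (chartMod hq G) W) :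
    secCh hq W' (resOp (chartMod hq G) h x) =
      (show Sec G (chartOpen hq W') from res (O := (AlgSp.OEt Y).obj) G.val (chartLE hq h) (secCh hq W x)) :=
  (congrArg _ (pushSec_res (AlgSp.resSchRingHom V) ((restrMod hq).obj G) (AlgSp.etaleOfLE h) x)).trans
    (pushSec_res (compRingHom hq) G ((AlgSp.EtOver.ofScheme V).map (AlgSp.etaleOfLE h)) _)

theorem secCh_zero (W : V.left.Opens) : secCh hq W (0 : SecOp (chartMod hq G) W) = 0 :=
  (congrArg _ (map_zero (pushSec (AlgSp.resSchRingHom V) ((restrMod hq).obj G) (AlgSp.etaleOfOpen V.left W)))).trans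
    (map_zero (pushSec (compRingHom hq) G ((AlgSp.EtOver.ofScheme V).obj (AlgSp.etaleOfOpen V.left W))))

theorem small_chartMod (hsmall : ∀ E : AlgSp.EtOver Y, Aff Y E → Small.{u} (Sec G E)) (W : V.left.Opens)
    (hW : IsAffineOpen W) : Small.{u} (SecOp (chartMod hq G) W) := by
  haveI := hsmall (chartOpen hq W) hW
  exact small_of_injective (secCh_bijective hq W).1

theorem hext_chartMod (hG : QC G) (W : V.left.Opens) (hW : IsAffineOpen W) (f : Γ(V.left, W))
    (t : SecOp (chartMod hq G) (V.left.basicOpen f)) : ∃ (n : ℕ) (s : SecOp (chartMod hq G) W),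
      resOp (chartMod hq G) (V.left.basicOpen_le f) s =
        χop (V.left.basicOpen f) (V.left.presheaf.map (homOfLE (V.left.basicOpen_le f)).op (f ^ n)) • t := by
  obtain ⟨n, x, hx⟩ := exists_pow_sec hq hG hW f (secCh hq _ t)
  obtain ⟨s, rfl⟩ := (secCh_bijective hq W).2 x
  refine ⟨n, s, (secCh_bijective hq _).1 ?_⟩
  exact ((secCh_res hq _ s).trans hx).trans (secCh_smul hq _ _ t).symm

theorem hkill_chartMod (hG : QC G) (W : V.left.Opens) (hW : IsAffineOpen W) (f : Γ(V.left, W))
    (s : SecOp (chartMod hq G) W) (hs : resOp (chartMod hq G) (V.left.basicOpen_le f) s = 0) :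
    ∃ n : ℕ, χop W (f ^ n) • s = 0 := by
  obtain ⟨n, hn⟩ := exists_pow_kill_sec hq hG hW f (secCh hq W s)
    ((secCh_res hq _ s).symm.trans ((congrArg (secCh hq _) hs).trans (secCh_zero hq _)))
  exact ⟨n, (secCh_bijective hq W).1 (((secCh_smul hq _ _ s).trans hn).trans (secCh_zero hq W).symm)⟩

include hq in
/-- Zariski module of a quasi-coherent module with small sections. -/
theorem exists_qcoh_companion (hG : QC G) (hsmall : ∀ E : AlgSp.EtOver Y, Aff Y E → Small.{u} (Sec G E))
    (hrep : AlgSp.Representable q) [(SheafOfModules.pushforward.{u + 1} (AlgSp.bcRingHom hrep)).IsRightAdjoint] :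
    ∃ H : V.left.Modules, Coh.IsQCoh H ∧
      Nonempty (AlgSp.ZarCompanion V.left H ((AlgSp.resSchModEt V).obj ((AlgSp.pullModEt hrep).obj G))) := by
  haveI : (SheafOfModules.pushforward.{u + 1} (AlgSp.bcRingHom hq.1)).IsRightAdjoint := ‹_›
  haveI : ∀ W, Small.{u} (SecOp (chartMod hq G) W) := small_secOp _ (small_chartMod hq hsmall)
  refine ⟨zarMod (chartMod hq G), isQCoh_zarMod _ (hext_chartMod hq hG) (hkill_chartMod hq hG), ⟨?_⟩⟩
  exact companionOfIso ((AlgSp.resSchModEt V).mapIso ((pullIso hq).app G)) (zarCompanion (chartMod hq G))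

end Groth.Agent.AlgSpQC
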