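import Groth.Agent.AlgSpQC.PullRep
import Groth.Agent.ASp.Morph
import Groth.Agent.S0585
/-!
Projectivity of the sections of a quasi-coherent module is tested on one surjective chart.
-/

set_option autoImplicit false
set_option linter.style.haveILetI false
set_option backward.isDefEq.respectTransparency false
set_option backward.isDefEq.respectTransparency.types false
set_option maxHeartbeats 1600000

universe u v

open CategoryTheory Limits AlgebraicGeometry Opposite TensorProduct

noncomputable section

namespace Groth.Agent.AlgSpQC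

/-- Projectivity descends along a faithfully flat finite family. -/
theorem projective_of_family {R : Type v} [CommRing R] {ι : Type v} [Fintype ι] (A : ι → Type v)
    [∀ i, CommRing (A i)] [∀ i, Algebra R (A i)] [Module.FaithfullyFlat R (∀ i, A i)] (M : Type v)
    [AddCommGroup M] [Module R M] (h : ∀ i, Module.Projective (A i) (A i ⊗[R] M)) : Module.Projective R M := by
  classical
  letI : ∀ i, Algebra (∀ j, A j) (A i) := fun i => (Pi.evalRingHom A i).toAlgebra
  have hs : ∀ (i : ι) (x : A i) (a : ∀ j, A j), a * Pi.single i x = Pi.single i (a i * x) := fun i x a => by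
    funext j
    by_cases hj : j = i
    · subst hj; simp
    · simp [Pi.single_eq_of_ne hj]
  haveI hA : ∀ i, Module.Projective (∀ j, A j) (A i) := fun i => Module.Projective.of_split (M := ∀ j, A j)
    { toFun := fun x => Pi.single i x
      map_add' := fun x y => Pi.single_add i x y
      map_smul' := fun a x => (hs i x a).symm }
    { toFun := fun f => f i, map_add' := fun _ _ => rfl, map_smul' := fun _ _ => rfl }
    (LinearMap.ext fun x => Pi.single_eq_same i x)
  letI : ∀ i, Module (∀ j, A j) (A i ⊗[R] M) := fun i => Module.compHom _ (Pi.evalRingHom A i)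
  haveI : ∀ i, IsScalarTower (∀ j, A j) (A i) (A i ⊗[R] M) := fun i => IsScalarTower.of_algebraMap_smul fun _ _ => rfl
  haveI : ∀ i, Module.Projective (∀ j, A j) (A i ⊗[R] M) := fun i => by
    obtain ⟨g, hg⟩ := (h i).out
    haveI : Module.Projective (∀ j, A j) ((A i ⊗[R] M) →₀ A i) :=
      Module.Projective.of_equiv' (finsuppLequivDFinsupp (∀ j, A j)).symm
    exact Module.Projective.of_split (R := ∀ j, A j) (M := (A i ⊗[R] M) →₀ A i) (g.restrictScalars (∀ j, A j))
      ((Finsupp.linearCombination (A i) (id : A i ⊗[R] M → A i ⊗[R] M)).restrictScalars (∀ j, A j))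
      (LinearMap.ext hg)
  haveI : Module.Projective (∀ j, A j) (∀ i, A i ⊗[R] M) :=
    Module.Projective.of_equiv' DFinsupp.linearEquivFunOnFintype
  let Φ : (∀ j, A j) ⊗[R] M →ₗ[∀ j, A j] (∀ i, A i ⊗[R] M) :=
    { toFun := fun t i => LinearMap.rTensor M (LinearMap.proj (R := R) (φ := A) i) t
      map_add' := fun a b => funext fun i => map_add _ a b
      map_smul' := fun a t => funext fun i => by
        change LinearMap.rTensor M (LinearMap.proj (R := R) (φ := A) i) (a • t) =
          a i • LinearMap.rTensor M (LinearMap.proj (R := R) (φ := A) i) t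
        induction t using TensorProduct.induction_on with
        | zero => simp
        | tmul b m => rfl
        | add x y hx hy => rw [smul_add, map_add, map_add, smul_add, hx, hy] }
  let Ψ : (∀ i, A i ⊗[R] M) →ₗ[∀ j, A j] (∀ j, A j) ⊗[R] M :=
    { toFun := fun f => ∑ i, LinearMap.rTensor M (LinearMap.single R A i) (f i)
      map_add' := fun f g => by simp [Finset.sum_add_distrib]
      map_smul' := fun a f => by
        simp only [RingHom.id_apply, Finset.smul_sum]
        refine Finset.sum_congr rfl fun i _ => ?_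
        show LinearMap.rTensor M (LinearMap.single R A i) (a i • f i) = _
        induction f i using TensorProduct.induction_on with
        | zero => simp
        | tmul b m =>
          rw [TensorProduct.smul_tmul', LinearMap.rTensor_tmul, LinearMap.rTensor_tmul, TensorProduct.smul_tmul']
          exact congrArg (· ⊗ₜ[R] m) (hs i b a).symm
        | add x y hx hy => simp only [smul_add, map_add, hx, hy] }
  haveI : Module.Projective (∀ j, A j) ((∀ j, A j) ⊗[R] M) := Module.Projective.of_split Φ Ψ (by
    refine TensorProduct.AlgebraTensorModule.ext fun a m => ?_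
    show ∑ i, LinearMap.rTensor M (LinearMap.single R A i) (a i ⊗ₜ[R] m) = a ⊗ₜ[R] m
    simp only [LinearMap.rTensor_tmul, ← TensorProduct.sum_tmul]
    exact congrArg (· ⊗ₜ[R] m) (Finset.univ_sum_single a))
  exact Groth.Agent.S0585.result R (∀ j, A j) M

/-- Projectivity is transported by semilinear bijections. -/
theorem projective_iff_semilinear {R A : Type*} [CommRing R] [CommRing A] (σ : R ≃+* A) {P Q : Type*}
    [AddCommGroup P] [Module R P] [AddCommGroup Q] [Module A Q] (e : P ≃+ Q)
    (he : ∀ (r : R) (x : P), e (r • x) = σ r • e x) : Module.Projective R P ↔ Module.Projective A Q := by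
  haveI := RingHomInvPair.of_ringEquiv σ
  haveI := RingHomInvPair.of_ringEquiv σ.symm
  haveI : RingHomInvPair (σ.symm : A →+* R) (σ : R →+* A) := ⟨by ext x; simp, by ext x; simp⟩
  let e' : P ≃ₛₗ[(σ : R →+* A)] Q := { e with map_smul' := he }
  exact ⟨fun h => Module.Projective.of_equiv e', fun h => Module.Projective.of_equiv e'.symm⟩

section Aff

variable {C : Type (u + 1)} [Category.{u} C] {J : GrothendieckTopology C} {O : Cᵒᵖ ⥤ CommRingCat.{u + 1}}
  {Aff : C → Prop}

/-- Projectivity of values is local for finite affine coverings. -/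
theorem IsBC.projective (H : AffSite J O Aff) {P : PresheafOfModules.{u + 1} (Rg O)} (hP : IsBC Aff P) {X : C}
    (hX : Aff X) {n : ℕ} {Z : Fin n → C} (f : ∀ i, Z i ⟶ X) (hZ : ∀ i, Aff (Z i))
    (hs : ∀ p : PrimeSpectrum (O.obj (op X)),
      ∃ (i : Fin n) (q : PrimeSpectrum (O.obj (op (Z i)))), PrimeSpectrum.comap (rh O (f i)) q = p)
    (h : ∀ i, Module.Projective (O.obj (op (Z i))) ((evalC O (Z i)).obj P)) :
    Module.Projective (O.obj (op X)) ((evalC O X).obj P) := by
  letI : ∀ i : ULift.{u + 1} (Fin n), Algebra (O.obj (op X)) (O.obj (op (Z i.down))) := fun i =>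
    (rh O (f i.down)).toAlgebra
  haveI := faithfullyFlat_family H hX hZ hs
  refine projective_of_family (fun i : ULift.{u + 1} (Fin n) => O.obj (op (Z i.down))) _ fun i => ?_
  haveI := h i.down
  have hb := η_bijective hP (f i.down) hX (hZ _) (A := O.obj (op (Z i.down))) (RingHom.id _) rfl Function.bijective_id
  refine (projective_iff_semilinear (RingEquiv.refl _) (AddEquiv.ofBijective _ hb) fun r x => ?_).2 (h i.down)
  show η P (f i.down) (RingHom.id _) rfl (r • x) = r • η P (f i.down) (RingHom.id _) rfl x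
  induction x using TensorProduct.induction_on with
  | zero => rw [smul_zero, map_zero, smul_zero]
  | tmul a m =>
    rw [TensorProduct.smul_tmul', η_tmul, η_tmul]
    exact mul_smul r a _
  | add x y hx hy => rw [smul_add, map_add, map_add, hx, hy, smul_add]

/-- Projectivity of values goes to affine objects over. -/
theorem IsBC.projective_of_hom {P : PresheafOfModules.{u + 1} (Rg O)} (hP : IsBC Aff P) {X Z : C} (f : Z ⟶ X)
    (hX : Aff X) (hZ : Aff Z) (h : Module.Projective (O.obj (op X)) ((evalC O X).obj P)) :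
    Module.Projective (O.obj (op Z)) ((evalC O Z).obj P) := by
  letI := (rh O f).toAlgebra
  have hb := η_bijective hP f hX hZ (A := O.obj (op Z)) (RingHom.id _) rfl Function.bijective_id
  haveI := h
  refine (projective_iff_semilinear (RingEquiv.refl _) (AddEquiv.ofBijective _ hb) fun r x => ?_).1 inferInstance
  show η P f (RingHom.id _) rfl (r • x) = r • η P f (RingHom.id _) rfl x
  induction x using TensorProduct.induction_on with
  | zero => rw [smul_zero, map_zero, smul_zero]
  | tmul a m =>
    rw [TensorProduct.smul_tmul', η_tmul, η_tmul]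
    exact mul_smul r a _
  | add x y hx hy => rw [smul_add, map_add, map_add, hx, hy, smul_add]

end Aff

variable {S : Scheme.{u}} {X : AlgSp.Sp S}

/-- An open of a chart as an object of the small etale site. -/
abbrev chartOpen {V : Over S} {q : (AlgSp.yon S).obj V ⟶ X} (hq : AlgSp.RepWith @AlgebraicGeometry.Etale q)
    (W : V.left.Opens) : AlgSp.EtOver X :=
  (compE hq).obj ((AlgSp.EtOver.ofScheme V).obj (AlgSp.etaleOfOpen V.left W))

theorem projective_companion_iff {V : Over S} {q : (AlgSp.yon S).obj V ⟶ X}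
    (hq : AlgSp.RepWith @AlgebraicGeometry.Etale q) (hrep : AlgSp.Representable q)
    [(SheafOfModules.pushforward.{u + 1} (AlgSp.bcRingHom hrep)).IsRightAdjoint]
    (F : AlgSp.ModEt X) {G : V.left.Modules}
    (c : AlgSp.ZarCompanion V.left G ((AlgSp.resSchModEt V).obj ((AlgSp.pullModEt hrep).obj F)))
    (W : V.left.Opens) :
    Module.Projective (V.left.ringCatSheaf.obj.obj (op W)) (G.val.obj (op W)) ↔
      Module.Projective ((AlgSp.OEt X).obj.obj (op (chartOpen hq W))) (Sec F (chartOpen hq W)) := by
  haveI : (SheafOfModules.pushforward.{u + 1} (AlgSp.bcRingHom hq.1)).IsRightAdjoint := ‹_›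
  let E' := (AlgSp.EtOver.ofScheme V).obj (AlgSp.etaleOfOpen V.left W)
  let α : Sec ((AlgSp.pullModEt hrep).obj F) E' ≃ₗ[(AlgSp.OEt ((AlgSp.yon S).obj V)).obj.obj (op E')]
      Sec ((restrMod hq).obj F) E' :=
    ((evalC (AlgSp.OEt ((AlgSp.yon S).obj V)).obj E').mapIso
      ((SheafOfModules.forget _).mapIso ((pullIso hq).app F))).toLinearEquiv
  let e : G.val.obj (op W) ≃+ Sec F (chartOpen hq W) :=
    (AddEquiv.ulift.symm.trans (c.iso W).symm).trans α.toAddEquiv
  let σ : Γ(V.left, W) ≃+* (AlgSp.OEt X).obj.obj (op (chartOpen hq W)) :=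
    W.topIso.symm.commRingCatIsoToRingEquiv.trans ULift.ringEquiv.symm
  refine projective_iff_semilinear (R := Γ(V.left, W)) σ e fun r x => ?_
  have h1 : (c.iso W).symm (ULift.up (r • x)) =
      (ULift.up (W.topIso.inv r) : (AlgSp.OEtSchRing V.left).obj.obj (op (AlgSp.etaleOfOpen V.left W))) •
        (c.iso W).symm (ULift.up x) := by
    apply (c.iso W).injective
    rw [AddEquiv.apply_symm_apply, c.map_smul, AddEquiv.apply_symm_apply]
  show α ((c.iso W).symm (ULift.up (r • x))) = σ r • α ((c.iso W).symm (ULift.up x))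
  rw [h1]
  exact α.map_smul (σ r) _

/-- Projectivity of sections over all affine charts, from one surjective chart. -/
theorem projective_sec_of_chart (hX : AlgSp.IsAlgSpace X) {F : AlgSp.ModEt X} (hF : QC F) {U : Over S}
    {p : (AlgSp.yon S).obj U ⟶ X} (hp : AlgSp.RepWith @AlgebraicGeometry.Etale p)
    (hs : AlgSp.RepWith @AlgebraicGeometry.Surjective p)
    (h : ∀ W : U.left.Opens, IsAffineOpen W →
      Module.Projective ((AlgSp.OEt X).obj.obj (op (chartOpen hp W))) (Sec F (chartOpen hp W)))
    {E : AlgSp.EtOver X} (hE : Aff X E) : Module.Projective ((AlgSp.OEt X).obj.obj (op E)) (Sec F E) := by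
  have key : ∀ x : E.obj.left.left, ∃ (D : AlgSp.EtOver X) (d : D ⟶ E) (W : U.left.Opens) (_ : IsAffineOpen W)
      (_ : D ⟶ chartOpen hp W), Aff X D ∧ x ∈ Set.range d.hom.left.left := by
    intro x
    obtain ⟨u, hu⟩ := ASp.surjective_ofPt hs (AlgSp.Points.ofPt E.obj.hom x)
    obtain ⟨P, t, s, r, ht, hs', hts, rfl, hsr⟩ := ASp.exists_common_point E.property hp hu.symm
    obtain ⟨W, hW, huW, -⟩ := exists_isAffineOpen_mem_and_subset (x := u) (U := (⊤ : U.left.Opens)) trivial
    obtain ⟨D₀, hD₀, hrD, hDW⟩ := exists_isAffineOpen_mem_and_subset (x := r) (U := s.left ⁻¹ᵁ W)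
      (show s.left r ∈ W by rw [hsr]; exact huW)
    let z : Over.mk (D₀.ι ≫ P.hom) ⟶ P := Over.homMk D₀.ι rfl
    haveI : AlgebraicGeometry.Etale t.left := ht
    let D : AlgSp.EtOver X := AlgSp.EtOver.mk ((AlgSp.yon S).map (z ≫ t) ≫ E.obj.hom)
      (ASp.repWith_comp (ASp.repWith_yon_map (g := z ≫ t) (inferInstanceAs (AlgebraicGeometry.Etale (D₀.ι ≫ t.left))))
        E.property)
    let l₀ : D₀.toScheme ⟶ W.toScheme := IsOpenImmersion.lift W.ι (D₀.ι ≫ s.left) (by
      rw [Scheme.Opens.range_ι]
      rintro _ ⟨y, rfl⟩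
      exact hDW y.2)
    have hl₀ : l₀ ≫ W.ι = D₀.ι ≫ s.left := IsOpenImmersion.lift_fac _ _ _
    let m : D.obj.left ⟶ (chartOpen hp W).obj.left := Over.homMk l₀ (by
      show l₀ ≫ W.ι ≫ U.hom = D₀.ι ≫ P.hom
      rw [reassoc_of% hl₀, Over.w])
    refine ⟨D, AlgSp.EtOver.homMk (z ≫ t) rfl, W, hW, AlgSp.EtOver.homMk m ?_, hD₀, ⟨r, hrD⟩, rfl⟩
    have hm : m ≫ AlgSp.EtOver.homOfEtale (AlgSp.etaleOfOpen U.left W) = z ≫ s := Over.OverMorphism.ext hl₀
    show (AlgSp.yon S).map m ≫ ((AlgSp.yon S).map (AlgSp.EtOver.homOfEtale (AlgSp.etaleOfOpen U.left W)) ≫ 𝟙 _) ≫ p =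
      (AlgSp.yon S).map (z ≫ t) ≫ E.obj.hom
    rw [Category.comp_id, ← Category.assoc, ← Functor.map_comp, hm, Functor.map_comp, Functor.map_comp,
      Category.assoc, Category.assoc, hts]
  choose D d W hW m hD hx using key
  obtain ⟨n, Z, f, hZ, hf, hsurj⟩ := (affSite X).refine_cover hE _
    (AlgSp.ofArrows_mem_etTop D d fun x => ⟨x, hx x⟩)
  refine hF.projective (affSite X) hE f hZ hsurj fun k => ?_
  obtain ⟨x, a, -⟩ := Sieve.mem_ofArrows_iff _ _ _ |>.1 (hf k)
  exact hF.projective_of_hom (a ≫ m x) (show Aff X _ from hW x) (hZ k) (h _ (hW x))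

end Groth.Agent.AlgSpQC
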