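import Groth.Agent.AlgSpQC.Main
import Groth.Prelude.Def_AlgSpModX
import Groth.Agent.QCohLib.Criterion
/-!
Zariski companions of modules on the small etale site with small sections.
-/

set_option autoImplicit false
set_option linter.style.haveILetI false
set_option backward.isDefEq.respectTransparency false
set_option backward.isDefEq.respectTransparency.types false
set_option maxHeartbeats 1600000

universe u

open CategoryTheory Limits AlgebraicGeometry Opposite TopologicalSpace

noncomputable section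

namespace Groth.Agent.AlgSpQC

variable {T : Scheme.{u}} (M : AlgSp.ModEtSch T)

/-- Functions on an open as functions on the corresponding object of the small etale site. -/
def χop (W : T.Opens) : Γ(T, W) →+* (AlgSp.OEtSchRing T).obj.obj (op (AlgSp.etaleOfOpen T W)) :=
  (ULift.ringEquiv.symm.toRingHom : Γ(W.toScheme, ⊤) →+* _).comp W.topIso.inv.hom

theorem χop_bijective (W : T.Opens) : Function.Bijective (χop W) :=
  (ULift.ringEquiv (R := Γ(W.toScheme, ⊤))).symm.bijective.comp (ConcreteCategory.bijective_of_isIso W.topIso.inv)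

theorem χop_res {W W' : T.Opens} (h : W' ≤ W) (a : Γ(T, W)) :
    (AlgSp.OEtSchRing T).obj.map (AlgSp.etaleOfLE h).op (χop W a) = χop W' (T.presheaf.map (homOfLE h).op a) := by
  refine congrArg ULift.up ?_
  show (T.homOfLE h).appTop (W.topIso.inv a) = W'.topIso.inv (T.presheaf.map (homOfLE h).op a)
  rw [Scheme.homOfLE_appTop]
  simp only [Scheme.Opens.topIso_inv]
  rw [← ConcreteCategory.comp_apply, ← ConcreteCategory.comp_apply]
  simp only [Scheme.Opens.toScheme_presheaf_map, ← Functor.map_comp]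
  rfl

/-- Sections over an open. -/
abbrev SecOp (W : T.Opens) : Type (u + 1) := M.val.obj (op (AlgSp.etaleOfOpen T W))

/-- Restriction to a smaller open. -/
def resOp {W W' : T.Opens} (h : W' ≤ W) : SecOp M W →+ SecOp M W' := (M.val.presheaf.map (AlgSp.etaleOfLE h).op).hom

theorem resOp_trans {W W' W'' : T.Opens} (h : W' ≤ W) (h' : W'' ≤ W') (x : SecOp M W) :
    resOp M h' (resOp M h x) = resOp M (h'.trans h) x := by
  refine (ConcreteCategory.congr_hom (M.val.presheaf.map_comp (AlgSp.etaleOfLE h).op (AlgSp.etaleOfLE h').op) x).symm.trans ?_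
  refine congrArg (fun k => M.val.presheaf.map k x) ?_
  rw [← op_comp]
  congr 1
  exact MorphismProperty.Over.Hom.ext (T.homOfLE_homOfLE h' h)

theorem resOp_self (W : T.Opens) (x : SecOp M W) : resOp M (le_refl W) x = x := by
  have : AlgSp.etaleOfLE (le_refl W) = 𝟙 (AlgSp.etaleOfOpen T W) := MorphismProperty.Over.Hom.ext (T.homOfLE_rfl W)
  show M.val.presheaf.map (AlgSp.etaleOfLE (le_refl W)).op x = x
  rw [this, op_id, CategoryTheory.Functor.map_id]
  rfl

theorem resOp_smul {W W' : T.Opens} (h : W' ≤ W) (a : Γ(T, W)) (x : SecOp M W) :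
    resOp M h (χop W a • x) = χop W' (T.presheaf.map (homOfLE h).op a) • resOp M h x := by
  refine (M.val.map_smul (AlgSp.etaleOfLE h).op (χop W a) x).trans ?_
  exact congrArg (fun r : (AlgSp.OEtSchRing T).obj.obj (op (AlgSp.etaleOfOpen T W')) => r • resOp M h x) (χop_res h a)

/-- Unique gluing over open coverings. -/
theorem existsUnique_glueOp {ι : Type u} {W : T.Opens} (U : ι → T.Opens) (hle : ∀ a, U a ≤ W)
    (hcov : W ≤ ⨆ a, U a) (s : ∀ a, SecOp M (U a))
    (hs : ∀ a b, resOp M (inf_le_left : U a ⊓ U b ≤ U a) (s a) = resOp M (inf_le_right : U a ⊓ U b ≤ U b) (s b)) :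
    ∃! t : SecOp M W, ∀ a, resOp M (hle a) t = s a := by
  have hmem : Sieve.ofArrows (fun a => AlgSp.etaleOfOpen T (U a)) (fun a => AlgSp.etaleOfLE (hle a)) ∈
      T.smallEtaleTopology (AlgSp.etaleOfOpen T W) := by
    rw [Scheme.ofArrows_mem_smallEtaleTopology_iff]
    refine Set.eq_univ_of_forall fun z => ?_
    obtain ⟨a, ha⟩ := Opens.mem_iSup.1 (hcov z.2)
    exact Set.mem_iUnion.2 ⟨a, ⟨z.1, ha⟩, W.ι.isOpenEmbedding.injective
      ((Scheme.Hom.comp_apply _ _ _).symm.trans (by rw [show (AlgSp.etaleOfLE (hle a)).left = T.homOfLE (hle a) from rfl, Scheme.homOfLE_ι]; rfl))⟩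
  have hF := (isSheaf_iff_isSheaf_of_type T.smallEtaleTopology (M.val.presheaf ⋙ forget AddCommGrpCat.{u + 1})).1
    (Presheaf.isSheaf_comp_of_isSheaf T.smallEtaleTopology M.val.presheaf (forget AddCommGrpCat.{u + 1}) M.isSheaf) _ hmem
  have hsh := (Presieve.isSheafFor_iff_generate _).2 hF
  refine (Presieve.isSheafFor_arrows_iff _ _).1 hsh s fun a b V ga gb e => ?_
  have e' : ga.left ≫ (U a).ι = gb.left ≫ (U b).ι := (MorphismProperty.Over.w ga).trans (MorphismProperty.Over.w gb).symm
  have hr : Set.range (ga.left ≫ (U a).ι) ⊆ Set.range (U a ⊓ U b).ι := by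
    rw [Scheme.Opens.range_ι]
    rintro _ ⟨v, rfl⟩
    refine ⟨(ga.left v).2, ?_⟩
    rw [e']
    exact (gb.left v).2
  let l : V ⟶ AlgSp.etaleOfOpen T (U a ⊓ U b) :=
    MorphismProperty.Over.homMk (IsOpenImmersion.lift (U a ⊓ U b).ι _ hr)
      ((IsOpenImmersion.lift_fac _ _ hr).trans (MorphismProperty.Over.w ga)) trivial
  have h₁ : ga = l ≫ AlgSp.etaleOfLE (inf_le_left : U a ⊓ U b ≤ U a) := MorphismProperty.Over.Hom.ext (by
    rw [← cancel_mono (U a).ι]
    show _ = (IsOpenImmersion.lift _ _ hr ≫ T.homOfLE (inf_le_left : U a ⊓ U b ≤ U a)) ≫ (U a).ι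
    rw [Category.assoc, Scheme.homOfLE_ι, IsOpenImmersion.lift_fac])
  have h₂ : gb = l ≫ AlgSp.etaleOfLE (inf_le_right : U a ⊓ U b ≤ U b) := MorphismProperty.Over.Hom.ext (by
    rw [← cancel_mono (U b).ι]
    show _ = (IsOpenImmersion.lift _ _ hr ≫ T.homOfLE (inf_le_right : U a ⊓ U b ≤ U b)) ≫ (U b).ι
    rw [Category.assoc, Scheme.homOfLE_ι, IsOpenImmersion.lift_fac, e'])
  rw [h₁, h₂, op_comp, op_comp, Functor.map_comp, Functor.map_comp]
  exact congrArg (fun z => ((M.val.presheaf ⋙ forget AddCommGrpCat.{u + 1}).map l.op) z) (hs a b)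

theorem small_secOp (h : ∀ W : T.Opens, IsAffineOpen W → Small.{u} (SecOp M W)) (W : T.Opens) :
    Small.{u} (SecOp M W) := by
  let ι := {U : T.Opens // IsAffineOpen U ∧ U ≤ W}
  haveI : ∀ a : ι, Small.{u} (SecOp M a.1) := fun a => h a.1 a.2.1
  refine small_of_injective (f := fun (x : SecOp M W) (a : ι) => resOp M a.2.2 x) fun x y hxy => ?_
  have hcov : W ≤ ⨆ a : ι, a.1 := fun z hz => by
    obtain ⟨U, hU, hzU, hUW⟩ := exists_isAffineOpen_mem_and_subset (x := z) (U := W) hz
    exact Opens.mem_iSup.2 ⟨⟨U, hU, hUW⟩, hzU⟩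
  exact (existsUnique_glueOp M (fun a : ι => a.1) (fun a => a.2.2) hcov (fun a => resOp M a.2.2 x)
    fun a b => by rw [resOp_trans, resOp_trans]).unique (fun a => rfl) fun a => (congrFun hxy a).symm

variable [∀ W, Small.{u} (SecOp M W)]

/-- The presheaf of small groups of sections. -/
def shrinkPre : (T.Opens)ᵒᵖ ⥤ AddCommGrpCat.{u} where
  obj W := AddCommGrpCat.of (Shrink.{u} (SecOp M W.unop))
  map {W W'} i := AddCommGrpCat.ofHom (((Shrink.addEquiv (α := SecOp M W'.unop)).symm.toAddMonoidHom.comp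
    (resOp M i.unop.le)).comp (Shrink.addEquiv (α := SecOp M W.unop)).toAddMonoidHom)
  map_id W := by
    refine AddCommGrpCat.ext fun x => ?_
    show (Shrink.addEquiv).symm (resOp M (le_refl W.unop) (Shrink.addEquiv x)) = x
    rw [resOp_self, AddEquiv.symm_apply_apply]
  map_comp {W W' W''} i j := by
    refine AddCommGrpCat.ext fun x => ?_
    show (Shrink.addEquiv).symm (resOp M _ (Shrink.addEquiv x)) =
      (Shrink.addEquiv).symm (resOp M j.unop.le (Shrink.addEquiv ((Shrink.addEquiv).symm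
        (resOp M i.unop.le (Shrink.addEquiv x)))))
    rw [AddEquiv.apply_symm_apply, resOp_trans]

instance (W : (T.Opens)ᵒᵖ) : Module (T.ringCatSheaf.obj.obj W) ((shrinkPre M).obj W) :=
  letI : Module (T.ringCatSheaf.obj.obj W) (SecOp M W.unop) := Module.compHom _ (χop W.unop)
  inferInstanceAs (Module (T.ringCatSheaf.obj.obj W) (Shrink.{u} (SecOp M W.unop)))

theorem addEquiv_smul (W : T.Opens) (r : T.ringCatSheaf.obj.obj (op W)) (x : (shrinkPre M).obj (op W)) :
    (Shrink.addEquiv (α := SecOp M W)) (r • x) = χop W r • (Shrink.addEquiv (α := SecOp M W)) x := by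
  letI : Module (T.ringCatSheaf.obj.obj (op W)) (SecOp M W) := Module.compHom _ (χop W)
  exact (Shrink.linearEquiv (T.ringCatSheaf.obj.obj (op W)) (SecOp M W)).map_smul r x

theorem shrinkPre_map_smul {W W' : (T.Opens)ᵒᵖ} (i : W ⟶ W') (r : T.ringCatSheaf.obj.obj W) (x : (shrinkPre M).obj W) :
    (shrinkPre M).map i (r • x) = T.ringCatSheaf.obj.map i r • (shrinkPre M).map i x := by
  apply (Shrink.addEquiv (α := SecOp M W'.unop)).injective
  rw [addEquiv_smul]
  show Shrink.addEquiv (Shrink.addEquiv.symm (resOp M i.unop.le (Shrink.addEquiv (r • x)))) =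
    _ • Shrink.addEquiv (Shrink.addEquiv.symm (resOp M i.unop.le (Shrink.addEquiv x)))
  rw [AddEquiv.apply_symm_apply, AddEquiv.apply_symm_apply, addEquiv_smul, resOp_smul]
  rfl

theorem isSheaf_shrinkPre : Presheaf.IsSheaf (Opens.grothendieckTopology T) (shrinkPre M) := by
  refine (TopCat.Presheaf.isSheaf_iff_isSheafUniqueGluing (C := AddCommGrpCat.{u}) (X := T.toTopCat) (shrinkPre M)).2 ?_
  intro ι U sf hsf
  obtain ⟨t, ht, htu⟩ := existsUnique_glueOp M (W := iSup U) U (fun a => le_iSup U a) le_rfl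
    (fun a => Shrink.addEquiv (α := SecOp M (U a)) (sf a)) fun a b => by
      exact (Shrink.addEquiv (α := SecOp M (U a ⊓ U b))).symm.injective (hsf a b)
  refine ⟨(Shrink.addEquiv (α := SecOp M (iSup U))).symm t, fun a => ?_, fun y hy => ?_⟩
  · show Shrink.addEquiv.symm (resOp M _ (Shrink.addEquiv (Shrink.addEquiv.symm t))) = sf a
    rw [AddEquiv.apply_symm_apply, ht a, AddEquiv.symm_apply_apply]
  · refine (Shrink.addEquiv (α := SecOp M (iSup U))).injective ?_
    rw [AddEquiv.apply_symm_apply]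
    refine htu _ fun a => ?_
    have := hy a
    rw [← this]
    exact ((Shrink.addEquiv (α := SecOp M (U a))).apply_symm_apply _).symm

/-- The small Zariski module. -/
def zarMod : T.Modules where
  val := PresheafOfModules.ofPresheaf (R := T.ringCatSheaf.obj) (shrinkPre M) fun {_ _} i r x => shrinkPre_map_smul M i r x
  isSheaf := isSheaf_shrinkPre M

/-- It is a companion of `M`. -/
def zarCompanion : AlgSp.ZarCompanion T (zarMod M) M where
  iso W := (Shrink.addEquiv (α := SecOp M W)).symm.trans AddEquiv.ulift.symm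
  map_smul W a x := by
    refine congrArg ULift.up ((Shrink.addEquiv (α := SecOp M W)).injective ?_)
    exact ((Shrink.addEquiv (α := SecOp M W)).apply_symm_apply _).trans
      ((congrArg (χop W a • ·) ((Shrink.addEquiv (α := SecOp M W)).apply_symm_apply x).symm).trans
        (addEquiv_smul M W a _).symm)
  map_res {W W'} h x := by
    refine congrArg ULift.up ?_
    show Shrink.addEquiv.symm (resOp M h x) =
      Shrink.addEquiv.symm (resOp M h (Shrink.addEquiv (Shrink.addEquiv.symm x)))
    rw [AddEquiv.apply_symm_apply]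

theorem isQCoh_zarMod
    (hext : ∀ W : T.Opens, IsAffineOpen W → ∀ (f : Γ(T, W)) (t : SecOp M (T.basicOpen f)), ∃ (n : ℕ) (s : SecOp M W),
      resOp M (T.basicOpen_le f) s = χop (T.basicOpen f) (T.presheaf.map (homOfLE (T.basicOpen_le f)).op (f ^ n)) • t)
    (hkill : ∀ W : T.Opens, IsAffineOpen W → ∀ (f : Γ(T, W)) (s : SecOp M W),
      resOp M (T.basicOpen_le f) s = 0 → ∃ n : ℕ, χop W (f ^ n) • s = 0) :
    Coh.IsQCoh (zarMod M) := by
  refine (QCohLib.isQCoh_iff _).2 fun W hW => ⟨fun f t => ?_, fun f s hs => ?_⟩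
  · obtain ⟨n, s, hs⟩ := hext W hW f (Shrink.addEquiv (α := SecOp M (T.basicOpen f)) t)
    refine ⟨n, (Shrink.addEquiv (α := SecOp M W)).symm s, ?_⟩
    rw [CohBase.sc_apply]
    apply (Shrink.addEquiv (α := SecOp M (T.basicOpen f))).injective
    refine (((Shrink.addEquiv (α := SecOp M (T.basicOpen f))).apply_symm_apply _).trans ?_).trans
      (addEquiv_smul M _ _ t).symm
    exact (congrArg (resOp M (T.basicOpen_le f)) ((Shrink.addEquiv (α := SecOp M W)).apply_symm_apply s)).trans hs
  · obtain ⟨n, hn⟩ := hkill W hW f (Shrink.addEquiv (α := SecOp M W) s) (by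
      have := congrArg (Shrink.addEquiv (α := SecOp M (T.basicOpen f))) hs
      exact (((Shrink.addEquiv (α := SecOp M (T.basicOpen f))).apply_symm_apply _).symm.trans this).trans (map_zero _))
    refine ⟨n, ?_⟩
    rw [CohBase.sc_apply]
    apply (Shrink.addEquiv (α := SecOp M W)).injective
    refine (addEquiv_smul M W _ s).trans ?_
    rw [show T.presheaf.map (homOfLE (le_refl W)).op (f ^ n) = f ^ n by simp, hn]
    exact (map_zero _).symm

end Groth.Agent.AlgSpQC
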