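import Groth.Agent.AlgSpQC.ProjPull
import Groth.Agent.AlgSpQC.ZarComp
/-!
Quasi-coherent modules with small sections have Zariski companions; pullback preserves local projectivity.
-/

set_option autoImplicit false
set_option linter.style.haveILetI false
set_option backward.isDefEq.respectTransparency false
set_option backward.isDefEq.respectTransparency.types false
set_option maxHeartbeats 3200000

universe u

open CategoryTheory Limits AlgebraicGeometry Opposite TopologicalSpace TensorProduct

noncomputable section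

namespace Groth.Agent.AlgSpQC

/-- Companions are transported along isomorphisms. -/
def companionOfIso {T : Scheme.{u}} {F : T.Modules} {M' M : AlgSp.ModEtSch T} (α : M' ≅ M)
    (c : AlgSp.ZarCompanion T F M) : AlgSp.ZarCompanion T F M' where
  iso W := (((PresheafOfModules.evaluation _ (op (AlgSp.etaleOfOpen T W))).mapIso
    ((SheafOfModules.forget _).mapIso α)).toLinearEquiv).toAddEquiv.trans (c.iso W)
  map_smul W a m := by
    rw [AddEquiv.trans_apply, AddEquiv.trans_apply]
    exact (congrArg (c.iso W) (map_smul (((PresheafOfModules.evaluation _ (op (AlgSp.etaleOfOpen T W))).mapIso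
      ((SheafOfModules.forget _).mapIso α)).toLinearEquiv) _ m)).trans (c.map_smul W a _)
  map_res {W W'} h m := by
    rw [AddEquiv.trans_apply, AddEquiv.trans_apply]
    exact (congrArg (c.iso W') (PresheafOfModules.naturality_apply α.hom.val (AlgSp.etaleOfLE h).op m)).trans
      (c.map_res h _)

variable {S : Scheme.{u}} {Y : AlgSp.Sp S} {V : Over S} {q : (AlgSp.yon S).obj V ⟶ Y}
  (hq : AlgSp.RepWith @AlgebraicGeometry.Etale q)

/-- Inclusion of charts of opens. -/
def chartLE {W W' : V.left.Opens} (h : W' ≤ W) : chartOpen hq W' ⟶ chartOpen hq W :=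
  (compE hq).map ((AlgSp.EtOver.ofScheme V).map (AlgSp.etaleOfLE h))

/-- The functions of a basic open form a localisation. -/
theorem isLocalization_chartLE {W : V.left.Opens} (hW : IsAffineOpen W) (f : Γ(V.left, W)) :
    letI := (rh (AlgSp.OEt Y).obj (chartLE hq (V.left.basicOpen_le f))).toAlgebra
    IsLocalization (Submonoid.powers (show (AlgSp.OEt Y).obj.obj (op (chartOpen hq W)) from χop W f))
      ((AlgSp.OEt Y).obj.obj (op (chartOpen hq (V.left.basicOpen f)))) := by
  let D := V.left.basicOpen f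
  letI := (rh (AlgSp.OEt Y).obj (chartLE hq (V.left.basicOpen_le f))).toAlgebra
  have := hW.isLocalization_basicOpen f
  let R := (AlgSp.OEt Y).obj.obj (op (chartOpen hq W))
  let A := (AlgSp.OEt Y).obj.obj (op (chartOpen hq D))
  let χR : Γ(V.left, W) →+* R := χop W
  let χA : Γ(V.left, D) →+* A := χop D
  have hbR : Function.Bijective χR := χop_bijective W
  have hbA : Function.Bijective χA := χop_bijective D
  have hr : ∀ a, algebraMap R A (χR a) = χA (algebraMap Γ(V.left, W) Γ(V.left, D) a) :=
    fun a => χop_res (V.left.basicOpen_le f) a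
  show IsLocalization (Submonoid.powers (χR f)) A
  rw [isLocalization_iff]
  refine ⟨?_, fun z => ?_, ?_⟩
  · rintro ⟨_, n, rfl⟩
    show IsUnit (algebraMap R A (χR f ^ n))
    rw [map_pow, hr]
    exact ((IsLocalization.Away.algebraMap_isUnit (S := Γ(V.left, D)) f).map χA).pow n
  · obtain ⟨z, rfl⟩ := hbA.2 z
    obtain ⟨⟨x, ⟨_, n, rfl⟩⟩, hx⟩ := IsLocalization.surj (Submonoid.powers f) z
    refine ⟨⟨χR x, ⟨χR (f ^ n), n, (map_pow χR f n).symm⟩⟩, ?_⟩
    show χA z * algebraMap R A (χR (f ^ n)) = algebraMap R A (χR x)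
    rw [hr, hr]
    exact (map_mul χA z _).symm.trans (congrArg χA hx)
  · intro x y h
    obtain ⟨x, rfl⟩ := hbR.2 x
    obtain ⟨y, rfl⟩ := hbR.2 y
    rw [hr, hr] at h
    obtain ⟨⟨_, n, rfl⟩, hc⟩ := IsLocalization.exists_of_eq (M := Submonoid.powers f) (hbA.1 h)
    refine ⟨⟨χR (f ^ n), n, (map_pow χR f n).symm⟩, ?_⟩
    exact (map_mul χR _ x).symm.trans ((congrArg χR hc).trans (map_mul χR _ y))

variable {G : AlgSp.ModEt Y}

/-- Sections over a basic open extend up to a power. -/
theorem exists_pow_sec (hG : QC G) {W : V.left.Opens} (hW : IsAffineOpen W) (f : Γ(V.left, W))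
    (t : Sec G (chartOpen hq (V.left.basicOpen f))) :
    ∃ (n : ℕ) (x : Sec G (chartOpen hq W)),
      (show Sec G (chartOpen hq (V.left.basicOpen f)) from
        res (O := (AlgSp.OEt Y).obj) G.val (chartLE hq (V.left.basicOpen_le f)) x) =
      (show (AlgSp.OEt Y).obj.obj (op (chartOpen hq (V.left.basicOpen f))) from
        χop (V.left.basicOpen f) (V.left.presheaf.map (homOfLE (V.left.basicOpen_le f)).op (f ^ n))) • t := by
  let R := (AlgSp.OEt Y).obj.obj (op (chartOpen hq W))
  let A := (AlgSp.OEt Y).obj.obj (op (chartOpen hq (V.left.basicOpen f)))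
  let d := chartLE hq (V.left.basicOpen_le f)
  letI := (rh (AlgSp.OEt Y).obj d).toAlgebra
  haveI := isLocalization_chartLE hq hW f
  let χR : Γ(V.left, W) →+* R := χop W
  haveI : IsLocalization (Submonoid.powers (χR f)) A := isLocalization_chartLE hq hW f
  obtain ⟨w, rfl⟩ := (η_bijective (O := (AlgSp.OEt Y).obj) hG d (show Aff Y _ from hW)
    (show Aff Y _ from hW.basicOpen f) (A := A) (RingHom.id A) rfl Function.bijective_id).2 t
  obtain ⟨⟨x, ⟨_, n, rfl⟩⟩, hx⟩ := IsLocalizedModule.surj (Submonoid.powers (χR f))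
    (TensorProduct.mk R A (Sec G (chartOpen hq W)) 1) w
  refine ⟨n, x, ?_⟩
  replace hx : algebraMap R A (χR f ^ n) • w = (1 : A) ⊗ₜ[R] x := by
    rw [algebraMap_smul]; exact hx
  have h1 := congrArg (η (O := (AlgSp.OEt Y).obj) G.val d (RingHom.id A) rfl) hx
  rw [η_tmul] at h1
  have h2 : ∀ (a : A) (z : A ⊗[R] Sec G (chartOpen hq W)),
      η (O := (AlgSp.OEt Y).obj) G.val d (RingHom.id A) rfl (a • z) =
      a • η (O := (AlgSp.OEt Y).obj) G.val d (RingHom.id A) rfl z := fun a z => by
    induction z using TensorProduct.induction_on with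
    | zero => rw [smul_zero, map_zero, smul_zero]
    | tmul b m =>
      rw [TensorProduct.smul_tmul', η_tmul, η_tmul]
      exact mul_smul a b _
    | add x y hx hy => rw [smul_add, map_add, map_add, hx, hy, smul_add]
  rw [h2] at h1
  refine (one_smul A _).symm.trans (h1.symm.trans ?_)
  refine congrArg (fun r : A => r • η (O := (AlgSp.OEt Y).obj) G.val d (RingHom.id A) rfl w) ?_
  show rh (AlgSp.OEt Y).obj d (χR f ^ n) = _
  rw [show χR f ^ n = χR (f ^ n) from (map_pow χR f n).symm]
  exact χop_res (V.left.basicOpen_le f) (f ^ n)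

/-- Sections vanishing on a basic open are killed by a power. -/
theorem exists_pow_kill_sec (hG : QC G) {W : V.left.Opens} (hW : IsAffineOpen W) (f : Γ(V.left, W))
    (x : Sec G (chartOpen hq W))
    (hx : (show Sec G (chartOpen hq (V.left.basicOpen f)) from
      res (O := (AlgSp.OEt Y).obj) G.val (chartLE hq (V.left.basicOpen_le f)) x) = 0) :
    ∃ n : ℕ, (show (AlgSp.OEt Y).obj.obj (op (chartOpen hq W)) from χop W (f ^ n)) • x = 0 := by
  let R := (AlgSp.OEt Y).obj.obj (op (chartOpen hq W))
  let A := (AlgSp.OEt Y).obj.obj (op (chartOpen hq (V.left.basicOpen f)))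
  let d := chartLE hq (V.left.basicOpen_le f)
  letI := (rh (AlgSp.OEt Y).obj d).toAlgebra
  let χR : Γ(V.left, W) →+* R := χop W
  haveI : IsLocalization (Submonoid.powers (χR f)) A := isLocalization_chartLE hq hW f
  have hb := η_bijective (O := (AlgSp.OEt Y).obj) hG d (show Aff Y _ from hW) (show Aff Y _ from hW.basicOpen f)
    (A := A) (RingHom.id A) rfl Function.bijective_id
  have h0 : TensorProduct.mk R A (Sec G (chartOpen hq W)) 1 x = 0 := hb.1 (by
    rw [map_zero, TensorProduct.mk_apply, η_tmul]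
    exact (one_smul A _).trans hx)
  obtain ⟨⟨_, n, rfl⟩, hn⟩ := (IsLocalizedModule.eq_zero_iff (Submonoid.powers (χR f))
    (TensorProduct.mk R A (Sec G (chartOpen hq W)) 1)).1 h0
  refine ⟨n, ?_⟩
  show χR (f ^ n) • x = 0
  rw [map_pow]
  exact hn

/-- A module restricted to the small etale site of a chart. -/
abbrev chartMod (G : AlgSp.ModEt Y) : AlgSp.ModEtSch V.left := (AlgSp.resSchModEt V).obj ((restrMod hq).obj G)

end Groth.Agent.AlgSpQC
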