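import Groth.Agent.AlgSpQC.PullSec
import Groth.Agent.AlgSpQC.ProjLocal
/-!
Inverse images of modules with projective sections have projective sections.
-/

set_option autoImplicit false
set_option linter.style.haveILetI false
set_option linter.unusedSectionVars false
set_option backward.isDefEq.respectTransparency false
set_option backward.isDefEq.respectTransparency.types false
set_option maxHeartbeats 6400000

universe u

open CategoryTheory Limits AlgebraicGeometry Opposite TensorProduct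

noncomputable section

namespace Groth.Agent.AlgSpQC

variable {S : Scheme.{u}} {X Y : AlgSp.Sp S} {f : X ⟶ Y} (hf : AlgSp.Representable f)
  [(SheafOfModules.pushforward.{u + 1} (AlgSp.bcRingHom hf)).IsRightAdjoint]

/-- Projective sections on affine charts mapping into affine objects with projective sections. -/
theorem projective_pull_sec {G : AlgSp.ModEt Y} (hG : QC G) (hPG : QC ((AlgSp.pullModEt hf).obj G))
    {E : AlgSp.EtOver Y} (hE : Aff Y E) (hproj : Module.Projective ((AlgSp.OEt Y).obj.obj (op E)) (Sec G E))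
    {W : Over S} (hW : IsAffine W.left) {p : (AlgSp.yon S).obj W ⟶ X} (hp : AlgSp.RepWith @AlgebraicGeometry.Etale p)
    (w : W ⟶ E.obj.left) (hsq : p ≫ f = (AlgSp.yon S).map w ≫ E.obj.hom) :
    Module.Projective ((AlgSp.OEt X).obj.obj (op (AlgSp.EtOver.mk p hp)))
      (Sec ((AlgSp.pullModEt hf).obj G) (AlgSp.EtOver.mk p hp)) := by
  let V := E.obj.left
  let q : (AlgSp.yon S).obj V ⟶ Y := E.obj.hom
  have hq : AlgSp.RepWith @AlgebraicGeometry.Etale q := E.property
  let g : (AlgSp.yon S).obj W ⟶ (AlgSp.yon S).obj V := (AlgSp.yon S).map w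
  have hg : AlgSp.Representable g := AlgSp.representable_yon_map _
  have he : AlgSp.Representable (p ≫ f) := MorphismProperty.IsStableUnderComposition.comp_mem _ _ hp.1 hf
  obtain ⟨P⟩ := nonempty_presentation (O := AlgSp.OEt ((AlgSp.yon S).obj V)) (affSite _) (isTerminalTid V)
    (qc_restr hq hG) (show Aff _ (Tid V) from hE)
  let r : AlgSp.freeModEt ((AlgSp.yon S).obj V) P.relations.I ⟶ AlgSp.freeModEt ((AlgSp.yon S).obj V) P.generators.I :=
    P.relations.π ≫ kernel.ι P.generators.π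
  let i : cokernel r ≅ (restrMod hq).obj G := (colimit.isColimit _).coconePointUniqueUpToIso P.isColimit
  let T₀ := (AlgSp.EtOver.bc hg).obj (Tid V)
  let ι₀ : T₀ ≅ Tid W := (isTerminalBcTid hg).uniqueUpToIso (isTerminalTid W)
  have hT₀ : Aff _ T₀ := by
    haveI : IsAffine ((AlgSp.EtOver.toScheme ((AlgSp.yon S).obj W)).obj (Tid W)) := hW
    exact IsAffine.of_isIso ((AlgSp.EtOver.toScheme _).mapIso ι₀).hom
  obtain ⟨Q, hQ, ⟨ψ⟩, e, he'⟩ := exists_pull_coker_sec hg r hE hT₀
  let c : AlgSp.pushModEt hg ⋙ AlgSp.pushModEt hq.1 ≅ AlgSp.pushModEt hp.1 ⋙ AlgSp.pushModEt hf :=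
    pushCompIso hg hq.1 he hsq.symm ≪≫ (pushCompIso hp.1 hf he rfl).symm
  let k := isoOfCorep ((AlgSp.pullPushAdjModEt hf).comp (restrAdj hp)) (restrAdj hq) c G i e he'
  let iV : Sec (cokernel r) (Tid V) ≃ₗ[(AlgSp.OEt ((AlgSp.yon S).obj V)).obj.obj (op (Tid V))]
      Sec ((restrMod hq).obj G) (Tid V) :=
    ((evalC (AlgSp.OEt ((AlgSp.yon S).obj V)).obj (Tid V)).mapIso ((SheafOfModules.forget _).mapIso i)).toLinearEquiv
  haveI : Module.Projective ((AlgSp.OEt ((AlgSp.yon S).obj V)).obj.obj (op (Tid V)))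
      (Sec ((restrMod hq).obj G) (Tid V)) := by
    let k₀ : (compE hq).obj (Tid V) ⟶ E := AlgSp.EtOver.homMk (𝟙 _) (by
      show (AlgSp.yon S).map (𝟙 _) ≫ q = 𝟙 _ ≫ q
      simp)
    exact hG.projective_of_hom k₀ hE (show Aff Y ((compE hq).obj (Tid V)) from hE) hproj
  haveI : Module.Projective ((AlgSp.OEt ((AlgSp.yon S).obj V)).obj.obj (op (Tid V))) (Sec (cokernel r) (Tid V)) :=
    Module.Projective.of_equiv' iV.symm
  letI := (rπ hg (Tid V)).toAlgebra
  let iW : Sec Q T₀ ≃ₗ[(AlgSp.OEt ((AlgSp.yon S).obj W)).obj.obj (op T₀)]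
      Sec ((restrMod hp).obj ((AlgSp.pullModEt hf).obj G)) T₀ :=
    ((evalC (AlgSp.OEt ((AlgSp.yon S).obj W)).obj T₀).mapIso ((SheafOfModules.forget _).mapIso k)).toLinearEquiv
  have hT : Module.Projective ((AlgSp.OEt X).obj.obj (op ((compE hp).obj T₀)))
      (Sec ((AlgSp.pullModEt hf).obj G) ((compE hp).obj T₀)) :=
    show Module.Projective ((AlgSp.OEt ((AlgSp.yon S).obj W)).obj.obj (op T₀))
      (Sec ((restrMod hp).obj ((AlgSp.pullModEt hf).obj G)) T₀) from
    Module.Projective.of_equiv' (ψ ≪≫ₗ iW)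
  let k₁ : AlgSp.EtOver.mk p hp ⟶ (compE hp).obj T₀ := AlgSp.EtOver.homMk ι₀.inv.hom.left (by
    show (AlgSp.yon S).map ι₀.inv.hom.left ≫ T₀.obj.hom ≫ p = p
    rw [← Category.assoc]
    refine (congrArg (· ≫ p) (AlgSp.EtOver.w ι₀.inv)).trans ?_
    exact Category.id_comp p)
  exact hPG.projective_of_hom k₁ hT₀ hW hT

end Groth.Agent.AlgSpQC
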