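import Groth.Agent.AlgSpQC.ProjPull
import Groth.Agent.ASp.ChartDim
/-!
Projectivity of the sections of inverse images over all affine objects.
-/

set_option autoImplicit false
set_option linter.style.haveILetI false
set_option backward.isDefEq.respectTransparency false
set_option backward.isDefEq.respectTransparency.types false
set_option maxHeartbeats 1600000

universe u

open CategoryTheory Limits AlgebraicGeometry Opposite

noncomputable section

namespace Groth.Agent.AlgSpQC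

variable {S : Scheme.{u}} {X Y : AlgSp.Sp S}

/-- Sections on an affine object are sections on its whole chart. -/
theorem projective_of_top {G : AlgSp.ModEt Y} (hQ : QC G) {E : AlgSp.EtOver Y} (hE : Aff Y E)
    (h : Module.Projective ((AlgSp.OEt Y).obj.obj (op (chartOpen E.property (⊤ : E.obj.left.left.Opens))))
      (Sec G (chartOpen E.property (⊤ : E.obj.left.left.Opens)))) :
    Module.Projective ((AlgSp.OEt Y).obj.obj (op E)) (Sec G E) := by
  haveI : IsAffine E.obj.left.left := hE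
  let m : E.obj.left ⟶ (chartOpen E.property (⊤ : E.obj.left.left.Opens)).obj.left :=
    Over.homMk (Scheme.topIso E.obj.left.left).inv (by
      show (Scheme.topIso E.obj.left.left).inv ≫ (⊤ : E.obj.left.left.Opens).ι ≫ E.obj.left.hom = E.obj.left.hom
      rw [← Scheme.topIso_hom, Iso.inv_hom_id_assoc])
  have hm : m ≫ AlgSp.EtOver.homOfEtale (AlgSp.etaleOfOpen E.obj.left.left (⊤ : E.obj.left.left.Opens)) = 𝟙 _ :=
    Over.OverMorphism.ext (by
      show (Scheme.topIso E.obj.left.left).inv ≫ (⊤ : E.obj.left.left.Opens).ι = 𝟙 _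
      rw [← Scheme.topIso_hom, Iso.inv_hom_id])
  let k : E ⟶ chartOpen E.property (⊤ : E.obj.left.left.Opens) := AlgSp.EtOver.homMk m (by
    show (AlgSp.yon S).map m ≫ ((AlgSp.yon S).map (AlgSp.EtOver.homOfEtale
      (AlgSp.etaleOfOpen E.obj.left.left (⊤ : E.obj.left.left.Opens))) ≫ 𝟙 _) ≫ E.obj.hom = E.obj.hom
    rw [Category.comp_id, ← Category.assoc, ← Functor.map_comp, hm, CategoryTheory.Functor.map_id]
    exact Category.id_comp _)
  exact hQ.projective_of_hom k (show Aff Y _ from isAffineOpen_top E.obj.left.left) hE h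

/-- Inverse images of locally projective modules have projective sections over affine objects. -/
theorem projective_pull_all (hY : AlgSp.IsAlgSpace Y) {f : X ⟶ Y} (hf : AlgSp.Representable f)
    [(SheafOfModules.pushforward.{u + 1} (AlgSp.bcRingHom hf)).IsRightAdjoint] {G : AlgSp.ModEt Y} (hG : QC G)
    (hPG : QC ((AlgSp.pullModEt hf).obj G))
    (hproj : ∀ E : AlgSp.EtOver Y, Aff Y E → Module.Projective ((AlgSp.OEt Y).obj.obj (op E)) (Sec G E))
    {E : AlgSp.EtOver X} (hE : Aff X E) :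
    Module.Projective ((AlgSp.OEt X).obj.obj (op E)) (Sec ((AlgSp.pullModEt hf).obj G) E) := by
  obtain ⟨U₀, q₀, hq₀, hs₀⟩ := hY.atlas
  have key : ∀ x : E.obj.left.left, ∃ (D : AlgSp.EtOver X) (d : D ⟶ E), Aff X D ∧ x ∈ Set.range d.hom.left.left ∧
      Module.Projective ((AlgSp.OEt X).obj.obj (op D)) (Sec ((AlgSp.pullModEt hf).obj G) D) := by
    intro x
    let g : (AlgSp.yon S).obj E.obj.left ⟶ Y := E.obj.hom ≫ f
    obtain ⟨u₀, hu⟩ := ASp.surjective_ofPt hs₀ (AlgSp.Points.ofPt g x)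
    obtain ⟨P, s, t, sq⟩ : ∃ (P : Over S) (s : P ⟶ U₀) (t : P ⟶ E.obj.left),
        IsPullback ((AlgSp.yon S).map s) ((AlgSp.yon S).map t) q₀ g := by
      obtain ⟨s, hs⟩ := (AlgSp.yon S).map_surjective (hq₀.1.fst g)
      exact ⟨_, s, hq₀.1.snd g, hs ▸ hq₀.1.isPullback g⟩
    haveI : AlgebraicGeometry.Etale t.left := hq₀.2 _ _ _ sq
    obtain ⟨z, hz1, hz2⟩ := ASp.points_exists_of_isPullback sq (AlgSp.Points.ofScheme U₀ u₀)
      (AlgSp.Points.ofScheme E.obj.left x)
      (by rw [← AlgSp.Points.ofPt_eq_map_ofScheme, ← AlgSp.Points.ofPt_eq_map_ofScheme]; exact hu)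
    obtain ⟨r, rfl⟩ := (AlgSp.Points.schemeHomeo P).surjective z
    rw [AlgSp.Points.map_yon_map_apply] at hz1 hz2
    have hsr : s.left r = u₀ := (AlgSp.Points.schemeHomeo U₀).injective hz1
    have htr : t.left r = x := (AlgSp.Points.schemeHomeo E.obj.left).injective hz2
    obtain ⟨W, hW, huW, -⟩ := exists_isAffineOpen_mem_and_subset (x := u₀) (U := (⊤ : U₀.left.Opens)) trivial
    obtain ⟨D₀, hD₀, hrD, hDW⟩ := exists_isAffineOpen_mem_and_subset (x := r) (U := s.left ⁻¹ᵁ W)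
      (show s.left r ∈ W by rw [hsr]; exact huW)
    let z : Over.mk (D₀.ι ≫ P.hom) ⟶ P := Over.homMk D₀.ι rfl
    have hp : AlgSp.RepWith @AlgebraicGeometry.Etale ((AlgSp.yon S).map (z ≫ t) ≫ E.obj.hom) :=
      ASp.repWith_comp (ASp.repWith_yon_map (g := z ≫ t) (inferInstanceAs (AlgebraicGeometry.Etale (D₀.ι ≫ t.left))))
        E.property
    let l₀ : D₀.toScheme ⟶ W.toScheme := IsOpenImmersion.lift W.ι (D₀.ι ≫ s.left) (by
      rw [Scheme.Opens.range_ι]
      rintro _ ⟨y, rfl⟩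
      exact hDW y.2)
    have hl₀ : l₀ ≫ W.ι = D₀.ι ≫ s.left := IsOpenImmersion.lift_fac _ _ _
    let m : Over.mk (D₀.ι ≫ P.hom) ⟶ (chartOpen hq₀ W).obj.left := Over.homMk l₀ (by
      show l₀ ≫ W.ι ≫ U₀.hom = D₀.ι ≫ P.hom
      rw [reassoc_of% hl₀, Over.w])
    have hm : m ≫ AlgSp.EtOver.homOfEtale (AlgSp.etaleOfOpen U₀.left W) = z ≫ s := Over.OverMorphism.ext hl₀
    refine ⟨AlgSp.EtOver.mk _ hp, AlgSp.EtOver.homMk (z ≫ t) rfl, hD₀, ⟨⟨r, hrD⟩, htr⟩, ?_⟩
    refine projective_pull_sec hf hG hPG (E := chartOpen hq₀ W) hW (hproj _ hW) (W := Over.mk (D₀.ι ≫ P.hom)) hD₀ hp m ?_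
    show ((AlgSp.yon S).map (z ≫ t) ≫ E.obj.hom) ≫ f =
      (AlgSp.yon S).map m ≫ ((AlgSp.yon S).map (AlgSp.EtOver.homOfEtale (AlgSp.etaleOfOpen U₀.left W)) ≫ 𝟙 _) ≫ q₀
    rw [Category.comp_id, ← Category.assoc ((AlgSp.yon S).map m), ← Functor.map_comp, hm, Functor.map_comp,
      Functor.map_comp, Category.assoc, Category.assoc, Category.assoc, sq.w]
  choose D d hD hx hP using key
  obtain ⟨n, Z, g, hZ, hg, hsurj⟩ := (affSite X).refine_cover hE _
    (AlgSp.ofArrows_mem_etTop D d fun x => ⟨x, hx x⟩)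
  refine hPG.projective (affSite X) hE g hZ hsurj fun k => ?_
  obtain ⟨x, a, -⟩ := Sieve.mem_ofArrows_iff _ _ _ |>.1 (hg k)
  exact hPG.projective_of_hom a (hD x) (hZ k) (hP x)

end Groth.Agent.AlgSpQC
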