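import Groth.Agent.AlgSpQC.Main
import Groth.Agent.AlgSpQC.Local
import Groth.Prelude.Def_AlgSpOX2

/-!
# Inverse image along a representable étale morphism of algebraic spaces
-/

set_option autoImplicit false
set_option linter.style.haveILetI false
set_option linter.unusedSectionVars false
set_option backward.isDefEq.respectTransparency false
set_option backward.isDefEq.respectTransparency.types false
set_option maxHeartbeats 800000

universe u

open CategoryTheory Limits AlgebraicGeometry Opposite TensorProduct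

noncomputable section

namespace Groth.Agent.AlgSpQC

section Conj

variable {C : Type (u + 1)} [Category.{u} C] {O : Cᵒᵖ ⥤ CommRingCat.{u + 1}}

/-- Transporting the base change source along isomorphisms. -/
def transAdd (P : PresheafOfModules.{u + 1} (Rg O)) {A B A' B' : C} (g : B ⟶ A) (g' : B' ⟶ A') (eA : A' ⟶ A)
    (eB : B' ⟶ B) (w : eB ≫ g = g' ≫ eA) :
    letI := (rh O g).toAlgebra
    letI := (rh O g').toAlgebra
    O.obj (op B) ⊗[O.obj (op A)] ((evalC O A).obj P) →+ O.obj (op B') ⊗[O.obj (op A')] ((evalC O A').obj P) :=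
  letI := (rh O g).toAlgebra
  letI := (rh O g').toAlgebra
  TensorProduct.liftAddHom
    (AddMonoidHom.mk' (fun s => AddMonoidHom.mk'
      (fun x => rh O eB s ⊗ₜ[O.obj (op A')] (show (evalC O A').obj P from res P eA x))
      (fun x y => (congrArg _ (map_add (P.presheaf.map eA.op).hom x y)).trans (TensorProduct.tmul_add _ _ _)))
      (fun s t => by
        ext x
        exact (congrArg (· ⊗ₜ[O.obj (op A')] _) (map_add (rh O eB) s t)).trans (TensorProduct.add_tmul _ _ _)))
    fun r s x => by
      show rh O eB (rh O g r * s) ⊗ₜ[O.obj (op A')] _ = rh O eB s ⊗ₜ[O.obj (op A')] _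
      refine Eq.trans ?_ (congrArg (rh O eB s ⊗ₜ[O.obj (op A')] ·) (P.map_smul eA.op r x)).symm
      refine Eq.trans ?_ (TensorProduct.smul_tmul (rh O eA r) (rh O eB s) (show (evalC O A').obj P from res P eA x))
      refine congrArg (· ⊗ₜ[O.obj (op A')] _) ?_
      show _ = rh O g' (rh O eA r) * rh O eB s
      rw [map_mul]
      refine congrArg (· * _) ?_
      have e := congrArg (fun k : B' ⟶ A => rh O k r) w
      exact ((ConcreteCategory.congr_hom (O.map_comp g.op eB.op) r).symm.trans e).trans
        (ConcreteCategory.congr_hom (O.map_comp eA.op g'.op) r)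

/-- Base change maps of isomorphic morphisms. -/
theorem bijective_θ_conj (P : PresheafOfModules.{u + 1} (Rg O)) {A B A' B' : C} (g : B ⟶ A) {g' : B' ⟶ A'}
    (eA : A' ⟶ A) (eB : B' ⟶ B) [IsIso eA] [IsIso eB] (h : Function.Bijective ((θ O g').app P))
    (e : g' = eB ≫ g ≫ inv eA) : Function.Bijective ((θ O g).app P) := by
  letI := (rh O g).toAlgebra
  letI := (rh O g').toAlgebra
  have w : eB ≫ g = g' ≫ eA := by rw [e, Category.assoc, Category.assoc, IsIso.inv_hom_id, Category.comp_id]
  have w' : inv eB ≫ g' = g ≫ inv eA := by rw [IsIso.inv_comp_eq, e]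
  have hres : ∀ {U V : C} (k : U ⟶ V) [IsIso k] (x : P.obj (op V)), res P (inv k) (res P k x) = x :=
    fun k _ x => by rw [← res_comp, IsIso.inv_hom_id, res_id]
  have hres' : ∀ {U V : C} (k : U ⟶ V) [IsIso k] (x : P.obj (op U)), res P k (res P (inv k) x) = x :=
    fun k _ x => by rw [← res_comp, IsIso.hom_inv_id, res_id]
  have hrh : ∀ {U V : C} (k : U ⟶ V) [IsIso k] (x : O.obj (op V)), rh O (inv k) (rh O k x) = x :=
    fun {U V} k _ x => by
      refine (ConcreteCategory.congr_hom (O.map_comp k.op (inv k).op) x).symm.trans ?_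
      rw [← op_comp, IsIso.inv_hom_id, op_id, O.map_id]
      rfl
  have hrh' : ∀ {U V : C} (k : U ⟶ V) [IsIso k] (x : O.obj (op U)), rh O k (rh O (inv k) x) = x :=
    fun {U V} k _ x => by
      refine (ConcreteCategory.congr_hom (O.map_comp (inv k).op k.op) x).symm.trans ?_
      rw [← op_comp, IsIso.hom_inv_id, op_id, O.map_id]
      rfl
  let φ := transAdd P g g' eA eB w
  let φ' := transAdd P g' g (inv eA) (inv eB) w'
  have h1 : ∀ z, φ' (φ z) = z := fun z => by
    induction z using TensorProduct.induction_on with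
    | zero => simp only [map_zero]
    | tmul s x =>
      show rh O (inv eB) (rh O eB s) ⊗ₜ[O.obj (op A)] (show (evalC O A).obj P from res P (inv eA) (res P eA x)) = _
      rw [hrh, hres]
    | add a b ha hb => simp only [map_add, ha, hb]
  have h2 : ∀ z, φ (φ' z) = z := fun z => by
    induction z using TensorProduct.induction_on with
    | zero => simp only [map_zero]
    | tmul s x =>
      show rh O eB (rh O (inv eB) s) ⊗ₜ[O.obj (op A')] (show (evalC O A').obj P from res P eA (res P (inv eA) x)) = _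
      rw [hrh', hres']
    | add a b ha hb => simp only [map_add, ha, hb]
  have h3 : ∀ z, res P eB ((θ O g).app P z) = (θ O g').app P (φ z) := fun z => by
    induction z using TensorProduct.induction_on with
    | zero =>
      exact (congrArg _ (map_zero ((θ O g).app P).hom)).trans ((map_zero (P.presheaf.map eB.op).hom).trans
        ((congrArg _ (map_zero φ)).trans (map_zero ((θ O g').app P).hom)).symm)
    | tmul s x =>
      refine (congrArg (res P eB) (θ_tmul P g s x)).trans ?_
      refine Eq.trans ?_ (θ_tmul P g' (rh O eB s) (res P eA x)).symm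
      refine (P.map_smul eB.op s _).trans ?_
      refine congrArg (rh O eB s • ·) ?_
      show res P eB (res P g x) = res P g' (res P eA x)
      rw [← res_comp, ← res_comp, w]
    | add a b ha hb =>
      exact ((congrArg _ (map_add ((θ O g).app P).hom a b)).trans (map_add (P.presheaf.map eB.op).hom _ _)).trans
        ((congrArg₂ (· + ·) ha hb).trans
          ((congrArg _ (map_add φ a b)).trans (map_add ((θ O g').app P).hom _ _)).symm)
  have hb : Function.Bijective φ := Function.bijective_iff_has_inverse.2 ⟨φ', h1, h2⟩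
  have hc : Function.Bijective (res P eB ∘ ((θ O g).app P)) := by
    rw [show res P eB ∘ ((θ O g).app P) = ((θ O g').app P) ∘ φ from funext h3]
    exact h.comp hb
  have hr : Function.Bijective (res P eB) :=
    Function.bijective_iff_has_inverse.2 ⟨res P (inv eB), fun x => hres eB x, fun x => hres' eB x⟩
  exact (Function.Bijective.of_comp_iff' hr _).1 hc

end Conj

variable {S : Scheme.{u}} {X Y : AlgSp.Sp S} {p : Y ⟶ X} (hp : AlgSp.RepWith @AlgebraicGeometry.Etale p)

/-- Composition with a representable étale morphism, on small étale sites. -/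
def compE : AlgSp.EtOver Y ⥤ AlgSp.EtOver X where
  obj E := AlgSp.EtOver.mk (E.obj.hom ≫ p)
    ((AlgSp.repWith_isMultiplicative (S := S) @AlgebraicGeometry.Etale).comp_mem _ _ E.property hp)
  map {E E'} g := AlgSp.EtOver.homMk g.hom.left (by
    show (AlgSp.yon S).map g.hom.left ≫ E'.obj.hom ≫ p = E.obj.hom ≫ p
    rw [AlgSp.EtOver.w_assoc g])
  map_id _ := AlgSp.EtOver.hom_ext _ _ rfl
  map_comp _ _ := AlgSp.EtOver.hom_ext _ _ rfl

theorem isPullback_compE {E₁ E₂ E₀ : AlgSp.EtOver Y} (g₁ : E₁ ⟶ E₀) (g₂ : E₂ ⟶ E₀) :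
    IsPullback ((compE hp).map (AlgSp.EtOver.pullbackFst g₁ g₂)) ((compE hp).map (AlgSp.EtOver.pullbackSnd g₁ g₂))
      ((compE hp).map g₁) ((compE hp).map g₂) := by
  refine IsPullback.of_map (AlgSp.EtOver.forget X) ?_ ((AlgSp.EtOver.isPullback g₁ g₂).map (AlgSp.EtOver.forget Y))
  rw [← Functor.map_comp, ← Functor.map_comp, AlgSp.EtOver.pullback_condition]

instance preservesLimit_cospan_compE {E₁ E₂ E₀ : AlgSp.EtOver Y} (g₁ : E₁ ⟶ E₀) (g₂ : E₂ ⟶ E₀) :
    PreservesLimit (cospan g₁ g₂) (compE hp) :=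
  preservesLimit_of_preserves_limit_cone (AlgSp.EtOver.pullbackIsLimit g₁ g₂)
    ((isLimitMapConePullbackConeEquiv _ _).symm (isPullback_compE hp g₁ g₂).isLimit)

instance preservesPullbacks_compE : PreservesLimitsOfShape WalkingCospan (compE hp) where
  preservesLimit {K} := preservesLimit_of_iso_diagram _ (diagramIsoCospan K).symm

theorem etPre_le_comap_compE : AlgSp.etPre Y ≤ (AlgSp.etPre X).comap (compE hp) := by
  intro E R hR
  obtain ⟨ι, Z, g, rfl⟩ := R.exists_eq_ofArrows
  rw [Precoverage.mem_comap_iff, Presieve.map_ofArrows]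
  exact (AlgSp.ofArrows_mem_etPre_iff _ _).2 ((AlgSp.ofArrows_mem_etPre_iff Z g).1 hR)

instance compE_isContinuous : (compE hp).IsContinuous (AlgSp.etTop Y) (AlgSp.etTop X) := by
  change (compE hp).IsContinuous (AlgSp.etPre Y).toGrothendieck (AlgSp.etPre X).toGrothendieck
  exact Functor.isContinuous_toGrothendieck_of_pullbacksPreservedBy _ _ _ (etPre_le_comap_compE hp)

/-- Composition is left adjoint to base change. -/
def compAdj : compE hp ⊣ AlgSp.EtOver.bc hp.1 :=
  Adjunction.mkOfHomEquiv
    { homEquiv := fun V E =>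
        { toFun := fun a => AlgSp.EtOver.homMk (hp.1.lift V.obj.hom a.hom.left (AlgSp.EtOver.w a).symm)
            (hp.1.lift_fst _ _ _)
          invFun := fun b => AlgSp.EtOver.homMk (b.hom.left ≫ hp.1.snd E.obj.hom) (by
            show (AlgSp.yon S).map (b.hom.left ≫ hp.1.snd E.obj.hom) ≫ E.obj.hom = V.obj.hom ≫ p
            rw [Functor.map_comp, Category.assoc, ← hp.1.w E.obj.hom, ← Category.assoc]
            exact congrArg (· ≫ p) (AlgSp.EtOver.w b))
          left_inv := fun a => AlgSp.EtOver.hom_ext _ _ (hp.1.lift_snd _ _ _)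
          right_inv := fun b => AlgSp.EtOver.hom_ext _ _ (hp.1.hom_ext
            ((hp.1.lift_fst _ _ _).trans (AlgSp.EtOver.w b).symm) (hp.1.lift_snd _ _ _)) }
      homEquiv_naturality_left_symm := fun _ _ => AlgSp.EtOver.hom_ext _ _ (Category.assoc _ _ _)
      homEquiv_naturality_right := fun {V E E'} a g => AlgSp.EtOver.hom_ext _ _ (hp.1.hom_ext
        (by
          refine (hp.1.lift_fst _ _ _).trans ?_
          show _ = (AlgSp.yon S).map (_ ≫ (AlgSp.EtOver.bcMap hp.1 g).hom.left) ≫ hp.1.fst E'.obj.hom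
          rw [Functor.map_comp, Category.assoc, AlgSp.EtOver.map_bcMap_fst]
          exact (hp.1.lift_fst _ _ _).symm)
        (by
          refine (hp.1.lift_snd _ _ _).trans ?_
          show a.hom.left ≫ g.hom.left = (_ ≫ (AlgSp.EtOver.bcMap hp.1 g).hom.left) ≫ hp.1.snd E'.obj.hom
          rw [Category.assoc, AlgSp.EtOver.bcMap_snd, ← Category.assoc]
          exact congrArg (· ≫ g.hom.left) (hp.1.lift_snd _ _ _).symm)) }

/-- The structure sheaf restricts to the structure sheaf. -/
def compRingHom :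
    AlgSp.OEtRing Y ⟶ ((compE hp).sheafPushforwardContinuous RingCat.{u + 1} (AlgSp.etTop Y) (AlgSp.etTop X)).obj
      (AlgSp.OEtRing X) :=
  ObjectProperty.homMk { app := fun _ => 𝟙 _, naturality := fun _ _ _ => by exact (Category.comp_id _).trans (Category.id_comp _).symm }

/-- Restriction of modules along a representable étale morphism. -/
abbrev restrMod : AlgSp.ModEt X ⥤ AlgSp.ModEt Y := SheafOfModules.pushforward.{u + 1} (compRingHom hp)

theorem compAdj_counit_left (E : AlgSp.EtOver X) :
    ((compAdj hp).counit.app E).hom.left = hp.1.snd E.obj.hom :=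
  Category.id_comp _

theorem compAdj_unit_left_snd (V : AlgSp.EtOver Y) :
    ((compAdj hp).unit.app V).hom.left ≫ hp.1.snd ((compE hp).obj V).obj.hom = 𝟙 _ :=
  hp.1.lift_snd _ _ _

/-- Restriction is left adjoint to direct image. -/
def restrAdj : restrMod hp ⊣ AlgSp.pushModEt hp.1 :=
  SheafOfModules.pushforwardPushforwardAdj (compAdj hp) (compRingHom hp) (AlgSp.bcRingHom hp.1)
    (by
      refine NatTrans.ext (funext fun E => ?_)
      refine Eq.trans ?_ (Category.comp_id _).symm
      show (BigSite.ORing Scheme.etalePrecoverage S).obj.map ((compAdj hp).counit.app E.unop).hom.left.op =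
        (BigSite.ORing Scheme.etalePrecoverage S).obj.map (hp.1.snd E.unop.obj.hom).op
      rw [compAdj_counit_left])
    (by
      refine NatTrans.ext (funext fun V => ?_)
      refine (Category.id_comp _).trans ?_
      show (BigSite.ORing Scheme.etalePrecoverage S).obj.map (hp.1.snd ((compE hp).obj V.unop).obj.hom).op ≫
        (BigSite.ORing Scheme.etalePrecoverage S).obj.map ((compAdj hp).unit.app V.unop).hom.left.op = 𝟙 _
      rw [← Functor.map_comp, ← op_comp, compAdj_unit_left_snd, op_id]
      exact CategoryTheory.Functor.map_id _ _)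

/-- Inverse image is restriction. -/
def pullIso [(SheafOfModules.pushforward.{u + 1} (AlgSp.bcRingHom hp.1)).IsRightAdjoint] :
    AlgSp.pullModEt hp.1 ≅ restrMod hp :=
  (AlgSp.pullPushAdjModEt hp.1).leftAdjointUniq (restrAdj hp)

theorem aff_compE (V : AlgSp.EtOver Y) : Aff X ((compE hp).obj V) ↔ Aff Y V := Iff.rfl

theorem θ_restr (M : AlgSp.ModEt X) {V W : AlgSp.EtOver Y} (g : W ⟶ V) :
    ⇑((θ (AlgSp.OEt Y).obj g).app ((restrMod hp).obj M).val) =
      ⇑((θ (AlgSp.OEt X).obj ((compE hp).map g)).app M.val) := by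
  funext w
  induction w using TensorProduct.induction_on with
  | zero => exact (map_zero _).trans (map_zero ((θ (AlgSp.OEt X).obj ((compE hp).map g)).app M.val).hom).symm
  | tmul s x =>
    exact (θ_tmul (O := (AlgSp.OEt Y).obj) ((restrMod hp).obj M).val g s x).trans
      (θ_tmul (O := (AlgSp.OEt X).obj) M.val ((compE hp).map g) s x).symm
  | add a b ha hb =>
    exact ((map_add ((θ (AlgSp.OEt Y).obj g).app ((restrMod hp).obj M).val).hom a b).trans
      (congrArg₂ (· + ·) ha hb)).trans (map_add ((θ (AlgSp.OEt X).obj ((compE hp).map g)).app M.val).hom a b).symm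

theorem qc_restr {M : AlgSp.ModEt X} (hM : QC M) : QC ((restrMod hp).obj M) := fun V W g hV hW => by
  rw [ConcreteCategory.isIso_iff_bijective, θ_restr]
  exact hM.bijective ((compE hp).map g) hV hW

theorem isBCUnder_of_restr {M : AlgSp.ModEt X} (hM : QC ((restrMod hp).obj M)) (U : AlgSp.EtOver Y) :
    IsBCUnder (O := (AlgSp.OEt X).obj) (Aff X) M.val ((compE hp).obj U) := fun A B g a hA hB => by
  let A' : AlgSp.EtOver Y := AlgSp.EtOver.mk ((AlgSp.yon S).map a.hom.left ≫ U.obj.hom)
    ((AlgSp.repWith_isMultiplicative (S := S) @AlgebraicGeometry.Etale).comp_mem _ _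
      ((AlgSp.repWith_yon_map_iff _ _).2 (AlgSp.EtOver.etale_left a)) U.property)
  let B' : AlgSp.EtOver Y := AlgSp.EtOver.mk ((AlgSp.yon S).map g.hom.left ≫ A'.obj.hom)
    ((AlgSp.repWith_isMultiplicative (S := S) @AlgebraicGeometry.Etale).comp_mem _ _
      ((AlgSp.repWith_yon_map_iff _ _).2 (AlgSp.EtOver.etale_left g)) A'.property)
  let g' : B' ⟶ A' := AlgSp.EtOver.homMk g.hom.left rfl
  let eA : (compE hp).obj A' ⟶ A := AlgSp.EtOver.homMk (𝟙 _) (by
    show (AlgSp.yon S).map (𝟙 _) ≫ A.obj.hom = ((AlgSp.yon S).map a.hom.left ≫ U.obj.hom) ≫ p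
    rw [CategoryTheory.Functor.map_id, Category.id_comp, Category.assoc]
    exact (AlgSp.EtOver.w a).symm)
  let eB : (compE hp).obj B' ⟶ B := AlgSp.EtOver.homMk (𝟙 _) (by
    show (AlgSp.yon S).map (𝟙 _) ≫ B.obj.hom = ((AlgSp.yon S).map g.hom.left ≫ (AlgSp.yon S).map a.hom.left ≫ U.obj.hom) ≫ p
    rw [CategoryTheory.Functor.map_id, Category.id_comp, Category.assoc, Category.assoc]
    refine (AlgSp.EtOver.w g).symm.trans (congrArg (_ ≫ ·) ?_)
    exact (AlgSp.EtOver.w a).symm)
  haveI : IsIso eA := by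
    refine ⟨AlgSp.EtOver.homMk (𝟙 _) ?_, AlgSp.EtOver.hom_ext _ _ (Category.id_comp _),
      AlgSp.EtOver.hom_ext _ _ (Category.id_comp _)⟩
    show (AlgSp.yon S).map (𝟙 _) ≫ ((AlgSp.yon S).map a.hom.left ≫ U.obj.hom) ≫ p = A.obj.hom
    rw [CategoryTheory.Functor.map_id, Category.id_comp, Category.assoc]
    exact AlgSp.EtOver.w a
  haveI : IsIso eB := by
    refine ⟨AlgSp.EtOver.homMk (𝟙 _) ?_, AlgSp.EtOver.hom_ext _ _ (Category.id_comp _),
      AlgSp.EtOver.hom_ext _ _ (Category.id_comp _)⟩
    show (AlgSp.yon S).map (𝟙 _) ≫ ((AlgSp.yon S).map g.hom.left ≫ (AlgSp.yon S).map a.hom.left ≫ U.obj.hom) ≫ p = B.obj.hom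
    rw [CategoryTheory.Functor.map_id, Category.id_comp, Category.assoc, Category.assoc]
    refine Eq.trans (congrArg (_ ≫ ·) ?_) (AlgSp.EtOver.w g)
    exact AlgSp.EtOver.w a
  have h1 : Function.Bijective ((θ (AlgSp.OEt X).obj ((compE hp).map g')).app M.val) := by
    rw [← θ_restr]
    exact hM.bijective g' hA hB
  have e : (compE hp).map g' = eB ≫ g ≫ inv eA := by
    rw [← Category.assoc, IsIso.eq_comp_inv]
    exact AlgSp.EtOver.hom_ext _ _ ((Category.comp_id _).trans (Category.id_comp _).symm)
  rw [ConcreteCategory.isIso_iff_bijective]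
  exact bijective_θ_conj (O := (AlgSp.OEt X).obj) M.val g eA eB h1 e

end Groth.Agent.AlgSpQC

end
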