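import Groth.Agent.AlgSpQC.PullMain
import Groth.Agent.AlgSpQC.MainExt
import Groth.Agent.AlgSpQC.WeakAssMain

/-!
# Inverse images of quasi-coherent modules along representable morphisms
-/

set_option autoImplicit false
set_option linter.style.haveILetI false
set_option linter.unusedSectionVars false
set_option backward.isDefEq.respectTransparency false
set_option backward.isDefEq.respectTransparency.types false
set_option maxHeartbeats 800000

universe u

open CategoryTheory Limits AlgebraicGeometry Opposite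

noncomputable section

namespace Groth.Agent.AlgSpQC

variable {S : Scheme.{u}}

section Comp

variable {A B C : AlgSp.Sp S} {a : A ⟶ B} {b : B ⟶ C} {e : A ⟶ C} (ha : AlgSp.Representable a)
  (hb : AlgSp.Representable b) (he : AlgSp.Representable e) (h : a ≫ b = e)

include h in
theorem bcComp_inv_aux (E : AlgSp.EtOver C) :
    (he.fst E.obj.hom ≫ a) ≫ b = (AlgSp.yon S).map (he.snd E.obj.hom) ≫ E.obj.hom := by
  rw [Category.assoc, h, he.w]

include h in
theorem bcComp_hom_aux (E : AlgSp.EtOver C) :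
    ha.fst ((AlgSp.EtOver.bc hb).obj E).obj.hom ≫ e =
      (AlgSp.yon S).map (ha.snd ((AlgSp.EtOver.bc hb).obj E).obj.hom ≫ hb.snd E.obj.hom) ≫ E.obj.hom := by
  rw [← h, ← Category.assoc, ha.w, Category.assoc, Functor.map_comp, Category.assoc]
  exact congrArg ((AlgSp.yon S).map _ ≫ ·) (hb.w E.obj.hom)

/-- The base change of a composite, on an object. -/
def bcCompHom (E : AlgSp.EtOver C) :
    (AlgSp.EtOver.bc ha).obj ((AlgSp.EtOver.bc hb).obj E) ⟶ (AlgSp.EtOver.bc he).obj E :=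
  AlgSp.EtOver.homMk (he.lift (ha.fst ((AlgSp.EtOver.bc hb).obj E).obj.hom)
    (ha.snd ((AlgSp.EtOver.bc hb).obj E).obj.hom ≫ hb.snd E.obj.hom) (bcComp_hom_aux ha hb h E)) (he.lift_fst _ _ _)

theorem bcComp_inv_aux' (E : AlgSp.EtOver C) :
    he.fst E.obj.hom ≫ a =
      (AlgSp.yon S).map (hb.lift (he.fst E.obj.hom ≫ a) (he.snd E.obj.hom) (bcComp_inv_aux he h E)) ≫
        ((AlgSp.EtOver.bc hb).obj E).obj.hom :=
  (hb.lift_fst _ _ _).symm

/-- The base change of a composite, on an object, backwards. -/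
def bcCompInv (E : AlgSp.EtOver C) :
    (AlgSp.EtOver.bc he).obj E ⟶ (AlgSp.EtOver.bc ha).obj ((AlgSp.EtOver.bc hb).obj E) :=
  AlgSp.EtOver.homMk (ha.lift (he.fst E.obj.hom)
    (hb.lift (he.fst E.obj.hom ≫ a) (he.snd E.obj.hom) (bcComp_inv_aux he h E)) (bcComp_inv_aux' hb he h E))
    (ha.lift_fst _ _ _)

theorem bcCompHom_snd (E : AlgSp.EtOver C) :
    (bcCompHom ha hb he h E).hom.left ≫ he.snd E.obj.hom =
      ha.snd ((AlgSp.EtOver.bc hb).obj E).obj.hom ≫ hb.snd E.obj.hom :=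
  he.lift_snd _ _ _

theorem bcCompHom_fst (E : AlgSp.EtOver C) :
    (AlgSp.yon S).map (bcCompHom ha hb he h E).hom.left ≫ he.fst E.obj.hom =
      ha.fst ((AlgSp.EtOver.bc hb).obj E).obj.hom :=
  he.lift_fst _ _ _

theorem bcCompInv_fst (E : AlgSp.EtOver C) :
    (AlgSp.yon S).map (bcCompInv ha hb he h E).hom.left ≫ ha.fst ((AlgSp.EtOver.bc hb).obj E).obj.hom =
      he.fst E.obj.hom :=
  ha.lift_fst _ _ _

theorem bcCompInv_snd_fst (E : AlgSp.EtOver C) :
    (AlgSp.yon S).map ((bcCompInv ha hb he h E).hom.left ≫ ha.snd ((AlgSp.EtOver.bc hb).obj E).obj.hom) ≫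
      hb.fst E.obj.hom = he.fst E.obj.hom ≫ a :=
  (congrArg (fun k => (AlgSp.yon S).map k ≫ hb.fst E.obj.hom) (ha.lift_snd _ _ _)).trans (hb.lift_fst _ _ _)

theorem bcCompInv_snd (E : AlgSp.EtOver C) :
    (bcCompInv ha hb he h E).hom.left ≫ ha.snd ((AlgSp.EtOver.bc hb).obj E).obj.hom ≫ hb.snd E.obj.hom =
      he.snd E.obj.hom := by
  rw [← Category.assoc]
  exact (congrArg (· ≫ hb.snd E.obj.hom) (ha.lift_snd _ _ _)).trans (hb.lift_snd _ _ _)

theorem bcComp_hom_inv (E : AlgSp.EtOver C) :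
    (bcCompHom ha hb he h E).hom.left ≫ (bcCompInv ha hb he h E).hom.left = 𝟙 _ := by
  refine ha.hom_ext ?_ (hb.hom_ext ?_ ?_)
  · rw [Functor.map_comp, Category.assoc, bcCompInv_fst, bcCompHom_fst, CategoryTheory.Functor.map_id]
    exact (Category.id_comp _).symm
  · rw [Category.assoc, Functor.map_comp, Category.assoc, bcCompInv_snd_fst, ← Category.assoc, bcCompHom_fst]
    refine (ha.w _).trans ?_
    exact congrArg (fun k => (AlgSp.yon S).map k ≫ hb.fst E.obj.hom) (Category.id_comp _).symm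
  · rw [Category.assoc, Category.assoc, bcCompInv_snd, bcCompHom_snd]
    exact congrArg (· ≫ hb.snd E.obj.hom) (Category.id_comp _).symm

theorem bcComp_inv_hom (E : AlgSp.EtOver C) :
    (bcCompInv ha hb he h E).hom.left ≫ (bcCompHom ha hb he h E).hom.left = 𝟙 _ := by
  refine he.hom_ext ?_ ?_
  · rw [Functor.map_comp, Category.assoc, bcCompHom_fst, bcCompInv_fst, CategoryTheory.Functor.map_id]
    exact (Category.id_comp _).symm
  · rw [Category.assoc, bcCompHom_snd, bcCompInv_snd]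
    exact (Category.id_comp _).symm

theorem bcCompHom_naturality {E E' : AlgSp.EtOver C} (g : E ⟶ E') :
    (AlgSp.EtOver.bcMap ha (AlgSp.EtOver.bcMap hb g)).hom.left ≫ (bcCompHom ha hb he h E').hom.left =
      (bcCompHom ha hb he h E).hom.left ≫ (AlgSp.EtOver.bcMap he g).hom.left := by
  refine he.hom_ext ?_ ?_
  · rw [Functor.map_comp, Functor.map_comp, Category.assoc, Category.assoc, AlgSp.EtOver.map_bcMap_fst, bcCompHom_fst]
    exact (AlgSp.EtOver.map_bcMap_fst ha (AlgSp.EtOver.bcMap hb g)).trans (bcCompHom_fst ha hb he h E).symm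
  · rw [Category.assoc, Category.assoc, AlgSp.EtOver.bcMap_snd]
    refine (congrArg (_ ≫ ·) (bcCompHom_snd ha hb he h E')).trans ?_
    rw [← Category.assoc (bcCompHom ha hb he h E).hom.left, bcCompHom_snd, ← Category.assoc]
    refine (congrArg (· ≫ hb.snd E'.obj.hom) (AlgSp.EtOver.bcMap_snd ha (AlgSp.EtOver.bcMap hb g))).trans ?_
    rw [Category.assoc, Category.assoc]
    exact congrArg (_ ≫ ·) (AlgSp.EtOver.bcMap_snd hb g)

/-- Base change of a composite. -/
def bcCompIso : AlgSp.EtOver.bc hb ⋙ AlgSp.EtOver.bc ha ≅ AlgSp.EtOver.bc he :=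
  NatIso.ofComponents
    (fun E =>
      { hom := bcCompHom ha hb he h E
        inv := bcCompInv ha hb he h E
        hom_inv_id := AlgSp.EtOver.hom_ext _ _ (bcComp_hom_inv ha hb he h E)
        inv_hom_id := AlgSp.EtOver.hom_ext _ _ (bcComp_inv_hom ha hb he h E) })
    fun g => AlgSp.EtOver.hom_ext _ _ (bcCompHom_naturality ha hb he h g)

theorem bcComp_ring (E : AlgSp.EtOver C) :
    ((BigSite.ORing Scheme.etalePrecoverage S).obj.map (hb.snd E.obj.hom).op ≫
      (BigSite.ORing Scheme.etalePrecoverage S).obj.map (ha.snd ((AlgSp.EtOver.bc hb).obj E).obj.hom).op) ≫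
      (BigSite.ORing Scheme.etalePrecoverage S).obj.map (bcCompInv ha hb he h E).hom.left.op =
    (BigSite.ORing Scheme.etalePrecoverage S).obj.map (he.snd E.obj.hom).op := by
  rw [← Functor.map_comp, ← op_comp]
  refine ((BigSite.ORing Scheme.etalePrecoverage S).obj.map_comp _ _).symm.trans ?_
  exact congrArg (fun k => (BigSite.ORing Scheme.etalePrecoverage S).obj.map (Quiver.Hom.op k))
    (bcCompInv_snd ha hb he h E)

set_option maxHeartbeats 4000000 in
/-- Direct images compose. -/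
def pushCompIso : AlgSp.pushModEt ha ⋙ AlgSp.pushModEt hb ≅ AlgSp.pushModEt he :=
  haveI : (AlgSp.EtOver.bc hb ⋙ AlgSp.EtOver.bc ha).IsContinuous (AlgSp.etTop C) (AlgSp.etTop A) :=
    Functor.isContinuous_comp _ _ _ (AlgSp.etTop B) _
  SheafOfModules.pushforwardComp (AlgSp.bcRingHom hb) (AlgSp.bcRingHom ha) ≪≫
    SheafOfModules.pushforwardCongr₂ _ (bcCompIso ha hb he h).symm (by
      refine ObjectProperty.hom_ext _ (NatTrans.ext (funext fun E => ?_))
      exact bcComp_ring ha hb he h E.unop)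

end Comp

section Term

/-- The tautological chart of a scheme. -/
def Tid (U : Over S) : AlgSp.EtOver ((AlgSp.yon S).obj U) :=
  AlgSp.EtOver.mk (𝟙 _) (by
    rw [← CategoryTheory.Functor.map_id]
    exact (AlgSp.repWith_yon_map_iff _ _).2 (by rw [Over.id_left]; infer_instance))

/-- The tautological chart is final. -/
def isTerminalTid (U : Over S) : IsTerminal (Tid U) :=
  IsTerminal.ofUniqueHom (fun E => AlgSp.EtOver.homMk ((AlgSp.yon S).preimage E.obj.hom) (by
      show (AlgSp.yon S).map ((AlgSp.yon S).preimage E.obj.hom) ≫ 𝟙 _ = _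
      rw [(AlgSp.yon S).map_preimage, Category.comp_id]))
    fun E m => AlgSp.EtOver.hom_ext _ _ ((AlgSp.yon S).map_injective (by
      refine Eq.trans ?_ ((AlgSp.yon S).map_preimage E.obj.hom).symm
      exact (Category.comp_id _).symm.trans (AlgSp.EtOver.w m)))

variable {W V : Over S} {g : (AlgSp.yon S).obj W ⟶ (AlgSp.yon S).obj V} (hg : AlgSp.Representable g)

/-- The base change of the tautological chart is final. -/
def isTerminalBcTid : IsTerminal ((AlgSp.EtOver.bc hg).obj (Tid V)) := by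
  refine IsTerminal.ofIso (isTerminalTid W) (?_ : Tid W ≅ (AlgSp.EtOver.bc hg).obj (Tid V))
  let l : W ⟶ hg.pullback (Tid V).obj.hom := hg.lift (g := (Tid V).obj.hom) (𝟙 _) ((AlgSp.yon S).preimage g) (by
    show 𝟙 _ ≫ g = (AlgSp.yon S).map ((AlgSp.yon S).preimage g) ≫ 𝟙 _
    rw [(AlgSp.yon S).map_preimage, Category.id_comp, Category.comp_id])
  exact
    { hom := AlgSp.EtOver.homMk l (hg.lift_fst _ _ _)
      inv := (isTerminalTid W).from _
      hom_inv_id := (isTerminalTid W).hom_ext _ _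
      inv_hom_id := AlgSp.EtOver.hom_ext _ _ (hg.hom_ext
        (by
          show (AlgSp.yon S).map ((AlgSp.yon S).preimage (hg.fst (Tid V).obj.hom) ≫ l) ≫ _ = (AlgSp.yon S).map (𝟙 _) ≫ _
          rw [Functor.map_comp, (AlgSp.yon S).map_preimage, Category.assoc, CategoryTheory.Functor.map_id,
            Category.id_comp, hg.lift_fst, Category.comp_id])
        (by
          show ((AlgSp.yon S).preimage (hg.fst (Tid V).obj.hom) ≫ l) ≫ _ = 𝟙 _ ≫ _
          refine (AlgSp.yon S).map_injective ?_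
          rw [Category.assoc, hg.lift_snd, Functor.map_comp, (AlgSp.yon S).map_preimage, (AlgSp.yon S).map_preimage,
            Category.id_comp, hg.w]
          exact Category.comp_id _)) }

variable {X : AlgSp.Sp S}

/-- Sections of a module are its values on a final object. -/
def sectionsEquiv {T : AlgSp.EtOver X} (hT : IsTerminal T) (N : AlgSp.ModEt X) :
    N.sections ≃ N.val.obj (op T) where
  toFun s := s.1 (op T)
  invFun x := secOf (O := AlgSp.OEt X) hT N x
  left_inv s := Subtype.ext (funext fun Z => s.2 (hT.from Z.unop).op)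
  right_inv x := by
    show res (O := (AlgSp.OEt X).obj) N.val (hT.from T) x = x
    rw [hT.hom_ext (hT.from T) (𝟙 T), res_id]

/-- Maps out of free modules after direct image. -/
def freePushEquiv (I : Type (u + 1)) (N : AlgSp.ModEt ((AlgSp.yon S).obj W)) :
    (AlgSp.freeModEt ((AlgSp.yon S).obj W) I ⟶ N) ≃
      (AlgSp.freeModEt ((AlgSp.yon S).obj V) I ⟶ (AlgSp.pushModEt hg).obj N) :=
  N.freeHomEquiv.trans ((Equiv.arrowCongr (Equiv.refl I)
    ((sectionsEquiv (isTerminalBcTid hg) N).trans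
      (sectionsEquiv (isTerminalTid V) ((AlgSp.pushModEt hg).obj N)).symm)).trans
    ((AlgSp.pushModEt hg).obj N).freeHomEquiv.symm)

theorem freePushEquiv_comp (I : Type (u + 1)) {N N' : AlgSp.ModEt ((AlgSp.yon S).obj W)}
    (φ : AlgSp.freeModEt ((AlgSp.yon S).obj W) I ⟶ N) (k : N ⟶ N') :
    freePushEquiv hg I N' (φ ≫ k) = freePushEquiv hg I N φ ≫ (AlgSp.pushModEt hg).map k := by
  refine ((AlgSp.pushModEt hg).obj N').freeHomEquiv.injective (funext fun i => ?_)
  rw [SheafOfModules.freeHomEquiv_comp_apply]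
  apply (sectionsEquiv (isTerminalTid V) ((AlgSp.pushModEt hg).obj N')).injective
  refine (congrArg _ (congrFun (Equiv.apply_symm_apply _ _) i)).trans ?_
  refine ((sectionsEquiv (isTerminalTid V) ((AlgSp.pushModEt hg).obj N')).apply_symm_apply _).trans ?_
  refine (congrArg (fun s : N'.sections => s.1 (op ((AlgSp.EtOver.bc hg).obj (Tid V))))
    (SheafOfModules.freeHomEquiv_comp_apply φ k i)).trans ?_
  refine congrArg (k.val.app (op ((AlgSp.EtOver.bc hg).obj (Tid V)))) (Eq.symm ?_)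
  exact (congrArg (fun s : ((AlgSp.pushModEt hg).obj N).sections => s.1 (op (Tid V)))
    (congrFun (Equiv.apply_symm_apply _ _) i)).trans
      ((sectionsEquiv (isTerminalTid V) ((AlgSp.pushModEt hg).obj N)).apply_symm_apply _)

/-- The inverse image of a cokernel of free modules exists and is a cokernel of free modules. -/
theorem exists_pull_coker {I J : Type (u + 1)}
    (r : AlgSp.freeModEt ((AlgSp.yon S).obj V) I ⟶ AlgSp.freeModEt ((AlgSp.yon S).obj V) J) :
    ∃ Q : AlgSp.ModEt ((AlgSp.yon S).obj W), QC Q ∧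
      ∃ e : ∀ N, (Q ⟶ N) ≃ (cokernel r ⟶ (AlgSp.pushModEt hg).obj N),
        ∀ {N N'} (φ : Q ⟶ N) (k : N ⟶ N'), e N' (φ ≫ k) = e N φ ≫ (AlgSp.pushModEt hg).map k := by
  let η := freePushEquiv hg J _ (𝟙 (AlgSp.freeModEt ((AlgSp.yon S).obj W) J))
  let r' := (freePushEquiv hg I (AlgSp.freeModEt ((AlgSp.yon S).obj W) J)).symm (r ≫ η)
  refine ⟨cokernel r', qc_cokernel r' (bc_free (O := AlgSp.OEt _) (affSite _) I) (bc_free (O := AlgSp.OEt _) (affSite _) J), ?_⟩
  have key : ∀ {N} (φ : AlgSp.freeModEt ((AlgSp.yon S).obj W) J ⟶ N),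
      freePushEquiv hg I N (r' ≫ φ) = r ≫ freePushEquiv hg J N φ := fun {N} φ => by
    rw [freePushEquiv_comp, Equiv.apply_symm_apply, Category.assoc, ← freePushEquiv_comp, Category.id_comp]
  have hz : ∀ N, freePushEquiv hg I N 0 = 0 := fun N => by
    have := freePushEquiv_comp hg I (0 : AlgSp.freeModEt ((AlgSp.yon S).obj W) I ⟶ N) (0 : N ⟶ N)
    rwa [comp_zero, Functor.map_zero, comp_zero] at this
  refine ⟨fun N =>
    { toFun := fun φ => cokernel.desc r (freePushEquiv hg J N (cokernel.π r' ≫ φ)) (by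
        rw [← key, ← Category.assoc, cokernel.condition, zero_comp, hz])
      invFun := fun ψ => cokernel.desc r' ((freePushEquiv hg J N).symm (cokernel.π r ≫ ψ)) (by
        apply (freePushEquiv hg I N).injective
        rw [key, Equiv.apply_symm_apply, ← Category.assoc, cokernel.condition, zero_comp, hz])
      left_inv := fun φ => coequalizer.hom_ext (by
        rw [cokernel.π_desc, cokernel.π_desc, Equiv.symm_apply_apply])
      right_inv := fun ψ => coequalizer.hom_ext (by
        rw [cokernel.π_desc, cokernel.π_desc, Equiv.apply_symm_apply]) }, fun {N N'} φ k => ?_⟩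
  refine coequalizer.hom_ext ?_
  show cokernel.π r ≫ cokernel.desc r _ _ = cokernel.π r ≫ cokernel.desc r _ _ ≫ _
  rw [cokernel.π_desc, cokernel.π_desc_assoc, ← Category.assoc, freePushEquiv_comp]

end Term

section Corep

universe v₁ v₂ v₃ w₁ w₂ w₃

variable {A : Type w₁} [Category.{v₁} A] {B : Type w₂} [Category.{v₂} B] {D : Type w₃} [Category.{v₃} D]

/-- Uniqueness of a partial left adjoint. -/
def isoOfCorep {LA : D ⥤ A} {RA : A ⥤ D} (adjA : LA ⊣ RA) {LB : D ⥤ B} {RB : B ⥤ D} (adjB : LB ⊣ RB)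
    {P : A ⥤ B} (c : P ⋙ RB ≅ RA) (G : D) {Z : B} (i : Z ≅ LB.obj G) {Q : A}
    (e : ∀ N, (Q ⟶ N) ≃ (Z ⟶ P.obj N))
    (he : ∀ {N N' : A} (φ : Q ⟶ N) (k : N ⟶ N'), e N' (φ ≫ k) = e N φ ≫ P.map k) : Q ≅ LA.obj G :=
  let Ψ : ∀ N, (LA.obj G ⟶ N) ≃ (Q ⟶ N) := fun N =>
    (adjA.homEquiv G N).trans (((Iso.homCongr (Iso.refl G) (c.app N).symm).trans
      (adjB.homEquiv G (P.obj N)).symm).trans ((Iso.homCongr i.symm (Iso.refl _)).trans (e N).symm))
  have hΨ : ∀ {N N' : A} (φ : LA.obj G ⟶ N) (k : N ⟶ N'), Ψ N' (φ ≫ k) = Ψ N φ ≫ k := by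
    intro N N' φ k
    apply (e N').injective
    rw [he]
    simp [Ψ, Adjunction.homEquiv_naturality_right, ← Adjunction.homEquiv_naturality_right_symm]
  { hom := Ψ _ (𝟙 _)
    inv := (Ψ _).symm (𝟙 _)
    hom_inv_id := by rw [← hΨ, Category.id_comp, Equiv.apply_symm_apply]
    inv_hom_id := (Ψ _).injective (by rw [hΨ, Equiv.apply_symm_apply, Category.id_comp]) }

end Corep

section Main

variable {X Y : AlgSp.Sp S}

theorem qc_pull_local {f : X ⟶ Y} (hf : AlgSp.Representable f)
    [(SheafOfModules.pushforward.{u + 1} (AlgSp.bcRingHom hf)).IsRightAdjoint]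
    {G : AlgSp.ModEt Y} (hG : QC G) {E : AlgSp.EtOver Y} (hE : Aff Y E) :
    QC ((restrMod (AlgSp.EtOver.bcObj hf E).property).obj ((AlgSp.pullModEt hf).obj G)) := by
  let V := E.obj.left
  let q : (AlgSp.yon S).obj V ⟶ Y := E.obj.hom
  have hq : AlgSp.RepWith @AlgebraicGeometry.Etale q := E.property
  let W := (AlgSp.EtOver.bcObj hf E).obj.left
  let p : (AlgSp.yon S).obj W ⟶ X := (AlgSp.EtOver.bcObj hf E).obj.hom
  have hp : AlgSp.RepWith @AlgebraicGeometry.Etale p := (AlgSp.EtOver.bcObj hf E).property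
  let g : (AlgSp.yon S).obj W ⟶ (AlgSp.yon S).obj V := (AlgSp.yon S).map (hf.snd E.obj.hom)
  have hg : AlgSp.Representable g := AlgSp.representable_yon_map _
  have hsq : p ≫ f = g ≫ q := hf.w E.obj.hom
  have he : AlgSp.Representable (p ≫ f) := MorphismProperty.IsStableUnderComposition.comp_mem _ _ hp.1 hf
  -- a presentation downstairs
  obtain ⟨P⟩ := nonempty_presentation (O := AlgSp.OEt ((AlgSp.yon S).obj V)) (affSite _) (isTerminalTid V)
    (qc_restr hq hG) (show Aff _ (Tid V) from hE)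
  let r : AlgSp.freeModEt ((AlgSp.yon S).obj V) P.relations.I ⟶ AlgSp.freeModEt ((AlgSp.yon S).obj V) P.generators.I :=
    P.relations.π ≫ kernel.ι P.generators.π
  let i : cokernel r ≅ (restrMod hq).obj G := (colimit.isColimit _).coconePointUniqueUpToIso P.isColimit
  obtain ⟨Q, hQ, e, he'⟩ := exists_pull_coker hg r
  let c : AlgSp.pushModEt hg ⋙ AlgSp.pushModEt hq.1 ≅ AlgSp.pushModEt hp.1 ⋙ AlgSp.pushModEt hf :=
    pushCompIso hg hq.1 he hsq.symm ≪≫ (pushCompIso hp.1 hf he rfl).symm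
  exact BC.of_iso (O := AlgSp.OEt ((AlgSp.yon S).obj W))
    (isoOfCorep ((AlgSp.pullPushAdjModEt hf).comp (restrAdj hp)) (restrAdj hq) c G i e he') hQ

/-- Quasi-coherence is local along a covering family of étale morphisms. -/
theorem qc_of_family {ι : Type*} {W : ι → Over S} (p : ∀ i, (AlgSp.yon S).obj (W i) ⟶ X)
    (hp : ∀ i, AlgSp.RepWith @AlgebraicGeometry.Etale (p i))
    (hcov : ∀ x, ∃ i, x ∈ Set.range (AlgSp.Points.ofPt (p i)))
    {M : AlgSp.ModEt X} (h : ∀ i, QC ((restrMod (hp i)).obj M)) : QC M := by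
  refine isBC_of_local (O := (AlgSp.OEt X).obj) (affSite X) M.val M.isSheaf fun E _ => ?_
  have hpt : ∀ x : E.obj.left.left, ∃ (i : ι) (U : AlgSp.EtOver ((AlgSp.yon S).obj (W i)))
      (c : (compE (hp i)).obj U ⟶ E), x ∈ Set.range c.hom.left.left := fun x => by
    obtain ⟨i, w, hw⟩ := hcov (AlgSp.Points.ofPt E.obj.hom x)
    obtain ⟨P, t, s, r, ht, hs, hsq, hr, -⟩ := ASp.exists_common_point E.property (hp i) hw.symm
    refine ⟨i, AlgSp.EtOver.mk ((AlgSp.yon S).map s) ((AlgSp.repWith_yon_map_iff _ _).2 hs),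
      AlgSp.EtOver.homMk t hsq, r, hr⟩
  choose i U c hc using hpt
  refine ⟨Sieve.ofArrows (fun x => (compE (hp (i x))).obj (U x)) c,
    AlgSp.ofArrows_mem_etTop _ _ fun x => ⟨x, hc x⟩, fun Z g hg _ => ?_⟩
  obtain ⟨x, a, -⟩ := Sieve.mem_ofArrows_iff _ _ _ |>.1 hg
  exact fun A B f b hA hB => isBCUnder_of_restr (hp (i x)) (h (i x)) (U x) f (b ≫ a) hA hB

/-- Inverse images along representable morphisms preserve quasi-coherence. -/
theorem isQuasicoherent_pullModEt_rep (hY : AlgSp.IsAlgSpace Y) {f : X ⟶ Y} (hf : AlgSp.Representable f)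
    [(SheafOfModules.pushforward.{u + 1} (AlgSp.bcRingHom hf)).IsRightAdjoint]
    (G : AlgSp.ModEt Y) [G.IsQuasicoherent] : ((AlgSp.pullModEt hf).obj G).IsQuasicoherent := by
  rw [isQuasicoherent_iff]
  have hG := (isQuasicoherent_iff G).1 inferInstance
  refine qc_of_family (ι := {E : AlgSp.EtOver Y // Aff Y E}) (fun E => (AlgSp.EtOver.bcObj hf E.1).obj.hom)
    (fun E => (AlgSp.EtOver.bcObj hf E.1).property) (fun x => ?_) fun E => qc_pull_local hf hG E.2
  obtain ⟨E, e, hE, he⟩ := exists_affine_chart hY (AlgSp.Points.map f x)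
  obtain ⟨z, hz1, -⟩ := ASp.points_exists_of_isPullback (hf.isPullback E.obj.hom) x
    (AlgSp.Points.ofScheme E.obj.left e) (by rw [← AlgSp.Points.ofPt_eq_map_ofScheme]; exact he.symm)
  obtain ⟨w, rfl⟩ := (AlgSp.Points.schemeHomeo (AlgSp.EtOver.bcObj hf E).obj.left).surjective z
  exact ⟨⟨E, hE⟩, w, by rw [ASp.ofPt_comp_eq_map]; exact hz1⟩

end Main

end Groth.Agent.AlgSpQC

end
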