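import Groth.Agent.AlgSpQC.PushFF
import Groth.Agent.AlgSpQC.Push
import Groth.Agent.AlgSpQC.WeakAssMain
import Groth.Agent.ASp.EtPushImage

/-!
# Modules annihilated by the ideal of a closed subspace are direct images
-/

set_option autoImplicit false
set_option linter.style.haveILetI false
set_option linter.unusedSectionVars false
set_option backward.isDefEq.respectTransparency false
set_option backward.isDefEq.respectTransparency.types false
set_option maxHeartbeats 1600000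

universe u

open CategoryTheory Limits AlgebraicGeometry Opposite

noncomputable section

namespace Groth.Agent.AlgSpQC

variable {S : Scheme.{u}} {Z X : AlgSp.Space S} (i : Z ⟶ X) (hi : AlgSp.RepWith @IsClosedImmersion i.hom)

/-- Being annihilated by the kernel of `O_X ⟶ i_* O_Z`. -/
def Killed (F : AlgSp.ModEt X.obj) : Prop :=
  ∀ W, Aff X.obj W → ∀ c : (AlgSp.OEt X.obj).obj.obj (op W), rπ hi.1 W c = 0 →
    ∀ t : Sec F W, c • t = 0

theorem rπ_res {E E' : AlgSp.EtOver X.obj} (g : E' ⟶ E) (b : (AlgSp.OEt X.obj).obj.obj (op E)) :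
    rπ hi.1 E' (rh (AlgSp.OEt X.obj).obj g b) =
      rh (AlgSp.OEt Z.obj).obj ((AlgSp.EtOver.bc hi.1).map g) (rπ hi.1 E b) :=
  NatTrans.naturality_apply (AlgSp.bcRingHom hi.1).hom g.op b

/-- Direct images are annihilated by the kernel. -/
theorem killed_push (G : AlgSp.ModEt Z.obj) : Killed i hi ((AlgSp.pushModEt hi.1).obj G) := fun W _ c hc t => by
  show (rπ hi.1 W c) • (show G.val.obj (op ((AlgSp.EtOver.bc hi.1).obj W)) from t) = 0
  rw [hc]
  exact zero_smul _ _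

variable {i hi} {F : AlgSp.ModEt X.obj}

theorem res_smul {E E' : AlgSp.EtOver X.obj} (g : E' ⟶ E) (b : (AlgSp.OEt X.obj).obj.obj (op E)) (s : Sec F E) :
    (show Sec F E' from res (O := (AlgSp.OEt X.obj).obj) F.val g (b • s)) =
      rh (AlgSp.OEt X.obj).obj g b • (show Sec F E' from res (O := (AlgSp.OEt X.obj).obj) F.val g s) :=
  F.val.map_smul g.op b s

theorem Killed.all (hk : Killed i hi F) (W : AlgSp.EtOver X.obj) (c : (AlgSp.OEt X.obj).obj.obj (op W))
    (hc : rπ hi.1 W c = 0) (t : Sec F W) : c • t = 0 :=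
  eq_zero_of_affine (M := F) (U := W) (c • t) fun A k hA => by
    refine (res_smul k c t).trans ?_
    exact hk A hA _ (by rw [rπ_res i hi, hc, map_zero]) _

theorem Killed.smul_eq (hk : Killed i hi F) (W : AlgSp.EtOver X.obj) (b b' : (AlgSp.OEt X.obj).obj.obj (op W))
    (hb : rπ hi.1 W b = rπ hi.1 W b') (t : Sec F W) : b • t = b' • t := by
  rw [← sub_eq_zero, ← sub_smul]
  exact hk.all W _ (by rw [map_sub, hb, sub_self]) t

theorem Killed.subsingleton_offImage (hk : Killed i hi F) (E : AlgSp.EtOver X.obj)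
    (hE : ASp.OffImage i.hom E) : Subsingleton (Sec F E) := by
  refine ⟨fun s t => ?_⟩
  rw [← sub_eq_zero]
  refine eq_zero_of_affine (M := F) (U := E) (s - t) fun A k hA => ?_
  haveI := (hE.of_hom k).isEmpty_bc (hf := hi.1)
  haveI : Subsingleton ((AlgSp.OEt Z.obj).obj.obj (op ((AlgSp.EtOver.bc hi.1).obj A))) :=
    (upEquiv Z.obj ((AlgSp.EtOver.bc hi.1).obj A)).symm.toEquiv.subsingleton
  exact (one_smul _ _).symm.trans (hk.all A 1 (Subsingleton.elim _ _) _)

variable (i hi) in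
theorem imageSieve_ring_mem {E : AlgSp.EtOver X.obj}
    (a : (AlgSp.OEt Z.obj).obj.obj (op ((AlgSp.EtOver.bc hi.1).obj E))) :
    ∃ R ∈ AlgSp.etTop X.obj E, ∀ {W : AlgSp.EtOver X.obj} (g : W ⟶ E), R g ↔
      ∃ b, rπ hi.1 W b = rh (AlgSp.OEt Z.obj).obj ((AlgSp.EtOver.bc hi.1).map g) a :=
  ⟨_, (Groth.Agent.S9987.result i hi).imageSieve_mem (U := E) a, fun _ => Iff.rfl⟩

theorem Killed.exists_act (hk : Killed i hi F) {E : AlgSp.EtOver X.obj}
    (a : (AlgSp.OEt Z.obj).obj.obj (op ((AlgSp.EtOver.bc hi.1).obj E))) (s : Sec F E) :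
    ∃ t : Sec F E, ∀ (W : AlgSp.EtOver X.obj) (g : W ⟶ E) (b : (AlgSp.OEt X.obj).obj.obj (op W)),
      rπ hi.1 W b = rh (AlgSp.OEt Z.obj).obj ((AlgSp.EtOver.bc hi.1).map g) a →
        (show Sec F W from res (O := (AlgSp.OEt X.obj).obj) F.val g t) =
          b • (show Sec F W from res (O := (AlgSp.OEt X.obj).obj) F.val g s) := by
  obtain ⟨R, hR, hR'⟩ := imageSieve_ring_mem i hi a
  have hs : Presieve.IsSheafFor (F.val.presheaf ⋙ forget _) R.arrows :=
    (isSheaf_iff_isSheaf_of_type (AlgSp.etTop X.obj) (F.val.presheaf ⋙ forget _)).1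
      ((Presheaf.isSheaf_iff_isSheaf_forget _ _ (forget _)).1 F.isSheaf) R hR
  let x : Presieve.FamilyOfElements (F.val.presheaf ⋙ forget _) R.arrows := fun W g hg =>
    (show Sec F W from ((hR' g).1 hg).choose • (show Sec F W from res (O := (AlgSp.OEt X.obj).obj) F.val g s))
  have hx : x.Compatible := by
    intro A B C k₁ k₂ g₁ g₂ hg₁ hg₂ e
    have h1 := ((hR' g₁).1 hg₁).choose_spec
    have h2 := ((hR' g₂).1 hg₂).choose_spec
    refine (res_smul k₁ _ _).trans (Eq.trans ?_ (res_smul k₂ _ _).symm)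
    rw [show res (O := (AlgSp.OEt X.obj).obj) F.val k₁ (res (O := (AlgSp.OEt X.obj).obj) F.val g₁ s) =
      res (O := (AlgSp.OEt X.obj).obj) F.val k₂ (res (O := (AlgSp.OEt X.obj).obj) F.val g₂ s) from
      (res_comp _ _ _ _).symm.trans ((congrArg (fun g => res (O := (AlgSp.OEt X.obj).obj) F.val g s) e).trans
        (res_comp _ _ _ _))]
    refine hk.smul_eq C _ _ ?_ _
    rw [rπ_res i hi, rπ_res i hi, h1, h2, ← RingHom.comp_apply, ← RingHom.comp_apply]
    refine congrArg (fun φ : (AlgSp.OEt Z.obj).obj.obj (op ((AlgSp.EtOver.bc hi.1).obj E)) →+* _ => φ a) ?_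
    rw [rh, rh, rh, rh, ← CommRingCat.hom_comp, ← CommRingCat.hom_comp, ← Functor.map_comp, ← Functor.map_comp,
      ← op_comp, ← op_comp, ← Functor.map_comp, ← Functor.map_comp, e]
  refine ⟨hs.amalgamate x hx, fun W g b hb => ?_⟩
  have hg : R g := (hR' g).2 ⟨b, hb⟩
  refine (hs.valid_glue hx g hg).trans (hk.smul_eq W _ _ ?_ _)
  exact ((hR' g).1 hg).choose_spec.trans hb.symm

/-- The action of functions on the subspace on an annihilated module. -/
def Killed.act (hk : Killed i hi F) {E : AlgSp.EtOver X.obj}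
    (a : (AlgSp.OEt Z.obj).obj.obj (op ((AlgSp.EtOver.bc hi.1).obj E))) (s : Sec F E) : Sec F E :=
  (hk.exists_act a s).choose

theorem Killed.act_spec (hk : Killed i hi F) {E : AlgSp.EtOver X.obj}
    (a : (AlgSp.OEt Z.obj).obj.obj (op ((AlgSp.EtOver.bc hi.1).obj E))) (s : Sec F E) {W : AlgSp.EtOver X.obj}
    (g : W ⟶ E) {b : (AlgSp.OEt X.obj).obj.obj (op W)}
    (hb : rπ hi.1 W b = rh (AlgSp.OEt Z.obj).obj ((AlgSp.EtOver.bc hi.1).map g) a) :
    (show Sec F W from res (O := (AlgSp.OEt X.obj).obj) F.val g (hk.act a s)) =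
      b • (show Sec F W from res (O := (AlgSp.OEt X.obj).obj) F.val g s) :=
  (hk.exists_act a s).choose_spec W g b hb

variable (i hi) in
/-- Two sections agreeing wherever finitely many functions on the subspace lift are equal. -/
theorem ext_of_lifts {E : AlgSp.EtOver X.obj}
    (a a' : (AlgSp.OEt Z.obj).obj.obj (op ((AlgSp.EtOver.bc hi.1).obj E))) {s t : Sec F E}
    (h : ∀ (W : AlgSp.EtOver X.obj) (g : W ⟶ E) (b b' : (AlgSp.OEt X.obj).obj.obj (op W)),
      rπ hi.1 W b = rh (AlgSp.OEt Z.obj).obj ((AlgSp.EtOver.bc hi.1).map g) a →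
      rπ hi.1 W b' = rh (AlgSp.OEt Z.obj).obj ((AlgSp.EtOver.bc hi.1).map g) a' →
        res (O := (AlgSp.OEt X.obj).obj) F.val g s = res (O := (AlgSp.OEt X.obj).obj) F.val g t) : s = t := by
  obtain ⟨R, hR, hR'⟩ := imageSieve_ring_mem i hi a
  obtain ⟨R₂, hR₂, hR₂'⟩ := imageSieve_ring_mem i hi a'
  refine sep F (U := E) ((AlgSp.etTop X.obj).intersection_covering hR hR₂) fun W g hg => ?_
  obtain ⟨b, hb⟩ := (hR' g).1 hg.1
  obtain ⟨b', hb'⟩ := (hR₂' g).1 hg.2
  exact h W g b b' hb hb'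

theorem Killed.act_res (hk : Killed i hi F) {E E' : AlgSp.EtOver X.obj} (k : E' ⟶ E)
    (a : (AlgSp.OEt Z.obj).obj.obj (op ((AlgSp.EtOver.bc hi.1).obj E))) (s : Sec F E) :
    (show Sec F E' from res (O := (AlgSp.OEt X.obj).obj) F.val k (hk.act a s)) =
      hk.act (rh (AlgSp.OEt Z.obj).obj ((AlgSp.EtOver.bc hi.1).map k) a)
        (show Sec F E' from res (O := (AlgSp.OEt X.obj).obj) F.val k s) := by
  refine ext_of_lifts i hi (rh (AlgSp.OEt Z.obj).obj ((AlgSp.EtOver.bc hi.1).map k) a) 0 fun W g b b' hb _ => ?_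
  refine Eq.trans ?_ (hk.act_spec _ _ g hb).symm
  rw [← res_comp, ← res_comp]
  refine hk.act_spec a s (g ≫ k) ?_
  rw [hb, ← RingHom.comp_apply, rh, rh, rh, ← CommRingCat.hom_comp, ← Functor.map_comp, ← op_comp, ← Functor.map_comp]

theorem Killed.act_rπ (hk : Killed i hi F) {E : AlgSp.EtOver X.obj} (b : (AlgSp.OEt X.obj).obj.obj (op E))
    (s : Sec F E) : hk.act (rπ hi.1 E b) s = b • s := by
  refine ext_of_lifts i hi (rπ hi.1 E b) 0 fun W g b' _ hb' _ => ?_
  refine (hk.act_spec _ _ g hb').trans ?_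
  refine Eq.trans ?_ (res_smul g b s).symm
  exact hk.smul_eq W _ _ (hb'.trans (rπ_res i hi g b).symm) _

theorem Killed.one_act (hk : Killed i hi F) {E : AlgSp.EtOver X.obj} (s : Sec F E) : hk.act 1 s = s := by
  rw [← map_one (rπ hi.1 E), hk.act_rπ, one_smul]

theorem Killed.act_add (hk : Killed i hi F) {E : AlgSp.EtOver X.obj}
    (a : (AlgSp.OEt Z.obj).obj.obj (op ((AlgSp.EtOver.bc hi.1).obj E))) (s t : Sec F E) :
    hk.act a (s + t) = hk.act a s + hk.act a t := by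
  refine ext_of_lifts i hi a 0 fun W g b _ hb _ => ?_
  refine (hk.act_spec _ _ g hb).trans ?_
  refine Eq.trans ?_ (map_add (F.val.map g.op).hom (hk.act a s) (hk.act a t)).symm
  refine ((congrArg (b • ·) (map_add (F.val.map g.op).hom s t)).trans (smul_add b _ _)).trans ?_
  exact congrArg₂ (· + ·) (hk.act_spec _ _ g hb).symm (hk.act_spec _ _ g hb).symm

theorem Killed.add_act (hk : Killed i hi F) {E : AlgSp.EtOver X.obj}
    (a a' : (AlgSp.OEt Z.obj).obj.obj (op ((AlgSp.EtOver.bc hi.1).obj E))) (s : Sec F E) :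
    hk.act (a + a') s = hk.act a s + hk.act a' s := by
  refine ext_of_lifts i hi a a' fun W g b b' hb hb' => ?_
  refine (hk.act_spec _ _ g (b := b + b') (by rw [map_add, map_add, hb, hb'])).trans ?_
  refine Eq.trans ?_ (map_add (F.val.map g.op).hom (hk.act a s) (hk.act a' s)).symm
  exact (add_smul b b' _).trans (congrArg₂ (· + ·) (hk.act_spec _ _ g hb).symm (hk.act_spec _ _ g hb').symm)

theorem Killed.mul_act (hk : Killed i hi F) {E : AlgSp.EtOver X.obj}
    (a a' : (AlgSp.OEt Z.obj).obj.obj (op ((AlgSp.EtOver.bc hi.1).obj E))) (s : Sec F E) :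
    hk.act (a * a') s = hk.act a (hk.act a' s) := by
  refine ext_of_lifts i hi a a' fun W g b b' hb hb' => ?_
  refine (hk.act_spec _ _ g (b := b * b') (by rw [map_mul, map_mul, hb, hb'])).trans ?_
  refine Eq.trans ?_ (hk.act_spec a _ g hb).symm
  exact (mul_smul b b' _).trans (congrArg (b • ·) (hk.act_spec _ _ g hb').symm)

section Build

variable (hk : Killed i hi F) (F₀ : AlgSp.AbEt Z.obj)
  (e : (AlgSp.pushEt hi.1 AddCommGrpCat.{u + 1}).obj F₀ ≅ (AlgSp.toAbEt X.obj).obj F)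

/-- The comparison of sections. -/
def eE (E : AlgSp.EtOver X.obj) : (hk = hk) → F₀.obj.obj (op ((AlgSp.EtOver.bc hi.1).obj E)) ≃+ Sec F E :=
  fun _ => (((sheafToPresheaf _ _).mapIso e).app (op E)).addCommGroupIsoToAddEquiv

theorem eE_res {E E' : AlgSp.EtOver X.obj} (g : E' ⟶ E) (x : F₀.obj.obj (op ((AlgSp.EtOver.bc hi.1).obj E))) :
    (eE hk F₀ e E' rfl) (F₀.obj.map ((AlgSp.EtOver.bc hi.1).map g).op x) =
      res (O := (AlgSp.OEt X.obj).obj) F.val g ((eE hk F₀ e E rfl) x) :=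
  NatTrans.naturality_apply e.hom.hom g.op x

/-- Pairs of a function and a section. -/
def pairs : (AlgSp.EtOver Z.obj)ᵒᵖ ⥤ Type (u + 1) where
  obj U := (AlgSp.OEt Z.obj).obj.obj U × F₀.obj.obj U
  map g := TypeCat.ofHom fun p => ((AlgSp.OEt Z.obj).obj.map g p.1, F₀.obj.map g p.2)
  map_id U := by ext p <;> simp
  map_comp f g := by ext p <;> simp

/-- The action on base changes. -/
def actHom : (AlgSp.EtOver.bc hi.1).op ⋙ pairs F₀ ⟶
    (AlgSp.EtOver.bc hi.1).op ⋙ ((sheafCompose (AlgSp.etTop Z.obj) (forget AddCommGrpCat.{u + 1})).obj F₀).obj where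
  app E := TypeCat.ofHom fun p => ((eE hk F₀ e E.unop rfl)).symm (hk.act p.1 ((eE hk F₀ e E.unop rfl) p.2))
  naturality E E' g := by
    ext p
    apply ((eE hk F₀ e E'.unop rfl)).injective
    refine (((eE hk F₀ e E'.unop rfl)).apply_symm_apply _).trans ?_
    refine Eq.trans ?_ (eE_res hk F₀ e g.unop _).symm
    refine Eq.trans ?_ (congrArg (res (O := (AlgSp.OEt X.obj).obj) F.val g.unop)
      (((eE hk F₀ e E.unop rfl)).apply_symm_apply _)).symm
    refine Eq.trans ?_ (hk.act_res g.unop p.1 _).symm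
    exact congrArg (hk.act _) (eE_res hk F₀ e g.unop p.2)

/-- The action of `O_Z`. -/
def actZ : pairs F₀ ⟶ ((sheafCompose (AlgSp.etTop Z.obj) (forget AddCommGrpCat.{u + 1})).obj F₀).obj :=
  haveI := ASp.isCoverDense_bc X.property (bcIntInj_of_closedImmersion i hi)
  haveI := ASp.isLocallyFull_bc (bcIntInj_of_closedImmersion i hi)
  Functor.IsCoverDense.sheafHom (K := AlgSp.etTop Z.obj) (G := AlgSp.EtOver.bc hi.1)
    (ℱ' := (sheafCompose (AlgSp.etTop Z.obj) (forget AddCommGrpCat.{u + 1})).obj F₀) (actHom hk F₀ e)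

/-- Scalar multiplication on sections. -/
def smulZ (U : (AlgSp.EtOver Z.obj)ᵒᵖ) (a : (AlgSp.OEt Z.obj).obj.obj U) (x : F₀.obj.obj U) : F₀.obj.obj U :=
  (actZ hk F₀ e).app U (a, x)

theorem smulZ_res {U V : (AlgSp.EtOver Z.obj)ᵒᵖ} (g : U ⟶ V) (a : (AlgSp.OEt Z.obj).obj.obj U) (x : F₀.obj.obj U) :
    F₀.obj.map g (smulZ hk F₀ e U a x) = smulZ hk F₀ e V ((AlgSp.OEt Z.obj).obj.map g a) (F₀.obj.map g x) := by
  let p : (pairs F₀).obj U := (a, x)
  exact (NatTrans.naturality_apply (actZ hk F₀ e) g p).symm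

theorem smulZ_bc (E : AlgSp.EtOver X.obj) (a : (AlgSp.OEt Z.obj).obj.obj (op ((AlgSp.EtOver.bc hi.1).obj E)))
    (x : F₀.obj.obj (op ((AlgSp.EtOver.bc hi.1).obj E))) :
    (eE hk F₀ e E rfl) (smulZ hk F₀ e _ a x) = hk.act a ((eE hk F₀ e E rfl) x) := by
  haveI := ASp.isCoverDense_bc X.property (bcIntInj_of_closedImmersion i hi)
  haveI := ASp.isLocallyFull_bc (bcIntInj_of_closedImmersion i hi)
  have h := congrArg (fun η => η.app (op E) (a, x))
    (Functor.IsCoverDense.sheafHom_restrict_eq (K := AlgSp.etTop Z.obj) (G := AlgSp.EtOver.bc hi.1)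
      (ℱ' := (sheafCompose (AlgSp.etTop Z.obj) (forget AddCommGrpCat.{u + 1})).obj F₀) (actHom hk F₀ e))
  exact (congrArg ((eE hk F₀ e E rfl)) h).trans (((eE hk F₀ e E rfl)).apply_symm_apply _)

variable (i hi) in
theorem ext_Z (U : (AlgSp.EtOver Z.obj)ᵒᵖ) {x y : F₀.obj.obj U}
    (h : ∀ (E : AlgSp.EtOver X.obj) (m : U ⟶ op ((AlgSp.EtOver.bc hi.1).obj E)),
      F₀.obj.map m x = F₀.obj.map m y) : x = y := by
  haveI := ASp.isCoverDense_bc X.property (bcIntInj_of_closedImmersion i hi)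
  refine ((isSheaf_iff_isSheaf_of_type (AlgSp.etTop Z.obj) (F₀.obj ⋙ forget _)).1
    ((Presheaf.isSheaf_iff_isSheaf_forget _ _ (forget _)).1 F₀.property)).isSeparated _
      ((AlgSp.EtOver.bc hi.1).is_cover_of_isCoverDense (AlgSp.etTop Z.obj) U.unop) |>.ext fun V k hk => ?_
  obtain ⟨⟨E, l, m, rfl⟩⟩ := hk
  show F₀.obj.map (m.op ≫ l.op) x = F₀.obj.map (m.op ≫ l.op) y
  rw [ConcreteCategory.congr_hom (F₀.obj.map_comp m.op l.op) x,
    ConcreteCategory.congr_hom (F₀.obj.map_comp m.op l.op) y]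
  exact congrArg (F₀.obj.map l.op) (h E m.op)

theorem smulZ_one (U : (AlgSp.EtOver Z.obj)ᵒᵖ) (x : F₀.obj.obj U) : smulZ hk F₀ e U 1 x = x := by
  refine ext_Z i hi F₀ U fun E m => ?_
  rw [smulZ_res, map_one]
  exact ((eE hk F₀ e E rfl)).injective ((smulZ_bc hk F₀ e E _ _).trans (hk.one_act _))

theorem smulZ_add (U : (AlgSp.EtOver Z.obj)ᵒᵖ) (a : (AlgSp.OEt Z.obj).obj.obj U) (x y : F₀.obj.obj U) :
    smulZ hk F₀ e U a (x + y) = smulZ hk F₀ e U a x + smulZ hk F₀ e U a y := by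
  refine ext_Z i hi F₀ U fun E m => ?_
  rw [smulZ_res, map_add, map_add, smulZ_res, smulZ_res]
  refine ((eE hk F₀ e E rfl)).injective ?_
  rw [smulZ_bc, map_add, map_add, smulZ_bc, smulZ_bc, hk.act_add]

theorem add_smulZ (U : (AlgSp.EtOver Z.obj)ᵒᵖ) (a a' : (AlgSp.OEt Z.obj).obj.obj U) (x : F₀.obj.obj U) :
    smulZ hk F₀ e U (a + a') x = smulZ hk F₀ e U a x + smulZ hk F₀ e U a' x := by
  refine ext_Z i hi F₀ U fun E m => ?_
  rw [smulZ_res, map_add, map_add, smulZ_res, smulZ_res]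
  refine ((eE hk F₀ e E rfl)).injective ?_
  rw [smulZ_bc, map_add, smulZ_bc, smulZ_bc, hk.add_act]

theorem mul_smulZ (U : (AlgSp.EtOver Z.obj)ᵒᵖ) (a a' : (AlgSp.OEt Z.obj).obj.obj U) (x : F₀.obj.obj U) :
    smulZ hk F₀ e U (a * a') x = smulZ hk F₀ e U a (smulZ hk F₀ e U a' x) := by
  refine ext_Z i hi F₀ U fun E m => ?_
  rw [smulZ_res, map_mul, smulZ_res, smulZ_res]
  refine ((eE hk F₀ e E rfl)).injective ?_
  rw [smulZ_bc, smulZ_bc, smulZ_bc, hk.mul_act]

/-- The module structure on sections. -/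
abbrev moduleZ (U : (AlgSp.EtOver Z.obj)ᵒᵖ) : Module ((AlgSp.OEtRing Z.obj).obj.obj U) (F₀.obj.obj U) :=
  { smul := fun a x => smulZ hk F₀ e U a x
    mul_smul := fun a a' x => mul_smulZ hk F₀ e U a a' x
    one_smul := fun x => smulZ_one hk F₀ e U x
    smul_zero := fun a => left_eq_add.1 ((congrArg (smulZ hk F₀ e U a) (add_zero 0).symm).trans (smulZ_add hk F₀ e U a 0 0))
    smul_add := fun a x y => smulZ_add hk F₀ e U a x y
    add_smul := fun a a' x => add_smulZ hk F₀ e U a a' x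
    zero_smul := fun x => left_eq_add.1 ((congrArg (fun a => smulZ hk F₀ e U a x) (add_zero 0).symm).trans
      (add_smulZ hk F₀ e U 0 0 x)) }

/-- The module on the subspace. -/
def modZ : AlgSp.ModEt Z.obj where
  val :=
    letI := moduleZ hk F₀ e
    PresheafOfModules.ofPresheaf F₀.obj fun {_ _} g a x => smulZ_res hk F₀ e g a x
  isSheaf := F₀.property

/-- Its direct image. -/
def pushModZIso : (AlgSp.pushModEt hi.1).obj (modZ hk F₀ e) ≅ F :=
  (SheafOfModules.fullyFaithfulForget _).preimageIso (PresheafOfModules.isoMk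
    (fun U => LinearEquiv.toModuleIso
      (show ((AlgSp.pushModEt hi.1).obj (modZ hk F₀ e)).val.obj U ≃ₗ[(AlgSp.OEtRing X.obj).obj.obj U] F.val.obj U from
      { toFun := fun x => (eE hk F₀ e U.unop rfl) x
        invFun := fun x => (eE hk F₀ e U.unop rfl).symm x
        left_inv := fun x => (eE hk F₀ e U.unop rfl).symm_apply_apply x
        right_inv := fun x => (eE hk F₀ e U.unop rfl).apply_symm_apply x
        map_add' := fun x y => map_add (eE hk F₀ e U.unop rfl) x y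
        map_smul' := fun r x => (smulZ_bc hk F₀ e U.unop (rπ hi.1 U.unop r) x).trans (hk.act_rπ r _) }))
    (fun U V g => by
      ext x
      exact eE_res hk F₀ e g.unop x))

end Build

theorem Killed.exists_push (hk : Killed i hi F) :
    ∃ G : AlgSp.ModEt Z.obj, Nonempty ((AlgSp.pushModEt hi.1).obj G ≅ F) := by
  obtain ⟨F₀, ⟨e⟩⟩ := ASp.essImage_pushEt_ab X.property (bcIntInj_of_closedImmersion i hi)
    ((AlgSp.toAbEt X.obj).obj F) fun E hE => hk.subsingleton_offImage E hE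
  exact ⟨modZ hk F₀ e, ⟨pushModZIso hk F₀ e⟩⟩

end Groth.Agent.AlgSpQC

end
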