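import Groth.Agent.AlgSpQC.PullRep
import Groth.Agent.AlgSpQC.PushImage

/-!
# Quasi-coherence of modules whose direct image along a closed immersion is quasi-coherent
-/

set_option autoImplicit false
set_option linter.style.haveILetI false
set_option linter.unusedSectionVars false
set_option backward.isDefEq.respectTransparency false
set_option backward.isDefEq.respectTransparency.types false
set_option maxHeartbeats 1600000

universe u

open CategoryTheory Limits AlgebraicGeometry Opposite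

noncomputable section

namespace Groth.Agent.AlgSpQC

section Corep

universe v₁ v₂ v₃ v₄ w₁ w₂ w₃ w₄

variable {A : Type w₁} [Category.{v₁} A] {B : Type w₂} [Category.{v₂} B] {D : Type w₃} [Category.{v₃} D]
  {D' : Type w₄} [Category.{v₄} D']

/-- Uniqueness of a corepresenting object across a fully faithful functor. -/
def isoOfCorepFF {LA : D' ⥤ A} {RA : A ⥤ D'} (adjA : LA ⊣ RA) {LB : D ⥤ B} {RB : B ⥤ D} (adjB : LB ⊣ RB)
    {I : D' ⥤ D} (hI : I.FullyFaithful) {P : A ⥤ B} (c : P ⋙ RB ≅ RA ⋙ I) {G : D'} {F : D} (t : I.obj G ≅ F)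
    {Z : B} (i : Z ≅ LB.obj F) {Q : A} (e : ∀ N, (Q ⟶ N) ≃ (Z ⟶ P.obj N))
    (he : ∀ {N N' : A} (φ : Q ⟶ N) (k : N ⟶ N'), e N' (φ ≫ k) = e N φ ≫ P.map k) : Q ≅ LA.obj G :=
  let Ψ : ∀ N, (LA.obj G ⟶ N) ≃ (Q ⟶ N) := fun N =>
    (adjA.homEquiv G N).trans (hI.homEquiv.trans (((Iso.homCongr t (c.app N).symm).trans
      (adjB.homEquiv F (P.obj N)).symm).trans ((Iso.homCongr i.symm (Iso.refl _)).trans (e N).symm)))
  have hΨ : ∀ {N N' : A} (φ : LA.obj G ⟶ N) (k : N ⟶ N'), Ψ N' (φ ≫ k) = Ψ N φ ≫ k := by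
    intro N N' φ k
    apply (e N').injective
    rw [he]
    have hn := c.inv.naturality k
    dsimp at hn
    simp [Ψ, Functor.FullyFaithful.homEquiv, Adjunction.homEquiv_naturality_right,
      ← Adjunction.homEquiv_naturality_right_symm, hn]
  { hom := Ψ _ (𝟙 _)
    inv := (Ψ _).symm (𝟙 _)
    hom_inv_id := by rw [← hΨ, Category.id_comp, Equiv.apply_symm_apply]
    inv_hom_id := (Ψ _).injective (by rw [hΨ, Equiv.apply_symm_apply, Category.id_comp]) }

end Corep

variable {S : Scheme.{u}} {Z X : AlgSp.Space S} (i : Z ⟶ X) (hi : AlgSp.RepWith @IsClosedImmersion i.hom)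

theorem qc_local_of_push {G : AlgSp.ModEt Z.obj} {F : AlgSp.ModEt X.obj} (t : (AlgSp.pushModEt hi.1).obj G ≅ F)
    (hF : QC F) {E : AlgSp.EtOver X.obj} (hE : Aff X.obj E) :
    QC ((restrMod (AlgSp.EtOver.bcObj hi.1 E).property).obj G) := by
  let V := E.obj.left
  let q : (AlgSp.yon S).obj V ⟶ X.obj := E.obj.hom
  have hq : AlgSp.RepWith @AlgebraicGeometry.Etale q := E.property
  let W := (AlgSp.EtOver.bcObj hi.1 E).obj.left
  let p : (AlgSp.yon S).obj W ⟶ Z.obj := (AlgSp.EtOver.bcObj hi.1 E).obj.hom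
  have hp : AlgSp.RepWith @AlgebraicGeometry.Etale p := (AlgSp.EtOver.bcObj hi.1 E).property
  let g : (AlgSp.yon S).obj W ⟶ (AlgSp.yon S).obj V := (AlgSp.yon S).map (hi.1.snd E.obj.hom)
  have hg : AlgSp.Representable g := AlgSp.representable_yon_map _
  have hsq : p ≫ i.hom = g ≫ q := hi.1.w E.obj.hom
  have he : AlgSp.Representable (p ≫ i.hom) :=
    MorphismProperty.IsStableUnderComposition.comp_mem _ _ hp.1 hi.1
  obtain ⟨P⟩ := nonempty_presentation (O := AlgSp.OEt ((AlgSp.yon S).obj V)) (affSite _) (isTerminalTid V)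
    (qc_restr hq hF) (show Aff _ (Tid V) from hE)
  let r : AlgSp.freeModEt ((AlgSp.yon S).obj V) P.relations.I ⟶ AlgSp.freeModEt ((AlgSp.yon S).obj V) P.generators.I :=
    P.relations.π ≫ kernel.ι P.generators.π
  let k : cokernel r ≅ (restrMod hq).obj F := (colimit.isColimit _).coconePointUniqueUpToIso P.isColimit
  obtain ⟨Q, hQ, e, he'⟩ := exists_pull_coker hg r
  let c : AlgSp.pushModEt hg ⋙ AlgSp.pushModEt hq.1 ≅ AlgSp.pushModEt hp.1 ⋙ AlgSp.pushModEt hi.1 :=
    pushCompIso hg hq.1 he hsq.symm ≪≫ (pushCompIso hp.1 hi.1 he rfl).symm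
  haveI := full_pushModEt i hi
  haveI := faithful_pushModEt i hi
  exact BC.of_iso (O := AlgSp.OEt ((AlgSp.yon S).obj W))
    (isoOfCorepFF (restrAdj hp) (restrAdj hq) (Functor.FullyFaithful.ofFullyFaithful (AlgSp.pushModEt hi.1)) c t k e he') hQ

/-- A module on a closed subspace is quasi-coherent as soon as its direct image is. -/
theorem qc_of_push {G : AlgSp.ModEt Z.obj} {F : AlgSp.ModEt X.obj} (t : (AlgSp.pushModEt hi.1).obj G ≅ F)
    (hF : QC F) : QC G := by
  refine qc_of_family (ι := {E : AlgSp.EtOver X.obj // Aff X.obj E}) (fun E => (AlgSp.EtOver.bcObj hi.1 E.1).obj.hom)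
    (fun E => (AlgSp.EtOver.bcObj hi.1 E.1).property) (fun x => ?_) fun E => qc_local_of_push i hi t hF E.2
  obtain ⟨E, e, hE, he⟩ := exists_affine_chart X.property (AlgSp.Points.map i.hom x)
  obtain ⟨z, hz1, -⟩ := ASp.points_exists_of_isPullback (hi.1.isPullback E.obj.hom) x
    (AlgSp.Points.ofScheme E.obj.left e) (by rw [← AlgSp.Points.ofPt_eq_map_ofScheme]; exact he.symm)
  obtain ⟨w, rfl⟩ := (AlgSp.Points.schemeHomeo (AlgSp.EtOver.bcObj hi.1 E).obj.left).surjective z
  exact ⟨⟨E, hE⟩, w, by rw [ASp.ofPt_comp_eq_map]; exact hz1⟩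

end Groth.Agent.AlgSpQC

end
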