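import Mathlib
import Groth.Agent.AdeqLib.FFFamily

/-!
# Base-change presheaves of modules on a site with affine objects
-/

set_option autoImplicit false
set_option linter.style.haveILetI false
set_option linter.unusedSectionVars false
set_option backward.isDefEq.respectTransparency false
set_option backward.isDefEq.respectTransparency.types false
set_option maxHeartbeats 800000

universe u

open CategoryTheory Limits Opposite TensorProduct
open scoped ChangeOfRings

noncomputable section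

namespace Groth.Agent.AlgSpQC

variable {C : Type (u + 1)} [Category.{u} C] (O : Cᵒᵖ ⥤ CommRingCat.{u + 1})

/-- The presheaf of rings underlying `O`. -/
abbrev Rg : Cᵒᵖ ⥤ RingCat.{u + 1} := O ⋙ forget₂ CommRingCat RingCat

/-- The restriction map of functions. -/
abbrev rh {X Y : C} (f : Y ⟶ X) : O.obj (op X) →+* O.obj (op Y) := (O.map f.op).hom

/-- Evaluation with values in modules over the commutative ring of functions. -/
abbrev evalC (X : C) : PresheafOfModules.{u + 1} (Rg O) ⥤ ModuleCat.{u + 1} (O.obj (op X)) :=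
  PresheafOfModules.evaluation (Rg O) (op X)

/-- Restriction, linearly over the functions. -/
def resC {X Y : C} (f : Y ⟶ X) : evalC O X ⟶ evalC O Y ⋙ ModuleCat.restrictScalars (rh O f) :=
  PresheafOfModules.restriction (Rg O) f.op

/-- The comparison `O(Y) ⊗ P(X) ⟶ P(Y)`. -/
def θ {X Y : C} (f : Y ⟶ X) : evalC O X ⋙ ModuleCat.extendScalars (rh O f) ⟶ evalC O Y :=
  Functor.whiskerRight (resC O f) _ ≫ (Functor.associator _ _ _).hom ≫
    Functor.whiskerLeft (evalC O Y) (ModuleCat.extendRestrictScalarsAdj.{u + 1} (rh O f)).counit ≫ (Functor.rightUnitor _).hom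

variable {O}

/-- Restriction of a section. -/
abbrev res (P : PresheafOfModules.{u + 1} (Rg O)) {X Y : C} (f : Y ⟶ X) (x : P.obj (op X)) : P.obj (op Y) :=
  P.presheaf.map f.op x

theorem res_id (P : PresheafOfModules.{u + 1} (Rg O)) {X : C} (x : P.obj (op X)) : res P (𝟙 X) x = x :=
  ConcreteCategory.congr_hom (P.presheaf.map_id (op X)) x

theorem res_comp (P : PresheafOfModules.{u + 1} (Rg O)) {X Y Z : C} (f : Y ⟶ X) (g : Z ⟶ Y) (x : P.obj (op X)) :
    res P (g ≫ f) x = res P g (res P f x) :=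
  ConcreteCategory.congr_hom (P.presheaf.map_comp f.op g.op) x

theorem θ_tmul (P : PresheafOfModules.{u + 1} (Rg O)) {X Y : C} (f : Y ⟶ X) (s : O.obj (op Y))
    (x : P.obj (op X)) :
    (θ O f).app P (s ⊗ₜ[O.obj (op X),rh O f] x) = s • (show (evalC O Y).obj P from res P f x) := by
  rfl

/-- The data making `C` behave like a site of étale maps between schemes. -/
structure AffSite (J : GrothendieckTopology C) (O : Cᵒᵖ ⥤ CommRingCat.{u + 1}) (Aff : C → Prop) : Prop where
  flat : ∀ {X Y : C} (f : Y ⟶ X), Aff X → Aff Y → (rh O f).Flat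
  exists_affine : ∀ X : C, ∃ S ∈ J X, ∀ ⦃Y : C⦄ (g : Y ⟶ X), S.arrows g →
    ∃ (Z : C) (h : Y ⟶ Z) (k : Z ⟶ X), Aff Z ∧ h ≫ k = g
  refine_cover : ∀ {X : C}, Aff X → ∀ S ∈ J X, ∃ (n : ℕ) (Z : Fin n → C) (f : ∀ i, Z i ⟶ X),
    (∀ i, Aff (Z i)) ∧ (∀ i, S.arrows (f i)) ∧ ∀ p : PrimeSpectrum (O.obj (op X)),
      ∃ (i : Fin n) (q : PrimeSpectrum (O.obj (op (Z i)))), PrimeSpectrum.comap (rh O (f i)) q = p
  covers : ∀ {X : C}, Aff X → ∀ {n : ℕ} {Z : Fin n → C} (f : ∀ i, Z i ⟶ X), (∀ i, Aff (Z i)) →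
    (∀ p : PrimeSpectrum (O.obj (op X)),
      ∃ (i : Fin n) (q : PrimeSpectrum (O.obj (op (Z i)))), PrimeSpectrum.comap (rh O (f i)) q = p) →
    Sieve.ofArrows Z f ∈ J X
  exists_fibre : ∀ {X Y Z : C} (f : Y ⟶ X) (g : Z ⟶ X), Aff X → Aff Y → Aff Z →
    ∃ (W : C) (h : W ⟶ Y) (k : W ⟶ Z), Aff W ∧ h ≫ f = k ≫ g ∧ IsPullback h k f g ∧
      IsPushout (O.map f.op) (O.map g.op) (O.map h.op) (O.map k.op)

variable {J : GrothendieckTopology C} {Aff : C → Prop}

/-- Values on affine objects are determined by base change. -/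
def IsBC (Aff : C → Prop) (P : PresheafOfModules.{u + 1} (Rg O)) : Prop :=
  ∀ ⦃X Y : C⦄ (f : Y ⟶ X), Aff X → Aff Y → IsIso ((θ O f).app P)

theorem IsBC.bijective {P : PresheafOfModules.{u + 1} (Rg O)} (hP : IsBC Aff P) {X Y : C} (f : Y ⟶ X)
    (hX : Aff X) (hY : Aff Y) : Function.Bijective ((θ O f).app P) :=
  haveI := hP f hX hY
  ConcreteCategory.bijective_of_isIso _

theorem isBC_of_iso {P Q : PresheafOfModules.{u + 1} (Rg O)} (e : P ≅ Q) (hP : IsBC Aff P) : IsBC Aff Q :=
  fun _ _ f hX hY => by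
  haveI := hP f hX hY
  exact ((MorphismProperty.isomorphisms _).arrow_mk_iso_iff
    (Arrow.isoMk ((evalC O _ ⋙ ModuleCat.extendScalars (rh O f)).mapIso e) ((evalC O _).mapIso e)
      ((θ O f).naturality e.hom))).1 (MorphismProperty.isomorphisms.iff _ |>.2 ‹IsIso ((θ O f).app P)›)

section Family

variable {P : PresheafOfModules.{u + 1} (Rg O)} {X : C} {n : ℕ} {Z : Fin n → C} {f : ∀ i, Z i ⟶ X}

theorem faithfullyFlat_family (H : AffSite J O Aff) (hX : Aff X) (hZ : ∀ i, Aff (Z i))
    (hs : ∀ p : PrimeSpectrum (O.obj (op X)),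
      ∃ (i : Fin n) (q : PrimeSpectrum (O.obj (op (Z i)))), PrimeSpectrum.comap (rh O (f i)) q = p) :
    letI : ∀ i : ULift.{u + 1} (Fin n), Algebra (O.obj (op X)) (O.obj (op (Z i.down))) := fun i =>
      (rh O (f i.down)).toAlgebra
    Module.FaithfullyFlat (O.obj (op X)) (∀ i : ULift.{u + 1} (Fin n), O.obj (op (Z i.down))) := by
  letI : ∀ i : ULift.{u + 1} (Fin n), Algebra (O.obj (op X)) (O.obj (op (Z i.down))) := fun i =>
    (rh O (f i.down)).toAlgebra
  haveI : ∀ i : ULift.{u + 1} (Fin n), Module.Flat (O.obj (op X)) (O.obj (op (Z i.down))) := fun i =>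
    H.flat (f i.down) hX (hZ _)
  haveI : Module.Flat (O.obj (op X)) (∀ i : ULift.{u + 1} (Fin n), O.obj (op (Z i.down))) :=
    Module.Flat.of_linearEquiv (DFinsupp.linearEquivFunOnFintype (R := O.obj (op X))).symm
  refine Module.FaithfullyFlat.of_comap_surjective fun p => ?_
  obtain ⟨i, q, hq⟩ := hs p
  refine ⟨PrimeSpectrum.comap (Pi.evalRingHom (fun i : ULift.{u + 1} (Fin n) => O.obj (op (Z i.down))) ⟨i⟩) q, ?_⟩
  rw [← hq, ← PrimeSpectrum.comap_comp_apply]
  rfl

/-- Sections of a base-change presheaf vanishing on an affine covering family vanish. -/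
theorem IsBC.eq_zero (H : AffSite J O Aff) (hP : IsBC Aff P) (hX : Aff X) (hZ : ∀ i, Aff (Z i))
    (hs : ∀ p : PrimeSpectrum (O.obj (op X)),
      ∃ (i : Fin n) (q : PrimeSpectrum (O.obj (op (Z i)))), PrimeSpectrum.comap (rh O (f i)) q = p)
    (x : P.obj (op X)) (hx : ∀ i, res P (f i) x = 0) : x = 0 := by
  letI : ∀ i : ULift.{u + 1} (Fin n), Algebra (O.obj (op X)) (O.obj (op (Z i.down))) := fun i =>
    (rh O (f i.down)).toAlgebra
  haveI := faithfullyFlat_family (f := f) H hX hZ hs
  refine (AdeqLib.amitsur_family (R := O.obj (op X)) (fun i : ULift.{u + 1} (Fin n) => (O.obj (op (Z i.down)) : Type (u + 1)))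
    ((evalC O X).obj P)).1 x fun i => ?_
  refine (hP.bijective (f i.down) hX (hZ _)).1 (Eq.trans ?_ (map_zero _).symm)
  refine (θ_tmul P (f i.down) 1 x).trans ?_
  rw [hx i.down]
  exact smul_zero _

/-- Sections agreeing on fibre products glue. -/
theorem IsBC.glue (H : AffSite J O Aff) (hP : IsBC Aff P) (hX : Aff X) (hZ : ∀ i, Aff (Z i))
    (hs : ∀ p : PrimeSpectrum (O.obj (op X)),
      ∃ (i : Fin n) (q : PrimeSpectrum (O.obj (op (Z i)))), PrimeSpectrum.comap (rh O (f i)) q = p)
    (y : ∀ i, P.obj (op (Z i)))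
    (hy : ∀ i j (W : C) (h : W ⟶ Z i) (k : W ⟶ Z j), Aff W → h ≫ f i = k ≫ f j → res P h (y i) = res P k (y j)) :
    ∃ x, ∀ i, res P (f i) x = y i := by
  letI : ∀ i : ULift.{u + 1} (Fin n), Algebra (O.obj (op X)) (O.obj (op (Z i.down))) := fun i =>
    (rh O (f i.down)).toAlgebra
  haveI := faithfullyFlat_family (f := f) H hX hZ hs
  choose z hz using fun i : ULift.{u + 1} (Fin n) => (hP.bijective (f i.down) hX (hZ i.down)).2 (y i.down)
  obtain ⟨x, hx⟩ := (AdeqLib.amitsur_family (R := O.obj (op X))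
    (fun i : ULift.{u + 1} (Fin n) => (O.obj (op (Z i.down)) : Type (u + 1))) ((evalC O X).obj P)).2 z
    fun i j => by
    obtain ⟨W, h, k, hW, e, -, hpo⟩ := H.exists_fibre (f i.down) (f j.down) hX (hZ _) (hZ _)
    let ψ : CommRingCat.of (O.obj (op (Z i.down)) ⊗[O.obj (op X)] O.obj (op (Z j.down))) ≅ O.obj (op W) :=
      (CommRingCat.isPushout_tensorProduct (O.obj (op X)) (O.obj (op (Z i.down))) (O.obj (op (Z j.down)))).isoIsPushout
        _ _ hpo
    have hl : ∀ a, ψ.hom.hom (a ⊗ₜ[O.obj (op X)] (1 : O.obj (op (Z j.down)))) = rh O h a := fun a =>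
      ConcreteCategory.congr_hom ((CommRingCat.isPushout_tensorProduct (O.obj (op X)) (O.obj (op (Z i.down)))
        (O.obj (op (Z j.down)))).inl_isoIsPushout_hom _ _ hpo) a
    have hr : ∀ b, ψ.hom.hom ((1 : O.obj (op (Z i.down))) ⊗ₜ[O.obj (op X)] b) = rh O k b := fun b =>
      ConcreteCategory.congr_hom ((CommRingCat.isPushout_tensorProduct (O.obj (op X)) (O.obj (op (Z i.down)))
        (O.obj (op (Z j.down)))).inr_isoIsPushout_hom _ _ hpo) b
    letI : Algebra (O.obj (op X)) (O.obj (op W)) := (rh O (h ≫ f i.down)).toAlgebra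
    have hψ : ∀ r : O.obj (op X), ψ.hom.hom (algebraMap (O.obj (op X)) _ r) = algebraMap (O.obj (op X)) (O.obj (op W)) r :=
      fun r => (hl _).trans (ConcreteCategory.congr_hom (O.map_comp (f i.down).op h.op) r).symm
    let ψl : O.obj (op (Z i.down)) ⊗[O.obj (op X)] O.obj (op (Z j.down)) →ₐ[O.obj (op X)] O.obj (op W) :=
      { ψ.hom.hom with commutes' := hψ }
    let Φ := (θ O (h ≫ f i.down)).app P
    have hΦ := hP.bijective (h ≫ f i.down) hX hW
    have hinj : Function.Injective (ψl.toLinearMap.rTensor ((evalC O X).obj P)) :=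
      ((LinearEquiv.rTensor _ (LinearEquiv.ofBijective ψl.toLinearMap
        (ConcreteCategory.bijective_of_isIso ψ.hom))).injective)
    refine hinj (hΦ.1 ?_)
    have hL : ∀ w, Φ (ψl.toLinearMap.rTensor ((evalC O X).obj P)
        ((Algebra.TensorProduct.includeLeft (R := O.obj (op X)) (S := O.obj (op X)) (A := O.obj (op (Z i.down)))
          (B := O.obj (op (Z j.down)))).toLinearMap.rTensor ((evalC O X).obj P) w)) =
        res P h ((θ O (f i.down)).app P w) := by
      intro w
      induction w using TensorProduct.induction_on with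
      | zero =>
        simp only [map_zero]
      | tmul a x =>
        refine (θ_tmul P _ (ψ.hom.hom (a ⊗ₜ 1)) x).trans ?_
        rw [hl, res_comp]
        exact (P.map_smul h.op a _).symm
      | add a b ha hb =>
        simp only [map_add]
        exact congrArg₂ (· + ·) ha hb
    have hR : ∀ w, Φ (ψl.toLinearMap.rTensor ((evalC O X).obj P)
        ((Algebra.TensorProduct.includeRight (R := O.obj (op X)) (A := O.obj (op (Z i.down)))
          (B := O.obj (op (Z j.down)))).toLinearMap.rTensor ((evalC O X).obj P) w)) =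
        res P k ((θ O (f j.down)).app P w) := by
      intro w
      induction w using TensorProduct.induction_on with
      | zero =>
        simp only [map_zero]
      | tmul a x =>
        refine (θ_tmul P _ (ψ.hom.hom (1 ⊗ₜ a)) x).trans ?_
        rw [hr, e, res_comp]
        exact (P.map_smul k.op a _).symm
      | add a b ha hb =>
        simp only [map_add]
        exact congrArg₂ (· + ·) ha hb
    rw [hL, hR, hz, hz]
    exact hy _ _ W h k hW e
  refine ⟨x, fun i => ?_⟩
  refine Eq.trans ?_ ((congrArg _ (hx ⟨i⟩)).trans (hz ⟨i⟩))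
  exact ((θ_tmul P (f i) 1 x).trans (one_smul _ _)).symm

end Family

/-- The sheafification map of a base-change presheaf is bijective on affine objects. -/
theorem IsBC.bijective_app (H : AffSite J O Aff) {P : PresheafOfModules.{u + 1} (Rg O)} (hP : IsBC Aff P)
    {Q : PresheafOfModules.{u + 1} (Rg O)} (hQ : Presheaf.IsSheaf J Q.presheaf) (φ : P ⟶ Q)
    [Presheaf.IsLocallyInjective J ((PresheafOfModules.toPresheaf _).map φ)]
    [Presheaf.IsLocallySurjective J ((PresheafOfModules.toPresheaf _).map φ)] {X : C} (hX : Aff X) :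
    Function.Bijective (φ.app (op X)) := by
  let ψ := (PresheafOfModules.toPresheaf _).map φ
  have hinj : ∀ {Y : C}, Aff Y → ∀ x x' : P.obj (op Y), φ.app (op Y) x = φ.app (op Y) x' → x = x' := by
    intro Y hY x x' hxx
    obtain ⟨n, Z, f, hZ, hS, hs⟩ := H.refine_cover hY _ (Presheaf.equalizerSieve_mem J ψ x x' hxx)
    exact sub_eq_zero.1 (hP.eq_zero H hY hZ hs _ fun i =>
      (map_sub (P.presheaf.map (f i).op).hom x x').trans (sub_eq_zero.2 (hS i)))
  refine ⟨hinj hX, fun y => ?_⟩
  obtain ⟨n, Z, f, hZ, hS, hs⟩ := H.refine_cover hX _ (Presheaf.imageSieve_mem J ψ y)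
  choose p hp using hS
  obtain ⟨x, hx⟩ := hP.glue H hX hZ hs p fun i j W h k hW e => hinj hW _ _ (by
    refine (NatTrans.naturality_apply ψ h.op (p i)).trans ?_
    refine Eq.trans ?_ (NatTrans.naturality_apply ψ k.op (p j)).symm
    rw [hp i, hp j]
    show res Q h (res Q (f i) y) = res Q k (res Q (f j) y)
    rw [← res_comp, ← res_comp, e])
  refine ⟨x, ?_⟩
  have hc : ∀ i, Q.presheaf.map (f i).op (φ.app (op X) x) = Q.presheaf.map (f i).op y := fun i =>
    ((NatTrans.naturality_apply ψ (f i).op x).symm.trans (congrArg _ (hx i))).trans (hp i)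
  have hcov : Sieve.ofArrows Z f ∈ J X → φ.app (op X) x = y := fun hm =>
    ((isSheaf_iff_isSheaf_of_type J (Q.presheaf ⋙ forget _)).1
      ((Presheaf.isSheaf_iff_isSheaf_forget J _ (forget _)).1 hQ)).isSeparated _ hm |>.ext fun W g hg => by
        obtain ⟨i, g', rfl⟩ := Sieve.mem_ofArrows_iff _ _ _ |>.1 hg
        show res Q (g' ≫ f i) _ = res Q (g' ≫ f i) y
        rw [res_comp, res_comp]
        exact congrArg _ (hc i)
  exact hcov (H.covers hX f hZ hs)

end Groth.Agent.AlgSpQC

end
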